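import Groth.Agent.Lib.Induce27.Semi
import Groth.Agent.Lib.FlatFactor.OrbitImmersion
import Groth.Agent.Lib.DiagGrp.Bihom
import Groth.Agent.Lib.AlgSp.LqfDescent
import Groth.Prelude.Def_AGF

/-!
# Quotients by observable subgroups are quasi-affine
-/

set_option autoImplicit false

universe u

open CategoryTheory CategoryTheory.Limits MonoidalCategory CartesianMonoidalCategory MonObj GrpObj AlgebraicGeometry VecGrp
open scoped TensorProduct

noncomputable section

namespace GrothLib.Induce27

open GrothLib.Repr Groth.Agent.S11191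

variable {k : Type u} [Field k]

theorem isClosedImmersion_whiskerLeft {A B : Over (Spec (CommRingCat.of k))} (f : A ⟶ B) [IsClosedImmersion f.left] (C : Over (Spec (CommRingCat.of k))) :
    IsClosedImmersion (C ◁ f).left := by
  have e : C ◁ f = (β_ C A).hom ≫ (f ▷ C) ≫ (β_ B C).hom := by ext <;> simp
  have := GrothLib.GrpSchField.whiskerRight_property @IsClosedImmersion f C inferInstance
  have := GrothLib.GrpSchField.isIso_left (β_ C A).hom
  have := GrothLib.GrpSchField.isIso_left (β_ B C).hom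
  rw [e, Over.comp_left, Over.comp_left]
  infer_instance

section Points

variable {X : Over (Spec (CommRingCat.of k))}

theorem pt_hom_id : (pt k k).hom = 𝟙 _ := by
  show Spec.map (CommRingCat.ofHom (algebraMap k k)) = _
  exact (congrArg Spec.map (show CommRingCat.ofHom (algebraMap k k) = 𝟙 _ from rfl)).trans (Spec.map_id _)

theorem pt_w (p : pt k k ⟶ X) : p.left ≫ X.hom = 𝟙 _ := (Over.w p).trans pt_hom_id

theorem exists_pt_over [IsAlgClosed k] [LocallyOfFiniteType X.hom] {x : X.left} (hx : IsClosed ({x} : Set X.left)) :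
    ∃ p : pt k k ⟶ X, p.left (IsLocalRing.closedPoint k) = x :=
  ⟨Over.homMk (pointOfClosedPoint X.hom x hx) ((pointOfClosedPoint_comp X.hom x hx).trans pt_hom_id.symm),
    pointOfClosedPoint_apply X.hom x hx _⟩

theorem isClosed_pt [IsAlgClosed k] [LocallyOfFiniteType X.hom] (p : pt k k ⟶ X) :
    IsClosed ({p.left (IsLocalRing.closedPoint k)} : Set X.left) :=
  (pointEquivClosedPoint X.hom ⟨p.left, pt_w p⟩).2

theorem pt_eq_of_apply [IsAlgClosed k] [LocallyOfFiniteType X.hom] (p q : pt k k ⟶ X)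
    (h : p.left (IsLocalRing.closedPoint k) = q.left (IsLocalRing.closedPoint k)) : p = q :=
  Over.OverMorphism.ext (ext_of_apply_closedPoint_eq X.hom (pt_w p) (pt_w q) h)

end Points

variable {G H X : Over (Spec (CommRingCat.of k))} [GrpObj G] [GrpObj H] {i : H ⟶ G}

theorem lfp_orbit [LocallyOfFiniteType G.hom] [LocallyOfFiniteType X.hom] (φ : G ⟶ X) :
    LocallyOfFinitePresentation φ.left := by
  haveI : IsNoetherianRing (CommRingCat.of k) := inferInstanceAs (IsNoetherianRing k)
  haveI : LocallyOfFinitePresentation (φ.left ≫ X.hom) := by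
    rw [Over.w]; infer_instance
  exact GrothLib.DiagGrp.lfp_of_comp_of_lft _ X.hom ‹_› ‹_›

/-- The quotient by a closed subgroup is separated. -/
theorem isSeparated_quotient [IsMonHom i] [IsClosedImmersion i.left] [LocallyOfFiniteType G.hom]
    (a : AlgGrp.Action G X) (o : 𝟙_ (Over (Spec (CommRingCat.of k))) ⟶ X) (hX : AGF.IsQuotient i X a o) :
    IsSeparated X.hom := by
  obtain ⟨hXlft, hflat, hsurj, hpb⟩ := hX
  haveI := hXlft
  haveI := hflat
  haveI := hsurj
  set φ := a.orbitMap o with hφ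
  haveI := lfp_orbit φ
  let j : G ⊗ H ⟶ G ⊗ G := lift (fst G H) ((G ◁ i) ≫ μ[G])
  let sh : G ⊗ G ⟶ G ⊗ G := lift (fst G G) μ[G]
  let sh' : G ⊗ G ⟶ G ⊗ G := lift (fst G G) ((fst G G)⁻¹ * snd G G)
  have hiso : IsIso sh := ⟨sh', by
    apply CartesianMonoidalCategory.hom_ext
    · simp [sh, sh']
    · simp only [sh, sh', Category.assoc, lift_snd, MonObj.comp_mul, GrpObj.comp_inv, lift_fst, Category.id_comp]
      rw [show μ[G] = fst G G * snd G G by rw [Hom.mul_def, lift_fst_snd, Category.id_comp], inv_mul_cancel_left], by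
    apply CartesianMonoidalCategory.hom_ext
    · simp [sh, sh']
    · simp only [sh, sh', Category.assoc, lift_snd, Category.id_comp]
      rw [show μ[G] = fst G G * snd G G by rw [Hom.mul_def, lift_fst_snd, Category.id_comp], MonObj.comp_mul,
        lift_fst, lift_snd, mul_inv_cancel_left]⟩
  have hj : j = (G ◁ i) ≫ sh := by
    apply CartesianMonoidalCategory.hom_ext <;> simp [j, sh]
  haveI : IsClosedImmersion j.left := by
    haveI := isClosedImmersion_whiskerLeft i G
    haveI := GrothLib.GrpSchField.isIso_left sh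
    rw [hj, Over.comp_left]
    infer_instance
  let p : G ⊗ G ⟶ X ⊗ X := (G ◁ φ) ≫ (φ ▷ X)
  haveI hp1 : Surjective p.left := by
    obtain ⟨_, h2, _⟩ := GrothLib.FlatFactor.cover_whiskerLeft φ G
    haveI := h2
    haveI := GrothLib.GrpSchField.whiskerRight_property @Surjective φ X hsurj
    rw [Over.comp_left]; infer_instance
  haveI hp2 : UniversallyOpen p.left := by
    obtain ⟨h1, _, h3⟩ := GrothLib.FlatFactor.cover_whiskerLeft φ G
    haveI := h1
    haveI := h3
    haveI : UniversallyOpen (φ.left) := inferInstance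
    haveI := GrothLib.GrpSchField.whiskerRight_property @UniversallyOpen φ X inferInstance
    rw [Over.comp_left]; infer_instance
  let Δ : X ⟶ X ⊗ X := lift (𝟙 X) (𝟙 X)
  have hpre : p.left ⁻¹' (Set.range Δ.left) = Set.range j.left := by
    refine Set.Subset.antisymm ?_ ?_
    · rw [← Scheme.Pullback.range_fst]
      rintro _ ⟨t, rfl⟩
      let T : Over (Spec (CommRingCat.of k)) := Over.mk (pullback.fst p.left Δ.left ≫ (G ⊗ G).hom)
      let c : T ⟶ G ⊗ G := Over.homMk (pullback.fst p.left Δ.left) rfl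
      let d : T ⟶ X := Over.homMk (pullback.snd p.left Δ.left) (by
        show pullback.snd p.left Δ.left ≫ X.hom = pullback.fst p.left Δ.left ≫ (G ⊗ G).hom
        rw [← Over.w p, ← Over.w Δ, ← Category.assoc, ← Category.assoc, pullback.condition])
      have hcd : c ≫ p = d ≫ Δ := Over.OverMorphism.ext pullback.condition
      have h1 : (c ≫ fst G G) ≫ φ = d := by
        have := congrArg (· ≫ fst X X) hcd
        simpa [p, Δ] using this
      have h2 : (c ≫ snd G G) ≫ φ = d := by
        have := congrArg (· ≫ snd X X) hcd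
        simpa [p, Δ] using this
      obtain ⟨l, hl1, hl2⟩ : ∃ l : T ⟶ G ⊗ H, l ≫ fst G H = c ≫ fst G G ∧ l ≫ (G ◁ i) ≫ μ[G] = c ≫ snd G G :=
        ⟨hpb.lift _ _ (h1.trans h2.symm), hpb.lift_fst _ _ _, hpb.lift_snd _ _ _⟩
      have hl : l ≫ j = c := by
        apply CartesianMonoidalCategory.hom_ext
        · simpa [j] using hl1
        · simpa [j] using hl2
      exact ⟨l.left t, by rw [← Scheme.Hom.comp_apply, ← Over.comp_left, hl]; rfl⟩
    · rintro _ ⟨t, rfl⟩
      refine ⟨((fst G H) ≫ φ).left t, ?_⟩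
      rw [← Scheme.Hom.comp_apply, ← Scheme.Hom.comp_apply, ← Over.comp_left, ← Over.comp_left]
      have e : (fst G H ≫ φ) ≫ Δ = j ≫ p := by
        apply CartesianMonoidalCategory.hom_ext
        · simp [p, Δ, j]
        · simp only [p, Δ, j, Category.assoc, lift_snd, Category.comp_id]
          simpa [hφ] using hpb.w
      rw [e]
  have hclosed : IsClosed (Set.range Δ.left) := by
    rw [← (p.left.isOpenMap.isQuotientMap p.left.continuous p.left.surjective).isClosed_preimage, hpre]
    exact j.left.isClosedEmbedding.isClosed_range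
  have hd : Δ.left = pullback.diagonal X.hom := by
    apply pullback.hom_ext
    · exact (congrArg (fun f : X ⟶ X => f.left) (lift_fst (𝟙 X) (𝟙 X))).trans (pullback.diagonal_fst X.hom).symm
    · exact (congrArg (fun f : X ⟶ X => f.left) (lift_snd (𝟙 X) (𝟙 X))).trans (pullback.diagonal_snd X.hom).symm
  refine ⟨IsClosedImmersion.of_isPreimmersion _ ?_⟩
  have := hclosed
  rw [hd] at this
  exact this

variable [IsAffine G.left] [Smooth G.hom]

omit [Smooth G.hom] in
/-- A subgroup with quasi-affine quotient is observable. -/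
theorem observable_of_isQuasiAffine [IsMonHom i] (a : AlgGrp.Action G X) (o : 𝟙_ (Over (Spec (CommRingCat.of k))) ⟶ X)
    (hX : AGF.IsQuotient i X a o) [X.left.IsQuasiAffine] [IsAlgClosed k] [Smooth G.hom] :
    AGF.IsObservableIn k i := by
  obtain ⟨-, -, -, hpb⟩ := hX
  intro g hg
  have key : g ≫ a.orbitMap o = (1 : pt k k ⟶ G) ≫ a.orbitMap o := by
    refine Over.OverMorphism.ext ((cancel_mono X.left.toSpecΓ).1 ?_)
    rw [Scheme.toSpecΓ_naturality, Scheme.toSpecΓ_naturality]
    congr 2
    ext F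
    rw [appTop_eq_iff]
    let f : Γ(G.left, ⊤) := fnMap (a.orbitMap o) (F : Fn X)
    have hf : AGF.IsRTransInv i f := by
      show fnMap ((G ◁ i) ≫ μ[G]) (f : Fn G) = fnMap (fst G H) (f : Fn G)
      simp only [f]
      rw [← AlgHom.comp_apply, ← fnMap_comp, ← AlgHom.comp_apply, ← fnMap_comp, hpb.w]
    rw [valAt_comp, valAt_comp]
    have := (isRTransInv_pt_iff g f).1 (hg f hf) 1
    rwa [_root_.one_mul] at this
  obtain ⟨l, hl1, hl2⟩ : ∃ l : pt k k ⟶ G ⊗ H, l ≫ fst G H = 1 ∧ l ≫ (G ◁ i) ≫ μ[G] = g :=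
    ⟨hpb.lift _ _ key.symm, hpb.lift_fst _ _ _, hpb.lift_snd _ _ _⟩
  refine ⟨l ≫ snd G H, ?_⟩
  rw [show l = lift (1 : pt k k ⟶ G) (l ≫ snd G H) from
    CartesianMonoidalCategory.hom_ext _ _ (by rw [lift_fst, hl1]) (by rw [lift_snd]), ← Category.assoc,
    lift_whiskerLeft, ← Hom.mul_def, _root_.one_mul] at hl2
  exact hl2

variable [IsAlgClosed k] [IsAffine H.left] [Smooth H.hom] [IsMonHom i] [IsClosedImmersion i.left]

/-- The quotient by an observable subgroup is quasi-affine. -/
theorem isQuasiAffine_of_observable (a : AlgGrp.Action G X) (o : 𝟙_ (Over (Spec (CommRingCat.of k))) ⟶ X)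
    (hX : AGF.IsQuotient i X a o) (hobs : AGF.IsObservableIn k i) : X.left.IsQuasiAffine := by
  classical
  haveI := isSeparated_quotient a o hX
  obtain ⟨hXlft, hflat, hsurj, hpb⟩ := hX
  haveI := hXlft
  haveI := hflat
  haveI := hsurj
  set φ := a.orbitMap o
  haveI := lfp_orbit φ
  obtain ⟨s, hs, hsep⟩ := exists_separating (k := k) i
  haveI := isAffine_tensor (G := G) (T := H)
  let R := MvPolynomial {f // f ∈ s} k
  let θ : R →ₐ[k] Fn G := MvPolynomial.aeval Subtype.val
  let l : G ⟶ pt k R := (affIso G).hom ≫ ptMap θ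
  haveI : IsAffine (pt k R).left := inferInstanceAs (IsAffine (Spec (CommRingCat.of R)))
  haveI : LocallyOfFiniteType (pt k R).hom := by
    show LocallyOfFiniteType (Spec.map (CommRingCat.ofHom (algebraMap k R)))
    rw [HasRingHomProperty.Spec_iff (P := @LocallyOfFiniteType)]
    exact RingHom.finiteType_algebraMap.2 inferInstance
  have hval : ∀ (x : pt k k ⟶ G) (r : R), valAt (x ≫ l) (fnPt k R r) = valAt x (θ r) := by
    intro x r
    conv_lhs => rw [eq_of_affine x]
    simp only [l, Category.assoc, Iso.inv_hom_id_assoc]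
    rw [valAt_comp, fnMap_ptMap, valAt_ptMap]
  have hlinv : ((G ◁ i) ≫ μ[G]) ≫ l = fst G H ≫ l := by
    haveI : Smooth (G ⊗ H).hom := inferInstance
    refine Over.OverMorphism.ext (ext_of_isAffine ?_)
    ext F
    obtain ⟨r, rfl⟩ := (fnPtEquiv k R).surjective (F : Fn (pt k R))
    show fnMap (((G ◁ i) ≫ μ[G]) ≫ l) (fnPt k R r) = fnMap (fst G H ≫ l) (fnPt k R r)
    refine ext_valAt fun p => ?_
    rw [← valAt_comp, ← valAt_comp]
    obtain ⟨x, t, rfl⟩ : ∃ x t, p = lift x t :=
      ⟨p ≫ fst G H, p ≫ snd G H, by apply CartesianMonoidalCategory.hom_ext <;> simp⟩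
    simp only [← Category.assoc]
    rw [lift_fst, lift_whiskerLeft, ← Hom.mul_def, hval, hval]
    have e : (valAt (x * (t ≫ i))).comp θ = (valAt x).comp θ := MvPolynomial.algHom_ext fun j => by
      simp only [θ, AlgHom.comp_apply, MvPolynomial.aeval_X]
      have := mem_semi_iff.1 (hs _ j.2) x t
      rwa [_root_.one_mul] at this
    exact DFunLike.congr_fun e r
  obtain ⟨q, hq⟩ := GrothLib.DiagGrp.exists_desc φ l fun T y y' hyy => by
    obtain ⟨m, hm1, hm2⟩ : ∃ m : T ⟶ G ⊗ H, m ≫ fst G H = y ∧ m ≫ (G ◁ i) ≫ μ[G] = y' :=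
      ⟨hpb.lift y y' hyy, hpb.lift_fst _ _ _, hpb.lift_snd _ _ _⟩
    rw [← hm1, ← hm2, Category.assoc, Category.assoc, hlinv]
  haveI : JacobsonSpace X.left := LocallyOfFiniteType.jacobsonSpace (Y := Spec _) X.hom
  have hfib : ∀ x x' : X.left, IsClosed ({x} : Set X.left) → IsClosed ({x'} : Set X.left) →
      q.left x' = q.left x → x' = x := by
    intro x x' hx hx' hxx
    have hlift : ∀ x : X.left, IsClosed ({x} : Set X.left) →
        ∃ g : pt k k ⟶ G, (g ≫ φ).left (IsLocalRing.closedPoint k) = x := by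
      intro x hx
      obtain ⟨z, hz⟩ := φ.left.surjective x
      haveI : JacobsonSpace G.left := LocallyOfFiniteType.jacobsonSpace (Y := Spec _) G.hom
      obtain ⟨w, hw, hwc⟩ := nonempty_inter_closedPoints (Z := φ.left ⁻¹' {x}) ⟨z, hz⟩
        (hx.preimage φ.left.continuous).isLocallyClosed
      obtain ⟨g, hg⟩ := exists_pt_over (X := G) hwc
      exact ⟨g, by rw [Over.comp_left, Scheme.Hom.comp_apply, hg]; exact hw⟩
    obtain ⟨g, rfl⟩ := hlift x hx
    obtain ⟨g', rfl⟩ := hlift x' hx'
    have hql : g' ≫ l = g ≫ l := pt_eq_of_apply _ _ (by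
      rw [← hq, ← Category.assoc, ← Category.assoc, Over.comp_left (f := g' ≫ φ), Over.comp_left (f := g ≫ φ),
        Scheme.Hom.comp_apply, Scheme.Hom.comp_apply]
      exact hxx)
    have hagree : ∀ f ∈ s, valAt g f = valAt g' f := fun f hf => by
      have := hval g (MvPolynomial.X ⟨f, hf⟩)
      rw [← hql, hval] at this
      have e : θ (MvPolynomial.X ⟨f, hf⟩) = f := MvPolynomial.aeval_X (R := k) Subtype.val _
      rw [e] at this
      exact this.symm
    obtain ⟨t, ht⟩ := hobs _ (inHull_of_agree (i := i) (hsep g g' hagree))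
    have hgg : g' = g * (t ≫ i) := by rw [ht, mul_inv_cancel_left]
    have e := congrArg (lift g t ≫ ·) hpb.w
    simp only [← Category.assoc, lift_fst, lift_whiskerLeft] at e
    rw [← Hom.mul_def, ← hgg] at e
    rw [← e]
  haveI : LocallyOfFiniteType (q.left ≫ (pt k R).hom) := by rw [Over.w]; infer_instance
  haveI : LocallyOfFiniteType q.left := locallyOfFiniteType_of_comp q.left (pt k R).hom
  haveI : LocallyQuasiFinite q.left := by
    rw [← Scheme.Hom.quasiFiniteLocus_eq_top_iff]
    refine top_le_iff.1 fun y _ => ?_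
    by_contra hy
    obtain ⟨x, hxU, hx⟩ := nonempty_inter_closedPoints
      (Z := (q.left.quasiFiniteLocus : Set X.left)ᶜ) ⟨y, hy⟩
      q.left.quasiFiniteLocus.2.isClosed_compl.isLocallyClosed
    refine hxU ?_
    show x ∈ q.left.quasiFiniteLocus
    rw [Scheme.Hom.mem_quasiFiniteLocus, Scheme.Hom.quasiFiniteAt_iff_isOpen_singleton_asFiber]
    have hqx : IsClosed ({q.left x} : Set (pt k R).left) := by
      obtain ⟨p, hp⟩ := exists_pt_over (X := X) hx
      have := isClosed_pt (p ≫ q)
      rwa [Over.comp_left, Scheme.Hom.comp_apply, hp] at this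
    have hsub : q.left ⁻¹' {q.left x} ⊆ {x} := by
      intro x' hx'
      by_contra hne
      obtain ⟨x'', ⟨h1, h2⟩, h3⟩ := nonempty_inter_closedPoints
        (Z := q.left ⁻¹' {q.left x} ∩ {x}ᶜ) ⟨x', hx', hne⟩
        ((hqx.preimage q.left.continuous).isLocallyClosed.inter hx.isOpen_compl.isLocallyClosed)
      exact h2 (hfib x x'' hx h3 h1)
    haveI : Subsingleton (q.left ⁻¹' {q.left x}) := ⟨fun u v => Subtype.ext ((hsub u.2).trans (hsub v.2).symm)⟩
    haveI : Subsingleton (q.left.fiber (q.left x)) := (q.left.fiberHomeo _).toEquiv.subsingleton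
    exact isOpen_discrete _
  haveI : IsSeparated (q.left ≫ (pt k R).hom) := by rw [Over.w]; infer_instance
  haveI : IsSeparated q.left := IsSeparated.of_comp q.left (pt k R).hom
  haveI : CompactSpace G.left := inferInstance
  haveI : CompactSpace X.left := ⟨by
    rw [← φ.left.surjective.range_eq]
    exact isCompact_range φ.left.continuous⟩
  exact GrothLib.AlgSp.isQuasiAffine_of_lqf q.left

end GrothLib.Induce27
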