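import Groth.Agent.Lib.Induce27.Main
import Groth.Prelude.Def_GmPts

/-!
# Criteria for observability
-/

set_option autoImplicit false

universe u

open CategoryTheory MonoidalCategory CartesianMonoidalCategory MonObj GrpObj AlgebraicGeometry VecGrp
open scoped TensorProduct

noncomputable section

namespace GrothLib.Induce27

open GrothLib.Repr Groth.Agent.S11191

variable {k : Type u} [Field k] [IsAlgClosed k]
  {G H : Over (Spec (CommRingCat.of k))} [GrpObj G] [GrpObj H] [IsAffine G.left] [Smooth G.hom]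
  [IsAffine H.left] [Smooth H.hom] {i : H ⟶ G} [IsMonHom i] [IsClosedImmersion i.left]

omit [IsAlgClosed k] [IsAffine G.left] [Smooth G.hom] in
theorem kAct_mul {V : Type u} [AddCommGroup V] [Module k V] (σ : GMod G V) (x y : pt k k ⟶ G) (v : V) :
    kAct σ (x * y) v = kAct σ x (kAct σ y v) := by
  have h1 : (1 : k) ⊗ₜ[k] kAct σ (x * y) v = (1 : k) ⊗ₜ[k] kAct σ x (kAct σ y v) := by
    rw [← rho_one_tmul, ← rho_one_tmul, ← rho_one_tmul, map_mul, LinearEquiv.mul_apply]
  simpa using congrArg (TensorProduct.lid k V) h1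

omit [IsAlgClosed k] [IsAffine G.left] [Smooth G.hom] in
theorem kAct_one {V : Type u} [AddCommGroup V] [Module k V] (σ : GMod G V) (v : V) :
    kAct σ (1 : pt k k ⟶ G) v = v := by
  have h1 : (1 : k) ⊗ₜ[k] kAct σ (1 : pt k k ⟶ G) v = (1 : k) ⊗ₜ[k] v := by
    rw [← rho_one_tmul, map_one]; rfl
  simpa using congrArg (TensorProduct.lid k V) h1

omit [GrpObj H] in
theorem isUnit_of_valAt {u : Fn H} (hu : ∀ h : pt k k ⟶ H, valAt h u ≠ (0 : k)) : IsUnit u := by
  haveI := finiteType_fn (X := H)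
  by_contra hne
  obtain ⟨z, hz⟩ := GrothLib.AffQuot.exists_point (k := k) (I := Ideal.span {u})
    (fun h => hne (Ideal.span_singleton_eq_top.1 h))
  obtain ⟨x, rfl⟩ := exists_pt_valAt z
  exact hu x (hz u (Ideal.mem_span_singleton_self u))

theorem fnMap_mul_eq (w : Fn H)
    (hw : ∀ h h' : pt k k ⟶ H, valAt (h * h') w = valAt h w * valAt h' w) :
    fnMap μ[H] w = fnMap (fst H H) w * fnMap (snd H H) w := by
  haveI := isAffine_tensor (G := H) (T := H)
  refine ext_valAt fun p => ?_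
  obtain ⟨a, b, rfl⟩ : ∃ a b, p = lift a b :=
    ⟨p ≫ fst H H, p ≫ snd H H, by apply CartesianMonoidalCategory.hom_ext <;> simp⟩
  rw [map_mul, ← valAt_comp, ← valAt_comp, ← valAt_comp, lift_fst, lift_snd, ← Hom.mul_def]
  exact hw a b

theorem valAt_mul_eq (w : Fn H)
    (hw : ∀ h h' : pt k k ⟶ H, valAt (h * h') w = valAt h w * valAt h' w)
    {B : Type u} [CommRing B] [Algebra k B] (g g' : pt k B ⟶ H) :
    valAt (g * g') w = valAt g w * valAt g' w := by
  rw [Hom.mul_def, valAt_comp, fnMap_mul_eq w hw, map_mul, ← valAt_comp, ← valAt_comp, lift_fst, lift_snd]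

/-- the one-dimensional module of a character. -/
def charGMod (w : (Fn H)ˣ)
    (hw : ∀ h h' : pt k k ⟶ H, valAt (h * h') (w : Fn H) = valAt h (w : Fn H) * valAt h' (w : Fn H)) :
    GMod H k where
  ρ B _ _ :=
    { toFun := fun g => LinearEquiv.smulOfUnit (Units.map (valAt g : Fn H →* B) w)
      map_one' := by
        have h1 : valAt (1 : pt k B ⟶ H) (w : Fn H) = 1 := by
          have e := valAt_mul_eq (w : Fn H) hw (1 : pt k B ⟶ H) 1
          rw [_root_.one_mul] at e
          exact (IsUnit.mul_eq_left (w.isUnit.map (valAt (1 : pt k B ⟶ H)))).1 e.symm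
        refine LinearEquiv.ext fun z => ?_
        show (valAt (1 : pt k B ⟶ H) (w : Fn H)) • z = z
        rw [h1, one_smul]
      map_mul' := fun g g' => LinearEquiv.ext fun z => by
        show (valAt (g * g') (w : Fn H)) • z = valAt g (w : Fn H) • valAt g' (w : Fn H) • z
        rw [valAt_mul_eq (w : Fn H) hw, mul_smul] }
  naturality {B B'} _ _ _ _ φ g z := by
    show Wmap φ (valAt g (w : Fn H) • z) = valAt (ptMap φ ≫ g) (w : Fn H) • Wmap φ z
    rw [valAt_ptMap_comp, Wmap_smul]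

/-- If every finite-dimensional module extends, the subgroup is observable. -/
theorem observable_of_extends
    (hext : ∀ (V : Type u) [AddCommGroup V] [Module k V] [Module.Finite k V] (σ : GMod H V),
      σ.ExtendsAlong i) : AGF.IsObservableIn k i := by
  obtain ⟨u, hu0, humul, -, hdet⟩ := exists_key (k := k) i
  let uu := (isUnit_of_valAt hu0).unit
  have hinv : ∀ h : pt k k ⟶ H, valAt h (↑uu⁻¹ : Fn H) = (valAt h u)⁻¹ := fun h => by
    refine eq_inv_of_mul_eq_one_left ?_
    rw [← map_mul, IsUnit.val_inv_mul, map_one]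
  obtain ⟨W, _, _, _, ρ, φ, hφ, heq⟩ := hext k (charGMod uu⁻¹ fun h h' => by
    rw [hinv, hinv, hinv, humul, _root_.mul_inv])
  intro g hg
  refine hdet g fun D hD hD1 => ?_
  have hh : ∀ h : pt k k ⟶ H, kAct ρ (h ≫ i) (φ 1) = (valAt h u)⁻¹ • φ 1 := by
    intro h
    have e := heq k h ((1 : k) ⊗ₜ[k] (1 : k))
    rw [rho_one_tmul, LinearMap.baseChange_tmul, LinearMap.baseChange_tmul, rho_one_tmul] at e
    have e2 := congrArg (TensorProduct.lid k W) e
    simp only [TensorProduct.lid_tmul, one_smul] at e2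
    rw [← e2, ← map_smul]
    congr 1
    show TensorProduct.lid k k ((valAt h (↑uu⁻¹ : Fn H)) • ((1 : k) ⊗ₜ[k] (1 : k))) = _
    rw [hinv, TensorProduct.smul_tmul', TensorProduct.lid_tmul, smul_eq_mul, smul_eq_mul, _root_.mul_one,
      _root_.mul_one]
  have hgw : kAct ρ g (φ 1) ≠ 0 := fun h0 => one_ne_zero (α := k) (hφ (by
    rw [map_zero, ← kAct_one ρ (φ 1), ← inv_mul_cancel g, kAct_mul, h0, map_zero]))
  obtain ⟨α, hα⟩ : ∃ α : Module.Dual k W, α (kAct ρ g (φ 1)) ≠ 0 := by
    by_contra hne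
    push Not at hne
    exact hgw ((Module.forall_dual_apply_eq_zero_iff k _).1 hne)
  have hval : ∀ x : pt k k ⟶ G, valAt x (coeff ρ α (φ 1)) = α (kAct ρ x (φ 1)) := fun x => by
    rw [valAt_coeff, rho_one_tmul, cf_tmul, smul_eq_mul, _root_.mul_one]
  have hmem : D * coeff ρ α (φ 1) ∈ semi i (fun _ => (1 : k)) := by
    intro x h
    simp only [map_mul, hval, mem_semi_iff.1 hD x h, kAct_mul, hh, map_smul, smul_eq_mul, _root_.one_mul]
    field_simp [hu0 h]
  have e := InHull.valAt_eq (i := i) hg hmem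
  rw [map_mul, map_mul, hD1, zero_mul, hval] at e
  exact (mul_eq_zero.1 e).resolve_right hα

/-- A subgroup with only the trivial character is observable. -/
theorem observable_of_character_trivial
    (hχ : ∀ (χ : H ⟶ Red.Gm (Spec (CommRingCat.of k))), IsMonHom χ → χ = 1) :
    AGF.IsObservableIn k i := by
  obtain ⟨u, hu0, humul, -, hdet⟩ := exists_key (k := k) i
  let uu : (Γ(H.left, ⊤))ˣ := (isUnit_of_valAt hu0).unit
  let χ : H ⟶ Red.Gm (Spec (CommRingCat.of k)) := GmPts.ptOfUnit uu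
  have hgm : ∀ {T : Over (Spec (CommRingCat.of k))} (t : T ⟶ H),
      Red.gmFn (t ≫ χ) = fnMap t u := fun t => by
    rw [GmPts.gmFn_comp, GmPts.gmFn_ptOfUnit]
    rfl
  have hmon : IsMonHom χ := GrothLib.GrpSchField.isMonHom_of_mul _ (GmPts.gmFn_injective (by
    show Red.gmFn (μ[H] ≫ χ) = _
    rw [hgm, fnMap_mul_eq u humul]
    show _ = Red.gmFn (_ ≫ μ[Red.Gm (Spec (CommRingCat.of k))])
    rw [show ((χ ⊗ₘ χ) ≫ μ[Red.Gm (Spec (CommRingCat.of k))]) = (fst H H ≫ χ) * (snd H H ≫ χ) by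
      rw [Hom.mul_def]; congr 1,
      GmPts.gmFn_mul, hgm, hgm]
    rfl))
  have h1 := congrArg (fun t => Red.gmFn t) (hχ χ hmon)
  simp only [GmPts.gmFn_one] at h1
  rw [← Category.id_comp χ, hgm, fnMap_id, AlgHom.id_apply] at h1
  intro g hg
  refine hdet g fun D hD hD1 => ?_
  have hD' : D ∈ semi i (fun _ => (1 : k)) := fun x h => by
    rw [mem_semi_iff.1 hD x h]
    rw [show u = (1 : Fn H) from h1, map_one]
  rw [InHull.valAt_eq (i := i) hg hD', hD1]

theorem fixedUnder_of_valAt {V : Type u} [AddCommGroup V] [Module k V] (ρ : GMod G V) (v : V)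
    (h : ∀ t : pt k k ⟶ H, ρ.ρ k (t ≫ i) ((1 : k) ⊗ₜ[k] v) = (1 : k) ⊗ₜ[k] v) :
    v ∈ ρ.fixedUnder i := by
  intro B _ _ t
  refine ext_cf fun α => ?_
  have e : fnMap i (coeff ρ α v) = algebraMap k (Fn H) (α v) := ext_valAt fun y => by
    rw [← valAt_comp, valAt_coeff, h y, cf_tmul, AlgHom.commutes, smul_eq_mul, _root_.mul_one]
    rfl
  rw [← valAt_coeff, valAt_comp, e, AlgHom.commutes, cf_tmul, Algebra.algebraMap_eq_smul_one]

end GrothLib.Induce27
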