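import Mathlib

/-!
# Common eigenvectors of solvable groups of operators with trivial finite conjugation orbits
-/

set_option autoImplicit false

namespace GrothLib.Induce27

variable {k : Type*} [Field k] [IsAlgClosed k] {V : Type*} [AddCommGroup V] [Module k V]
  [FiniteDimensional k V] {Γ : Type*} [Group Γ] (π : Γ →* Module.End k V)

omit [IsAlgClosed k] [FiniteDimensional k V] in
theorem pi_inv_mul (g : Γ) : π g⁻¹ * π g = 1 := by rw [← map_mul, inv_mul_cancel, map_one]

omit [IsAlgClosed k] [FiniteDimensional k V] in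
theorem pi_mul_inv (g : Γ) : π g * π g⁻¹ = 1 := by rw [← map_mul, mul_inv_cancel, map_one]

omit [IsAlgClosed k] [FiniteDimensional k V] in
theorem det_pi_ne_zero (g : Γ) : LinearMap.det (π g) ≠ 0 := by
  intro h
  have := congrArg LinearMap.det (pi_inv_mul π g)
  rw [map_mul, h, mul_zero, map_one] at this
  exact one_ne_zero this.symm

/-- The operator acts by a scalar. -/
def IsScalarOp (a : Module.End k V) : Prop := ∃ c : k, a = c • (1 : Module.End k V)

variable [Nontrivial V]
  (hirr : ∀ U : Submodule k V, (∀ g, ∀ u ∈ U, π g u ∈ U) → U = ⊥ ∨ U = ⊤)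

include hirr in
theorem schur (a : Module.End k V) (ha : ∀ g, π g * a = a * π g) : IsScalarOp a := by
  obtain ⟨c, hc⟩ := Module.End.exists_eigenvalue a
  refine ⟨c, ?_⟩
  rcases hirr (a.eigenspace c) (fun g u hu => by
    rw [Module.End.mem_eigenspace_iff] at hu ⊢
    rw [← Module.End.mul_apply, ← ha, Module.End.mul_apply, hu, map_smul]) with h | h
  · exact absurd h hc
  · refine LinearMap.ext fun v => ?_
    have hv : v ∈ a.eigenspace c := h ▸ Submodule.mem_top
    simpa using Module.End.mem_eigenspace_iff.1 hv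

variable (hC : ∀ a : Module.End k V, (Set.range fun g => π g * a * π g⁻¹).Finite → ∀ g, π g * a = a * π g)

include hirr hC in
/-- A normal subgroup acting commutatively acts by scalars. -/
theorem scalar_of_commute (A : Subgroup Γ) [A.Normal] (hA : ∀ a ∈ A, ∀ b ∈ A, π a * π b = π b * π a) :
    ∀ a ∈ A, IsScalarOp (π a) := by
  classical
  let E : Set V := {v | ∀ a ∈ A, ∃ c : k, π a v = c • v}
  have hEst : ∀ g, ∀ v ∈ E, π g v ∈ E := by
    intro g v hv a ha
    obtain ⟨c, hc⟩ := hv (g⁻¹ * a * g) (Subgroup.Normal.conj_mem' ‹A.Normal› a ha g)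
    refine ⟨c, ?_⟩
    have e := congrArg (π g) hc
    rw [map_smul, ← Module.End.mul_apply, ← map_mul, mul_assoc g⁻¹ a g, mul_inv_cancel_left, map_mul,
      Module.End.mul_apply] at e
    exact e
  have hne : ∃ v ∈ E, v ≠ 0 := by
    obtain ⟨U, ⟨hU, hU0⟩, hmin⟩ := IsArtinian.set_has_minimal
      {U : Submodule k V | (∀ a ∈ A, ∀ u ∈ U, π a u ∈ U) ∧ U ≠ ⊥}
      ⟨⊤, fun _ _ _ _ => Submodule.mem_top, top_ne_bot⟩
    obtain ⟨v, hv, hv0⟩ := Submodule.exists_mem_ne_zero_of_ne_bot hU0
    refine ⟨v, fun a ha => ?_, hv0⟩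
    haveI : Nontrivial U := Submodule.nontrivial_iff_ne_bot.2 hU0
    obtain ⟨c, hc⟩ := Module.End.exists_eigenvalue ((π a).restrict (hU a ha))
    obtain ⟨w, hw, hw0⟩ := hc.exists_hasEigenvector
    rw [Module.End.mem_eigenspace_iff] at hw
    have hle : U ≤ (π a).eigenspace c := by
      have h1 : ¬ (U ⊓ (π a).eigenspace c < U) := hmin _ ⟨fun b hb u hu => ⟨hU b hb u hu.1, Module.End.mem_eigenspace_iff.2 (by
        rw [← Module.End.mul_apply, hA a ha b hb, Module.End.mul_apply,
          Module.End.mem_eigenspace_iff.1 hu.2, map_smul])⟩, by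
        refine (Submodule.ne_bot_iff _).2 ⟨w, ⟨w.2, Module.End.mem_eigenspace_iff.2 ?_⟩, fun h => hw0 (Subtype.ext h)⟩
        exact congrArg Subtype.val hw⟩
      by_contra h2
      exact h1 (lt_of_le_of_ne inf_le_left fun e => h2 (inf_eq_left.1 e))
    exact ⟨c, Module.End.mem_eigenspace_iff.1 (hle hv)⟩
  have hspan : Submodule.span k E = ⊤ := by
    refine (hirr (Submodule.span k E) fun g u hu => ?_).resolve_left ?_
    · have hle : Submodule.span k E ≤ (Submodule.span k E).comap (π g) :=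
        Submodule.span_le.2 fun v hv => Submodule.subset_span (hEst g v hv)
      exact hle hu
    · obtain ⟨v, hv, hv0⟩ := hne
      exact fun h => hv0 ((Submodule.eq_bot_iff _).1 h v (Submodule.subset_span hv))
  obtain ⟨b, hbE, hbspan, hbli⟩ := exists_linearIndependent k E
  have hbfin : b.Finite := hbli.setFinite
  haveI : Finite b := hbfin
  intro a ha
  refine schur π hirr _ (hC _ ?_)
  let Λ : Set k := {c : k | (π a).HasEigenvalue c}
  haveI : Finite Λ := (Module.End.finite_hasEigenvalue (π a)).to_subtype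
  have key : ∀ g, ∀ v : b, ∃ c : Λ, π (g * a * g⁻¹) (v : V) = (c : k) • (v : V) := by
    intro g v
    obtain ⟨c, hc⟩ := hbE v.2 _ (Subgroup.Normal.conj_mem ‹A.Normal› a ha g)
    refine ⟨⟨c, Module.End.hasEigenvalue_of_hasEigenvector (x := π g⁻¹ v) ⟨?_, ?_⟩⟩, hc⟩
    · rw [Module.End.mem_eigenspace_iff]
      have e := congrArg (π g⁻¹) hc
      rw [map_smul, ← Module.End.mul_apply, ← map_mul, mul_assoc g a, inv_mul_cancel_left, map_mul,
        Module.End.mul_apply] at e
      exact e
    · intro h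
      exact hbli.ne_zero v (by
        rw [show (v : V) = (π g * π g⁻¹) (v : V) by rw [pi_mul_inv]; rfl, Module.End.mul_apply, h, map_zero])
  choose lam hlam using key
  refine Set.Finite.subset ((Set.finite_range (fun f : b → Λ => f)).image fun f =>
    Classical.epsilon fun x : Module.End k V => ∀ v : b, x (v : V) = (f v : k) • (v : V)) ?_
  rintro _ ⟨g, rfl⟩
  refine ⟨lam g, ⟨lam g, rfl⟩, ?_⟩
  have hex : ∃ x : Module.End k V, ∀ v : b, x (v : V) = (lam g v : k) • (v : V) := ⟨_, hlam g⟩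
  have heps := Classical.epsilon_spec hex
  have htop : Submodule.span k b = ⊤ := hbspan.trans hspan
  refine LinearMap.ext_on htop fun v hv => ?_
  rw [heps ⟨v, hv⟩, ← hlam g ⟨v, hv⟩, map_mul, map_mul]

include hirr hC in
theorem scalar_step (D D' : Subgroup Γ) [D.Normal] (hD' : ∀ a ∈ D, ∀ b ∈ D, a * b * a⁻¹ * b⁻¹ ∈ D')
    (hsc : ∀ c ∈ D', IsScalarOp (π c)) : ∀ a ∈ D, IsScalarOp (π a) := by
  classical
  let n := Module.finrank k V
  have hn : 0 < n := Module.finrank_pos
  -- commutation up to roots of unity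
  have hcomm : ∀ a ∈ D, ∀ b ∈ D, ∃ c : k, c ^ n = 1 ∧ π a * π b = c • (π b * π a) := by
    intro a ha b hb
    obtain ⟨c, hc⟩ := hsc _ (hD' a ha b hb)
    have h2 : π a * π b = c • (π b * π a) := by
      have e : π (a * b * a⁻¹ * b⁻¹) * π (b * a) = π (a * b) := by
        rw [← map_mul]; congr 1; group
      rw [hc, smul_mul_assoc, one_mul, map_mul, map_mul] at e
      exact e.symm
    refine ⟨c, ?_, h2⟩
    have h3 := congrArg LinearMap.det h2
    rw [LinearMap.det_smul, map_mul, map_mul, mul_comm (LinearMap.det (π b))] at h3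
    exact (mul_eq_right₀ (mul_ne_zero (det_pi_ne_zero π a) (det_pi_ne_zero π b))).1 h3.symm
  -- the centre of D
  let Z : Subgroup Γ :=
    { carrier := {z | z ∈ D ∧ ∀ b ∈ D, π z * π b = π b * π z}
      one_mem' := ⟨D.one_mem, fun b _ => by rw [map_one, one_mul, mul_one]⟩
      mul_mem' := fun {x y} hx hy => ⟨D.mul_mem hx.1 hy.1, fun b hb => by
        rw [map_mul, mul_assoc, hy.2 b hb, ← mul_assoc, hx.2 b hb, mul_assoc]⟩
      inv_mem' := fun {x} hx => ⟨D.inv_mem hx.1, fun b hb => by
        have e := congrArg (fun y => π x⁻¹ * y * π x⁻¹) (hx.2 b hb)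
        simp only [mul_assoc, pi_mul_inv, mul_one] at e
        rw [← mul_assoc (π x⁻¹) (π x), pi_inv_mul, one_mul] at e
        exact e.symm⟩ }
  haveI : Z.Normal := ⟨fun z hz g => ⟨Subgroup.Normal.conj_mem ‹D.Normal› z hz.1 g, fun b hb => by
    have e := congrArg (fun y => π g * y * π g⁻¹) (hz.2 _ (Subgroup.Normal.conj_mem' ‹D.Normal› b hb g))
    simp only [← map_mul] at e ⊢
    rw [show g * z * g⁻¹ * b = g * (z * (g⁻¹ * b * g)) * g⁻¹ by group,
      show b * (g * z * g⁻¹) = g * (g⁻¹ * b * g * z) * g⁻¹ by group]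
    exact e⟩⟩
  have hZ := scalar_of_commute π hirr hC Z fun x hx y hy => hx.2 y hy.1
  -- finitely many spanning operators
  obtain ⟨B₀, hB₀, hspan, hli⟩ := exists_linearIndependent k ((fun d => π d) '' (D : Set Γ))
  haveI : Finite B₀ := hli.setFinite
  haveI : Finite {c : k // c ^ n = 1} :=
    Set.Finite.to_subtype ((Polynomial.nthRootsFinset n (1 : k)).finite_toSet.subset
      fun c hc => (Polynomial.mem_nthRootsFinset hn (1 : k)).2 hc)
  intro a ha
  refine schur π hirr _ (hC _ ?_)
  have key : ∀ g, ∀ x : B₀, ∃ c : {c : k // c ^ n = 1},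
      π (g * a * g⁻¹) * (x : Module.End k V) = (c : k) • ((x : Module.End k V) * π (g * a * g⁻¹)) := by
    intro g x
    obtain ⟨d, hd, hdx⟩ := hB₀ x.2
    obtain ⟨c, hc, he⟩ := hcomm _ (Subgroup.Normal.conj_mem ‹D.Normal› a ha g) d hd
    exact ⟨⟨c, hc⟩, by rw [← hdx]; exact he⟩
  choose χ hχ using key
  have hfib : ∀ g₀ : Γ, ((fun g => π g * π a * π g⁻¹) '' {g | χ g = χ g₀}).Finite := by
    intro g₀
    refine ((Polynomial.nthRootsFinset n (1 : k)).finite_toSet.image
      fun c => c • π (g₀ * a * g₀⁻¹)).subset ?_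
    rintro _ ⟨g, hg, rfl⟩
    set x₀ := g₀ * a * g₀⁻¹ with hx₀
    set x := g * a * g⁻¹ with hx
    have hx₀D : x₀ ∈ D := Subgroup.Normal.conj_mem ‹D.Normal› a ha g₀
    have hxD : x ∈ D := Subgroup.Normal.conj_mem ‹D.Normal› a ha g
    have hz : x₀⁻¹ * x ∈ Z := by
      refine ⟨D.mul_mem (D.inv_mem hx₀D) hxD, fun b hb => ?_⟩
      have hlin : ∀ y ∈ Submodule.span k B₀, π (x₀⁻¹ * x) * y = y * π (x₀⁻¹ * x) := by
        intro y hy
        induction hy using Submodule.span_induction with
        | zero => simp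
        | add y z _ _ h1 h2 => rw [mul_add, add_mul, h1, h2]
        | smul r y _ h1 => rw [mul_smul_comm, smul_mul_assoc, h1]
        | mem y hy =>
          have e1 := hχ g ⟨y, hy⟩
          have e2 := hχ g₀ ⟨y, hy⟩
          rw [show χ g ⟨y, hy⟩ = χ g₀ ⟨y, hy⟩ from congrFun hg _] at e1
          set c := ((χ g₀ ⟨y, hy⟩ : {c : k // c ^ n = 1}) : k)
          replace e1 : π x * y = c • (y * π x) := e1
          replace e2 : π x₀ * y = c • (y * π x₀) := e2
          clear_value x x₀
          have hc0 : c ≠ 0 := fun h0 => by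
            have := (χ g₀ ⟨y, hy⟩).2
            rw [show ((χ g₀ ⟨y, hy⟩ : {c : k // c ^ n = 1}) : k) = 0 from h0, zero_pow hn.ne'] at this
            exact zero_ne_one this
          have e3 : y * π x₀⁻¹ = c • (π x₀⁻¹ * y) := by
            have e := congrArg (fun w => π x₀⁻¹ * w * π x₀⁻¹) e2
            simp only [mul_smul_comm, smul_mul_assoc, mul_assoc, pi_mul_inv, mul_one] at e
            rw [← mul_assoc (π x₀⁻¹) (π x₀), pi_inv_mul, one_mul] at e
            exact e
          rw [map_mul, mul_assoc, e1, mul_smul_comm, ← mul_assoc y, e3, smul_mul_assoc, mul_assoc]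
      exact hlin _ (by rw [hspan]; exact Submodule.subset_span ⟨b, hb, rfl⟩)
    obtain ⟨c, hc⟩ := hZ _ hz
    refine ⟨c, ?_, ?_⟩
    · have h3 := congrArg LinearMap.det hc
      rw [LinearMap.det_smul, map_one, mul_one] at h3
      have hdet : LinearMap.det (π (x₀⁻¹ * x)) = 1 := by
        have h4 : ∀ g : Γ, LinearMap.det (π (g * a * g⁻¹)) = LinearMap.det (π a) := fun g => by
          rw [map_mul, map_mul, map_mul, map_mul, mul_right_comm, ← map_mul, pi_mul_inv, map_one, one_mul]
        have h5 := congrArg LinearMap.det (show π x₀ * π (x₀⁻¹ * x) = π x by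
          rw [← map_mul, mul_inv_cancel_left])
        rw [map_mul, hx₀, hx, h4, h4] at h5
        exact (mul_eq_left₀ (det_pi_ne_zero π a)).1 h5
      rw [hdet] at h3
      exact (Polynomial.mem_nthRootsFinset hn (1 : k)).2 h3.symm
    · show c • π x₀ = π g * π a * π g⁻¹
      rw [show π g * π a * π g⁻¹ = π x by rw [← map_mul, ← map_mul],
        show π x = π x₀ * π (x₀⁻¹ * x) by rw [← map_mul, mul_inv_cancel_left], hc, mul_smul_comm, mul_one]
  refine ((Set.finite_range (fun v : Set.range χ => (v : B₀ → {c : k // c ^ n = 1}))).biUnion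
    (t := fun v => (fun g => π g * π a * π g⁻¹) '' {g | χ g = v}) ?_).subset ?_
  · rintro _ ⟨⟨_, g₀, rfl⟩, rfl⟩
    exact hfib g₀
  · rintro _ ⟨g, rfl⟩
    exact Set.mem_biUnion (x := χ g) ⟨⟨χ g, g, rfl⟩, rfl⟩ ⟨g, rfl, rfl⟩

include hirr hC in
/-- An irreducible such group has a common eigenvector. -/
theorem exists_common_eigen [Group.IsSolvable Γ] :
    ∃ v : V, v ≠ 0 ∧ ∀ g, ∃ c : k, π g v = c • v := by
  obtain ⟨n, hn⟩ := Group.IsSolvable.solvable (G := Γ)
  have key : ∀ j m, j + m = n → ∀ a ∈ derivedSeries Γ m, IsScalarOp (π a) := by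
    intro j
    induction j with
    | zero =>
      intro m hm a ha
      rw [show m = n by omega, hn, Subgroup.mem_bot] at ha
      exact ⟨1, by rw [ha, map_one, one_smul]⟩
    | succ j ih =>
      intro m hm
      haveI : (derivedSeries Γ m).Normal := derivedSeries_normal Γ m
      exact scalar_step π hirr hC _ (derivedSeries Γ (m + 1)) (fun a ha b hb => by
        rw [derivedSeries_succ]
        exact Subgroup.commutator_mem_commutator ha hb) (ih (m + 1) (by omega))
  obtain ⟨v, hv⟩ := exists_ne (0 : V)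
  refine ⟨v, hv, fun g => ?_⟩
  obtain ⟨c, hc⟩ := key n 0 (add_zero n) g (by rw [derivedSeries_zero]; exact Subgroup.mem_top g)
  exact ⟨c, by rw [hc]; rfl⟩

end GrothLib.Induce27
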