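import Groth.Agent.Lib.Induce27.Finite
import Groth.Agent.Lib.Induce27.Kolchin
import Groth.Agent.Lib.Rigidity.SmoothGroup

/-!
# Observability in connected solvable groups
-/

set_option autoImplicit false

universe u

open CategoryTheory MonoidalCategory CartesianMonoidalCategory MonObj GrpObj AlgebraicGeometry VecGrp
open scoped TensorProduct

noncomputable section

namespace GrothLib.Induce27

open GrothLib.Repr Groth.Agent.S11191

variable {k : Type u} [Field k] [IsAlgClosed k]
  {G H : Over (Spec (CommRingCat.of k))} [GrpObj G] [GrpObj H] [IsAffine G.left] [Smooth G.hom]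

/-- composition with inversion. -/
def invFn : Fn G →ₐ[k] Fn G := fnMap (𝟙 G : G ⟶ G)⁻¹

omit [IsAlgClosed k] [IsAffine G.left] [Smooth G.hom] in
theorem valAt_invFn {B : Type u} [CommRing B] [Algebra k B] (x : pt k B ⟶ G) (f : Fn G) :
    valAt x (invFn f) = valAt x⁻¹ f := by
  rw [invFn, ← valAt_comp, GrpObj.comp_inv, Category.comp_id]

/-- On a connected group a regular function with finitely many values is constant. -/
theorem const_of_finite [ConnectedSpace G.left] (f : Fn G)
    (h : (Set.range fun x : pt k k ⟶ G => valAt x f).Finite) : ∀ x : pt k k ⟶ G, valAt x f = valAt (1 : pt k k ⟶ G) f := by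
  classical
  haveI := GrothLib.Rigidity.irreducibleSpace_of_connected G
  haveI : IsReduced G.left := GrothLib.RedSmooth.isReduced_of_smooth G.hom
  haveI : IsIntegral G.left := isIntegral_of_irreducibleSpace_of_isReduced _
  haveI : IsDomain (Fn G) := inferInstanceAs (IsDomain Γ(G.left, ⊤))
  have h0 : ∏ c ∈ h.toFinset, (f - algebraMap k (Fn G) c) = 0 := eq_zero_of_valAt fun x => by
    rw [map_prod]
    refine Finset.prod_eq_zero (i := valAt x f) (h.mem_toFinset.2 ⟨x, rfl⟩) ?_
    rw [map_sub, AlgHom.commutes, sub_eq_zero]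
    rfl
  obtain ⟨c, -, hc⟩ := Finset.prod_eq_zero_iff.1 h0
  intro x
  rw [sub_eq_zero.1 hc, AlgHom.commutes, AlgHom.commutes]

/-- A connected solvable group has a common eigenvector in every nonzero stable subspace. -/
theorem exists_eigen_gmod [ConnectedSpace G.left] [Group.IsSolvable (pt k k ⟶ G)]
    {W : Type u} [AddCommGroup W] [Module k W] [Module.Finite k W] (ρ : GMod G W)
    (U₀ : Submodule k W) (hU₀ : ∀ g, ∀ w ∈ U₀, kAct ρ g w ∈ U₀) (hne : U₀ ≠ ⊥) :
    ∃ w ∈ U₀, w ≠ 0 ∧ ∀ g, ∃ c : k, kAct ρ g w = c • w := by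
  classical
  obtain ⟨U, ⟨hU, hUle, hU0⟩, hmin⟩ := IsArtinian.set_has_minimal
    {U : Submodule k W | (∀ g, ∀ w ∈ U, kAct ρ g w ∈ U) ∧ U ≤ U₀ ∧ U ≠ ⊥} ⟨U₀, hU₀, le_rfl, hne⟩
  haveI : Nontrivial U := Submodule.nontrivial_iff_ne_bot.2 hU0
  let π : (pt k k ⟶ G) →* Module.End k U :=
    { toFun := fun g => (kAct ρ g).restrict (hU g)
      map_one' := LinearMap.ext fun w => Subtype.ext (kAct_one ρ w.1)
      map_mul' := fun g g' => LinearMap.ext fun w => Subtype.ext (kAct_mul ρ g g' w.1) }
  have hπ : ∀ g (w : U), ((π g w : U) : W) = kAct ρ g w.1 := fun g w => rfl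
  have hirr : ∀ U' : Submodule k U, (∀ g, ∀ u ∈ U', π g u ∈ U') → U' = ⊥ ∨ U' = ⊤ := by
    intro U' hU'
    rcases eq_or_ne U' ⊥ with h | h
    · exact Or.inl h
    refine Or.inr ?_
    by_contra htop
    refine hmin (U'.map U.subtype) ⟨?_, (Submodule.map_subtype_le U U').trans hUle, ?_⟩ ?_
    · rintro g _ ⟨u, hu, rfl⟩
      exact ⟨π g u, hU' g u hu, rfl⟩
    · intro hb
      exact h (Submodule.map_injective_of_injective U.subtype_injective (hb.trans (Submodule.map_bot _).symm))
    · refine lt_of_le_of_ne (Submodule.map_subtype_le U U') fun he => htop ?_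
      exact Submodule.map_injective_of_injective U.subtype_injective
        (he.trans (by rw [Submodule.map_top, Submodule.range_subtype]))
  have hC : ∀ a : Module.End k U, (Set.range fun g => π g * a * π g⁻¹).Finite →
      ∀ g, π g * a = a * π g := by
    intro a ha g
    suffices h : π g * a * π g⁻¹ = a by
      conv_rhs => rw [← h]
      rw [_root_.mul_assoc _ (π g⁻¹) (π g), ← map_mul, inv_mul_cancel, map_one, _root_.mul_one]
    refine LinearMap.ext fun v => ?_
    refine sub_eq_zero.1 ((Module.forall_dual_apply_eq_zero_iff k _).1 fun α => ?_)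
    rw [map_sub, sub_eq_zero]
    let b := Module.finBasis k U
    obtain ⟨α', hα'⟩ := LinearMap.exists_extend α
    choose β hβ using fun l => LinearMap.exists_extend (b.coord l ∘ₗ a)
    let f : Fn G := ∑ l, invFn (coeff ρ (β l) v.1) * coeff ρ α' (b l).1
    have hval : ∀ x : pt k k ⟶ G, valAt x f = α ((π x * a * π x⁻¹) v) := by
      intro x
      conv_rhs => rw [Module.End.mul_apply, Module.End.mul_apply, ← b.sum_repr (a (π x⁻¹ v)), map_sum, map_sum]
      simp only [f, map_sum, map_mul, valAt_invFn, valAt_coeff, rho_one_tmul, cf_tmul, smul_eq_mul,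
        _root_.mul_one, map_smul]
      refine Finset.sum_congr rfl fun l _ => ?_
      congr 1
      · exact LinearMap.congr_fun (hβ l) (π x⁻¹ v)
      · exact LinearMap.congr_fun hα' (π x (b l))
    have hfin : (Set.range fun x : pt k k ⟶ G => valAt x f).Finite := by
      refine (ha.image fun y => α (y v)).subset ?_
      rintro _ ⟨x, rfl⟩
      exact ⟨_, ⟨x, rfl⟩, (hval x).symm⟩
    have := const_of_finite f hfin g
    rw [hval, hval, map_one, inv_one, map_one, _root_.one_mul, _root_.mul_one] at this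
    exact this
  obtain ⟨w, hw0, hw⟩ := exists_common_eigen π hirr hC
  refine ⟨w.1, hUle w.2, fun h => hw0 (Subtype.ext h), fun g => ?_⟩
  obtain ⟨c, hc⟩ := hw g
  exact ⟨c, (hπ g w).symm.trans (congrArg Subtype.val hc)⟩

variable [IsAffine H.left] [Smooth H.hom]

/-- Nowhere vanishing semi-invariants of the inverse key weight give observability. -/
theorem observable_of_semi_inv {i : H ⟶ G} [IsMonHom i] [IsClosedImmersion i.left]
    (h : ∀ u : Fn H, (∀ h : pt k k ⟶ H, valAt h u ≠ (0 : k)) →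
      (∀ x : pt k k ⟶ G, ∃ D ∈ semi i (fun h : pt k k ⟶ H => valAt h u), valAt x D ≠ 0) →
      ∀ x : pt k k ⟶ G, ∃ q ∈ semi i (fun h : pt k k ⟶ H => (valAt h u)⁻¹), valAt x q ≠ 0) :
    AGF.IsObservableIn k i := by
  obtain ⟨u, hu0, -, hne, hdet⟩ := exists_key (k := k) i
  intro g hg
  refine hdet g fun D hD hD1 => ?_
  obtain ⟨q, hq, hq0⟩ := h u hu0 hne g
  have hmem : D * q ∈ semi i (fun _ => (1 : k)) := fun x t => by
    rw [map_mul, map_mul, mem_semi_iff.1 hD x t, mem_semi_iff.1 hq x t]
    field_simp [hu0 t]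
  have e := InHull.valAt_eq (i := i) hg hmem
  rw [map_mul, map_mul, hD1, zero_mul] at e
  exact (mul_eq_zero.1 e).resolve_right hq0

/-- Closed subgroups of connected solvable groups are observable. -/
theorem observable_of_connected_solvable [ConnectedSpace G.left] [Group.IsSolvable (pt k k ⟶ G)]
    (i : H ⟶ G) [IsMonHom i] [IsClosedImmersion i.left] : AGF.IsObservableIn k i := by
  haveI : IsAffineHom G.hom := inferInstance
  refine observable_of_semi_inv fun u hu0 hne x => ?_
  obtain ⟨D, hD, hDx⟩ := hne 1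
  obtain ⟨N, hN, -, -, hst, hmem⟩ := exists_stable_fn (i := i) ({invFn D} : Finset (Fn G))
  haveI := hN
  let ρ := subGMod (fnGMod (rtAct G)) N hst
  let U₀ : Submodule k N :=
    (semi i (fun h : pt k k ⟶ H => valAt h u)).comap ((invFn (G := G)).toLinearMap ∘ₗ N.subtype)
  have hU₀ : ∀ g, ∀ w ∈ U₀, kAct ρ g w ∈ U₀ := by
    intro g w hw y t
    show valAt (y * (t ≫ i)) (invFn ((kAct ρ g w : N) : Fn G)) = _ * valAt y (invFn ((kAct ρ g w : N) : Fn G))
    rw [kAct_subGMod hst, valAt_invFn, valAt_rt, valAt_invFn, valAt_rt]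
    have e := mem_semi_iff.1 hw (g⁻¹ * y) t
    simp only [LinearMap.comp_apply, Submodule.subtype_apply, AlgHom.toLinearMap_apply, valAt_invFn,
      _root_.mul_inv_rev, _root_.inv_inv] at e ⊢
    rw [_root_.mul_assoc]
    exact e
  have hne0 : U₀ ≠ ⊥ := by
    refine (Submodule.ne_bot_iff _).2 ⟨⟨invFn D, hmem _ (Finset.mem_singleton_self _)⟩, ?_, fun h => hDx ?_⟩
    · show invFn (invFn D) ∈ semi i _
      have : invFn (invFn D) = D := ext_valAt fun z => by rw [valAt_invFn, valAt_invFn, _root_.inv_inv]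
      rw [this]
      exact hD
    · have h1 := congrArg (fun z : N => valAt (1 : pt k k ⟶ G) (z : Fn G)) h
      simp only [valAt_invFn, inv_one, ZeroMemClass.coe_zero, map_zero] at h1
      exact h1
  obtain ⟨F, hFU, hF0, hF⟩ := exists_eigen_gmod ρ U₀ hU₀ hne0
  choose θ hθ using hF
  have hFval : ∀ y g : pt k k ⟶ G, valAt (y * g) (F : Fn G) = θ g * valAt y (F : Fn G) := fun y g => by
    rw [← valAt_rt, ← kAct_subGMod hst g F, hθ g, SetLike.val_smul, map_smul, smul_eq_mul]
  have hne' : ∀ y : pt k k ⟶ G, valAt y (F : Fn G) ≠ 0 := by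
    intro y hy
    refine hF0 (Subtype.ext (eq_zero_of_valAt fun z => ?_))
    have := hFval y (y⁻¹ * z)
    rwa [mul_inv_cancel_left, hy, mul_zero] at this
  have hfne : ∀ y : pt k k ⟶ G, valAt y (invFn (F : Fn G)) ≠ 0 := fun y => by
    rw [valAt_invFn]; exact hne' _
  let f := (isUnit_of_valAt hfne).unit
  have hq : ∀ y : pt k k ⟶ G, valAt y (↑f⁻¹ : Fn G) = (valAt y (invFn (F : Fn G)))⁻¹ := fun y => by
    refine eq_inv_of_mul_eq_one_left ?_
    rw [← map_mul, IsUnit.val_inv_mul, map_one]
  refine ⟨↑f⁻¹, fun y t => ?_, by rw [hq]; exact inv_ne_zero (hfne x)⟩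
  rw [hq, hq, show valAt (y * (t ≫ i)) (invFn (F : Fn G)) = valAt t u * valAt y (invFn (F : Fn G)) from
    mem_semi_iff.1 hFU y t, _root_.mul_inv]

end GrothLib.Induce27
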