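import Groth.Agent.Lib.Induce27.Finite
import Groth.Agent.Lib.Neutral.SmoothPart

/-!
# Neutral components over a field and induced maps
-/

set_option autoImplicit false

universe u

open CategoryTheory MonoidalCategory CartesianMonoidalCategory MonObj GrpObj AlgebraicGeometry VecGrp

noncomputable section

namespace GrothLib.Induce27

variable {k : Type u} [Field k]

instance subsingleton_base : Subsingleton ↥(Spec (CommRingCat.of k)) :=
  inferInstanceAs (Subsingleton (PrimeSpectrum k))

theorem neutralSet_eq (G : Over (Spec (CommRingCat.of k))) [GrpObj G]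
    (p : ↥(𝟙_ (Over (Spec (CommRingCat.of k)))).left) :
    SGA3x.neutralSet G = connectedComponent (η[G].left.base p) := by
  haveI : Subsingleton ↥(𝟙_ (Over (Spec (CommRingCat.of k)))).left :=
    inferInstanceAs (Subsingleton ↥(Spec (CommRingCat.of k)))
  ext x
  simp only [SGA3x.neutralSet, Set.mem_iUnion]
  have e : ∀ q : ↥(𝟙_ (Over (Spec (CommRingCat.of k)))).left,
      G.hom.base ⁻¹' {(𝟙_ (Over (Spec (CommRingCat.of k)))).hom.base q} = Set.univ := fun q =>
    Set.eq_univ_of_forall fun y => Subsingleton.elim _ _
  constructor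
  · rintro ⟨q, hq⟩
    rw [e, connectedComponentIn_univ, Subsingleton.elim q p] at hq
    exact hq
  · intro hx
    exact ⟨p, by rw [e, connectedComponentIn_univ]; exact hx⟩

/-- A smooth group has a connected open subgroup through which every homomorphism from a connected
group factors. -/
theorem exists_neutral (G : Over (Spec (CommRingCat.of k))) [GrpObj G] [Smooth G.hom] :
    ∃ (G₀ : Over (Spec (CommRingCat.of k))) (_ : GrpObj G₀) (j : G₀ ⟶ G) (_ : IsMonHom j)
      (_ : IsOpenImmersion j.left), ConnectedSpace G₀.left ∧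
      ∀ (H : Over (Spec (CommRingCat.of k))) [GrpObj H] [ConnectedSpace H.left] (f : H ⟶ G) [IsMonHom f],
        ∃ (f₀ : H ⟶ G₀) (_ : IsMonHom f₀), f₀ ≫ j = f := by
  obtain ⟨G₀, _, j, hj, hjo, hrange, -, -⟩ := GrothLib.Neutral.exists_neutralPart G
  haveI := hj
  haveI := hjo
  let p : ↥(𝟙_ (Over (Spec (CommRingCat.of k)))).left := IsLocalRing.closedPoint k
  have hconn : _root_.IsConnected (Set.range j.left.base) := by
    rw [hrange, neutralSet_eq G p]; exact isConnected_connectedComponent
  haveI : ConnectedSpace (Set.range j.left.base) := Subtype.connectedSpace hconn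
  have hG₀ : ConnectedSpace G₀.left :=
    j.left.isOpenEmbedding.toIsEmbedding.toHomeomorph.symm.surjective.connectedSpace
      j.left.isOpenEmbedding.toIsEmbedding.toHomeomorph.symm.continuous
  refine ⟨G₀, inferInstance, j, hj, hjo, hG₀, fun H _ _ f _ => ?_⟩
  have hsub : Set.range f.left.base ⊆ Set.range j.left.base := by
    rw [hrange, neutralSet_eq G p]
    refine (isPreconnected_range f.left.continuous).subset_connectedComponent ⟨η[H].left.base p, ?_⟩
    rw [← IsMonHom.one_hom (f := f)]
    rfl
  let f₀ : H ⟶ G₀ := Over.homMk (IsOpenImmersion.lift j.left f.left hsub) (by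
    rw [← Over.w j, ← Category.assoc, IsOpenImmersion.lift_fac]
    exact Over.w f)
  have hf₀ : f₀ ≫ j = f := Over.OverMorphism.ext (IsOpenImmersion.lift_fac _ _ _)
  haveI : Mono j := by
    haveI : Mono ((Over.forget _).map j) := inferInstanceAs (Mono j.left)
    exact (Over.forget _).mono_of_mono_map this
  refine ⟨f₀, ⟨?_, ?_⟩, hf₀⟩
  · rw [← cancel_mono j, Category.assoc, hf₀, IsMonHom.one_hom (f := f), IsMonHom.one_hom (f := j)]
  · rw [← cancel_mono j, Category.assoc, hf₀, IsMonHom.mul_hom (f := f), Category.assoc,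
      IsMonHom.mul_hom (f := j), ← Category.assoc (MonoidalCategoryStruct.tensorHom f₀ f₀),
      MonoidalCategory.tensorHom_comp_tensorHom, hf₀]

end GrothLib.Induce27
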