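import Groth.Agent.Lib.Induce27.QuotAffine

/-!
# Orbit closures under a cocompact subgroup
-/

set_option autoImplicit false

universe u

open CategoryTheory CategoryTheory.Limits MonoidalCategory CartesianMonoidalCategory MonObj GrpObj AlgebraicGeometry

noncomputable section

namespace GrothLib.Induce27

open GrothLib.GrpSchField

variable {k : Type u} [Field k]

theorem preimage_snd_range {C D : Over (Spec (CommRingCat.of k))} (A : Over (Spec (CommRingCat.of k))) (f : C ⟶ D) :
    (snd A D).left ⁻¹' Set.range f.left = Set.range (A ◁ f).left := by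
  have sq := whiskerLeft_snd_isPullback A f
  rw [← Scheme.Pullback.range_fst, ← sq.isoPullback_hom_fst, Scheme.Hom.comp_base, TopCat.coe_comp, Set.range_comp,
    Set.range_eq_univ.2 (show Function.Surjective sq.isoPullback.hom from sq.isoPullback.hom.homeomorph.surjective),
    Set.image_univ]

theorem isOpenMap_snd (A D : Over (Spec (CommRingCat.of k))) [LocallyOfFiniteType A.hom] :
    IsOpenMap (snd A D).left := by
  haveI : IsNoetherianRing (CommRingCat.of k) := inferInstanceAs (IsNoetherianRing k)
  haveI : Flat A.hom := GrothLib.DiagGrp.flat_of_field _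
  haveI : LocallyOfFinitePresentation A.hom := inferInstance
  haveI : UniversallyOpen A.hom := inferInstance
  haveI : UniversallyOpen (snd A D).left := inferInstanceAs (UniversallyOpen (pullback.snd A.hom D.hom))
  exact Scheme.Hom.isOpenMap _

variable {G H X Y : Over (Spec (CommRingCat.of k))} [GrpObj G] [GrpObj H] {i : H ⟶ G} [IsMonHom i]
  [LocallyOfFiniteType G.hom] [LocallyOfFiniteType H.hom]

/-- The closure of an orbit under a subgroup with proper quotient. -/
theorem closure_orbit_eq (b : AlgGrp.Action G Y) (o' : 𝟙_ (Over (Spec (CommRingCat.of k))) ⟶ Y)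
    (hY : AGF.IsQuotient i Y b o') [IsProper Y.hom]
    (a : AlgGrp.Action G X) (x : 𝟙_ (Over (Spec (CommRingCat.of k))) ⟶ X) :
    closure (Set.range (a.orbitMap x).left) =
      a.act.left '' ((snd G X).left ⁻¹' closure (Set.range (i ≫ a.orbitMap x).left)) := by
  obtain ⟨-, hflat, hsurj, hpb⟩ := hY
  haveI := hflat
  haveI := hsurj
  set φ := b.orbitMap o'
  set orb := a.orbitMap x
  haveI := lfp_orbit φ
  set Z := closure (Set.range (i ≫ orb).left)
  -- translating an orbit point
  have horb : ∀ {T : Over (Spec (CommRingCat.of k))} (g g' : T ⟶ G),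
      lift g (g' ≫ orb) ≫ a.act = (g * g') ≫ orb := fun {T} g g' => by
    simp only [orb, GrothLib.FlatFactor.comp_orbitMap, act_mul]
  have hZH : Set.MapsTo ((i ▷ X) ≫ a.act).left ((snd H X).left ⁻¹' Z) Z := by
    rw [(isOpenMap_snd H X).preimage_closure_eq_closure_preimage (snd H X).left.continuous, preimage_snd_range]
    refine Set.MapsTo.closure (fun w hw => ?_) ((i ▷ X) ≫ a.act).left.continuous
    obtain ⟨t, rfl⟩ := hw
    refine ⟨μ[H].left t, ?_⟩
    rw [← Scheme.Hom.comp_apply, ← Scheme.Hom.comp_apply, ← Over.comp_left, ← Over.comp_left]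
    have e : (H ◁ (i ≫ orb)) ≫ (i ▷ X) ≫ a.act = μ[H] ≫ i ≫ orb := by
      apply hom_ext_points₂
      intro T h h'
      rw [lift_whiskerLeft_assoc, lift_whiskerRight_assoc, ← Category.assoc h' i, horb,
        ← MonObj.mul_comp, Category.assoc, Hom.mul_def, Category.assoc]
    rw [e]
  refine Set.Subset.antisymm ?_ ?_
  · refine closure_minimal ?_ ?_
    · rintro _ ⟨g, rfl⟩
      refine ⟨(lift (𝟙 G) (toUnit G ≫ (1 : 𝟙_ (Over (Spec (CommRingCat.of k))) ⟶ H) ≫ i ≫ orb)).left g, ?_, ?_⟩
      · show (snd G X).left ((lift (𝟙 G) _).left g) ∈ Z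
        rw [← Scheme.Hom.comp_apply, ← Over.comp_left, lift_snd]
        exact subset_closure ⟨(toUnit G ≫ (1 : 𝟙_ (Over (Spec (CommRingCat.of k))) ⟶ H)).left g, by
          rw [← Scheme.Hom.comp_apply, ← Over.comp_left, Category.assoc]⟩
      · rw [← Scheme.Hom.comp_apply, ← Over.comp_left]
        congr 2
        rw [← Category.assoc (toUnit G), ← Category.assoc (toUnit G ≫ 1), horb, MonObj.comp_one,
          MonObj.one_comp i, _root_.mul_one, Category.id_comp]
    · -- closedness
      let σ := shear a
      let C : Set (G ⊗ X).left := σ.inv.left ⁻¹' ((snd G X).left ⁻¹' Z)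
      let p : G ⊗ X ⟶ Y ⊗ X := φ ▷ X
      have hCc : IsClosed C := (isClosed_closure.preimage (snd G X).left.continuous).preimage σ.inv.left.continuous
      haveI : Surjective p.left := whiskerRight_property @Surjective φ X hsurj
      haveI : UniversallyOpen p.left := whiskerRight_property @UniversallyOpen φ X inferInstance
      have hsat : p.left ⁻¹' (p.left '' C) = C := by
        refine Set.Subset.antisymm ?_ (Set.subset_preimage_image _ _)
        rintro w' ⟨w, hw, hww⟩
        obtain ⟨t, ht1, ht2⟩ := Scheme.Pullback.exists_preimage_pullback (f := p.left) (g := p.left) w w' hww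
        let T : Over (Spec (CommRingCat.of k)) := Over.mk (pullback.fst p.left p.left ≫ (G ⊗ X).hom)
        let c₁ : T ⟶ G ⊗ X := Over.homMk (pullback.fst p.left p.left) rfl
        let c₂ : T ⟶ G ⊗ X := Over.homMk (pullback.snd p.left p.left) (by
          show pullback.snd p.left p.left ≫ (G ⊗ X).hom = pullback.fst p.left p.left ≫ (G ⊗ X).hom
          rw [← Over.w p, ← Category.assoc, ← Category.assoc, pullback.condition])
        have hc : c₁ ≫ p = c₂ ≫ p := Over.OverMorphism.ext pullback.condition
        have hz : c₁ ≫ snd G X = c₂ ≫ snd G X := by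
          have := congrArg (· ≫ snd Y X) hc
          simpa [p] using this
        have hg : (c₁ ≫ fst G X) ≫ φ = (c₂ ≫ fst G X) ≫ φ := by
          have := congrArg (· ≫ fst Y X) hc
          simpa [p] using this
        obtain ⟨l, hl1, hl2⟩ : ∃ l : T ⟶ G ⊗ H, l ≫ fst G H = c₁ ≫ fst G X ∧ l ≫ (G ◁ i) ≫ μ[G] = c₂ ≫ fst G X :=
          ⟨hpb.lift _ _ hg, hpb.lift_fst _ _ _, hpb.lift_snd _ _ _⟩
        have hmul : c₂ ≫ fst G X = (c₁ ≫ fst G X) * ((l ≫ snd G H) ≫ i) := by
          rw [← hl1, ← hl2, Hom.mul_def, ← Category.assoc]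
          congr 1
          apply CartesianMonoidalCategory.hom_ext <;> simp
        have hinv : ∀ c : T ⟶ G ⊗ X, c ≫ σ.inv ≫ snd G X = lift (c ≫ fst G X)⁻¹ (c ≫ snd G X) ≫ a.act := fun c => by
          show c ≫ lift _ _ ≫ snd G X = _
          rw [lift_snd, comp_lift_assoc, GrpObj.comp_inv]
        let y : T ⟶ X := c₁ ≫ σ.inv ≫ snd G X
        have hy : lift (l ≫ snd G H)⁻¹ y ≫ (i ▷ X) ≫ a.act = c₂ ≫ σ.inv ≫ snd G X := by
          rw [lift_whiskerRight_assoc]
          simp only [y, hinv]
          rw [GrpObj.inv_comp, ← act_mul, ← _root_.mul_inv_rev, ← hmul, hz]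
        show σ.inv.left w' ∈ (snd G X).left ⁻¹' Z
        have e2 : (snd G X).left (σ.inv.left w') = (c₂ ≫ σ.inv ≫ snd G X).left t := by
          rw [← ht2]; rfl
        rw [Set.mem_preimage, e2, ← hy, Over.comp_left, Scheme.Hom.comp_apply]
        refine hZH ?_
        show (snd H X).left _ ∈ Z
        rw [← Scheme.Hom.comp_apply, ← Over.comp_left, lift_snd]
        have e1 : (snd G X).left (σ.inv.left w) = (c₁ ≫ σ.inv ≫ snd G X).left t := by
          rw [← ht1]; rfl
        rw [← e1]
        exact hw
      have hpc : IsClosed (p.left '' C) := by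
        rw [← (p.left.isOpenMap.isQuotientMap p.left.continuous p.left.surjective).isClosed_preimage, hsat]
        exact hCc
      haveI : UniversallyClosed (snd Y X).left := inferInstanceAs (UniversallyClosed (pullback.snd Y.hom X.hom))
      have hR : a.act.left '' ((snd G X).left ⁻¹' Z) = (snd Y X).left '' (p.left '' C) := by
        have ep : ∀ c, (snd Y X).left (p.left c) = (snd G X).left c := fun c => by
          rw [← Scheme.Hom.comp_apply, ← Over.comp_left, whiskerRight_snd]
        have eh : ∀ v, (snd G X).left (σ.hom.left v) = a.act.left v := fun v => by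
          rw [← Scheme.Hom.comp_apply, ← Over.comp_left, shear_hom_snd]
        have ei : ∀ v, σ.inv.left (σ.hom.left v) = v := fun v => by
          rw [← Scheme.Hom.comp_apply, ← Over.comp_left, Iso.hom_inv_id]; rfl
        have eo : ∀ c, σ.hom.left (σ.inv.left c) = c := fun c => by
          rw [← Scheme.Hom.comp_apply, ← Over.comp_left, Iso.inv_hom_id]; rfl
        rw [Set.image_image]
        simp only [ep]
        ext r
        constructor
        · rintro ⟨v, hv, rfl⟩
          exact ⟨σ.hom.left v, show σ.inv.left (σ.hom.left v) ∈ (snd G X).left ⁻¹' Z by rw [ei]; exact hv, eh v⟩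
        · rintro ⟨c, hc, rfl⟩
          exact ⟨σ.inv.left c, hc, show a.act.left (σ.inv.left c) = (snd G X).left c by rw [← eh, eo]⟩
      rw [hR]
      exact (snd Y X).left.isClosedMap _ hpc
  · rw [(isOpenMap_snd G X).preimage_closure_eq_closure_preimage (snd G X).left.continuous, preimage_snd_range]
    refine (image_closure_subset_closure_image a.act.left.continuous).trans (closure_mono ?_)
    rintro _ ⟨_, ⟨t, rfl⟩, rfl⟩
    refine ⟨((G ◁ i) ≫ μ[G]).left t, ?_⟩
    rw [← Scheme.Hom.comp_apply, ← Scheme.Hom.comp_apply, ← Over.comp_left, ← Over.comp_left]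
    have e : (G ◁ (i ≫ orb)) ≫ a.act = ((G ◁ i) ≫ μ[G]) ≫ orb := by
      apply hom_ext_points₂
      intro T g h
      rw [lift_whiskerLeft_assoc, ← Category.assoc h i, horb, ← Category.assoc (lift g h), ← Category.assoc (lift g h),
        lift_whiskerLeft, ← Hom.mul_def]
    rw [e]

end GrothLib.Induce27
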