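import Groth.Agent.Lib.Induce27.Obs

/-!
# Intermediate subgroups
-/

set_option autoImplicit false

universe u

open CategoryTheory MonoidalCategory CartesianMonoidalCategory MonObj GrpObj AlgebraicGeometry VecGrp
open scoped TensorProduct

noncomputable section

namespace GrothLib.Induce27

open GrothLib.Repr Groth.Agent.S11191

variable {k : Type u} [Field k] [IsAlgClosed k]
  {G H : Over (Spec (CommRingCat.of k))} [GrpObj G] [GrpObj H] [IsAffine G.left] [Smooth G.hom]
  [IsAffine H.left] [Smooth H.hom] {i : H ⟶ G} [IsMonHom i] [IsClosedImmersion i.left]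

omit [IsAlgClosed k] [GrpObj G] [GrpObj H] [IsAffine G.left] [Smooth G.hom] [IsAffine H.left] [Smooth H.hom]
  [IsMonHom i] in
theorem cancel_closed {T : Over (Spec (CommRingCat.of k))} {a b : T ⟶ H} (h : a ≫ i = b ≫ i) : a = b := by
  refine Over.OverMorphism.ext ((cancel_mono i.left).1 ?_)
  rw [← Over.comp_left, ← Over.comp_left, h]

omit [IsAlgClosed k] [IsAffine G.left] [Smooth G.hom] [IsAffine H.left] [Smooth H.hom] [IsMonHom i]
  [IsClosedImmersion i.left] in
theorem kAct_intertwine {V W : Type u} [AddCommGroup V] [Module k V] [AddCommGroup W] [Module k W]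
    (σ : GMod H V) (ρ : GMod G W) (φ : V →ₗ[k] W)
    (heq : ∀ (B : Type u) [CommRing B] [Algebra k B] (h : pt k B ⟶ H) (x : B ⊗[k] V),
      φ.baseChange B (σ.ρ B h x) = ρ.ρ B (h ≫ i) (φ.baseChange B x))
    (h : pt k k ⟶ H) (v : V) : φ (kAct σ h v) = kAct ρ (h ≫ i) (φ v) := by
  have e := heq k h ((1 : k) ⊗ₜ[k] v)
  rw [rho_one_tmul, LinearMap.baseChange_tmul, LinearMap.baseChange_tmul, rho_one_tmul] at e
  simpa using congrArg (TensorProduct.lid k W) e

omit [IsAffine H.left] [Smooth H.hom] in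
theorem kAct_subGMod [QuasiCompact G.hom] [QuasiSeparated G.hom] {N : Submodule k (Fn G)} [Module.Finite k N]
    (hN : Stable (fnGMod (rtAct G)) N) (g : pt k k ⟶ G) (v : N) :
    ((kAct (subGMod (fnGMod (rtAct G)) N hN) g v : N) : Fn G) = rt g (v : Fn G) := by
  have e : (N.subtype.baseChange k) ((1 : k) ⊗ₜ[k] kAct (subGMod (fnGMod (rtAct G)) N hN) g v) =
      (1 : k) ⊗ₜ[k] rt g (v : Fn G) := by
    rw [← rho_one_tmul, subGMod_apply, res_spec, LinearMap.baseChange_tmul, Submodule.subtype_apply, rho_fn]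
  rw [LinearMap.baseChange_tmul] at e
  simpa using congrArg (TensorProduct.lid k (Fn G)) e

variable {K : Over (Spec (CommRingCat.of k))} [GrpObj K] [IsAffine K.left] [Smooth K.hom] (κ : K ⟶ H) [IsMonHom κ]

omit [IsAffine K.left] [Smooth K.hom] [IsMonHom κ] in
/-- Invariant functions on an observable subgroup extend to invariant functions. -/
theorem exists_invariant_lift (hobs : AGF.IsObservableIn k i) {f : Fn H}
    (hf : f ∈ semi κ (fun _ => (1 : k))) :
    ∃ F ∈ semi (κ ≫ i) (fun _ => (1 : k)), fnMap i F = f := by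
  haveI : IsAffineHom H.hom := inferInstance
  obtain ⟨N, hN, hst, hmem⟩ := exists_stable (fnGMod (rtAct H)) ({f} : Finset (Fn H))
  haveI := hN
  obtain ⟨W, _, _, _, ρ, φ, hφ, heq⟩ :=
    extendsAlong_of_observable hobs (subGMod (fnGMod (rtAct H)) N hst)
  obtain ⟨r, hr⟩ := φ.exists_leftInverse_of_injective (LinearMap.ker_eq_bot.2 hφ)
  let α : Module.Dual k W := (valAt (1 : pt k k ⟶ H)).toLinearMap ∘ₗ N.subtype ∘ₗ r
  let v : N := ⟨f, hmem f (Finset.mem_singleton_self f)⟩
  have hval : ∀ x : pt k k ⟶ G, valAt x (coeff ρ α (φ v)) = α (kAct ρ x (φ v)) := fun x => by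
    rw [valAt_coeff, rho_one_tmul, cf_tmul, smul_eq_mul, _root_.mul_one]
  have hα : ∀ z : N, α (φ z) = valAt (1 : pt k k ⟶ H) (z : Fn H) := fun z => by
    show valAt (1 : pt k k ⟶ H) ((r (φ z) : N) : Fn H) = _
    rw [show r (φ z) = z from LinearMap.congr_fun hr z]
  refine ⟨coeff ρ α (φ v), fun x t => ?_, ext_valAt fun h => ?_⟩
  · rw [_root_.one_mul, hval, hval, kAct_mul]
    congr 2
    rw [← Category.assoc, ← kAct_intertwine _ ρ φ heq]
    congr 1
    refine Subtype.ext ?_
    rw [kAct_subGMod hst]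
    refine ext_valAt fun y => ?_
    rw [valAt_rt]
    have := mem_semi_iff.1 hf y t
    rwa [_root_.one_mul] at this
  · rw [← valAt_comp, hval, ← kAct_intertwine _ ρ φ heq, hα, kAct_subGMod hst, valAt_rt, _root_.one_mul]

/-- An observable subgroup is observable in every intermediate subgroup. -/
theorem observable_of_intermediate [IsClosedImmersion κ.left]
    (hK : AGF.IsObservableIn k (κ ≫ i)) : AGF.IsObservableIn k κ := by
  intro g hg
  have hhull : InHull (κ ≫ i) (g ≫ i) := by
    intro F hF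
    rw [isRTransInv_pt_iff]
    intro x
    have hF' := (mem_semi_one_iff (i := κ ≫ i) F).2 hF
    have hf : fnMap i (lt x (F : Fn G)) ∈ semi κ (fun _ => (1 : k)) := fun y t => by
      rw [_root_.one_mul, ← valAt_comp, ← valAt_comp, valAt_lt, valAt_lt, MonObj.mul_comp, Category.assoc,
        ← _root_.mul_assoc]
      have := mem_semi_iff.1 hF' (x * (y ≫ i)) t
      rwa [_root_.one_mul] at this
    have h2 := InHull.valAt_eq (i := κ) hg hf
    rwa [← valAt_comp, ← valAt_comp, valAt_lt, valAt_lt, MonObj.one_comp i, _root_.mul_one] at h2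
  obtain ⟨t, ht⟩ := hK _ hhull
  exact ⟨t, cancel_closed (i := i) (by rw [Category.assoc]; exact ht)⟩

end GrothLib.Induce27
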