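import Groth.Agent.Lib.Induce27.Semi

/-!
# Observable subgroups: extension of modules, stabilisers
-/

set_option autoImplicit false

universe u

open CategoryTheory MonoidalCategory CartesianMonoidalCategory MonObj GrpObj AlgebraicGeometry VecGrp
open scoped TensorProduct

noncomputable section

namespace GrothLib.Induce27

open GrothLib.Repr Groth.Agent.S11191

variable {k : Type u} [Field k] [IsAlgClosed k]
  {G H : Over (Spec (CommRingCat.of k))} [GrpObj G] [GrpObj H] [IsAffine G.left] [Smooth G.hom]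
  [IsAffine H.left] [Smooth H.hom] {i : H ⟶ G} [IsMonHom i] [IsClosedImmersion i.left]

omit [IsAlgClosed k] [GrpObj G] [GrpObj H] [Smooth G.hom] [Smooth H.hom] [IsMonHom i] in
theorem surjective_fnMap : Function.Surjective (fnMap i) :=
  (IsClosedImmersion.isAffine_surjective_of_isAffine (f := i.left)).2

omit [IsAlgClosed k] [GrpObj G] [GrpObj H] [Smooth G.hom] [Smooth H.hom] [IsMonHom i] in
theorem exists_factor_of_kills {B : Type u} [CommRing B] [Algebra k B] (y : pt k B ⟶ G)
    (hy : ∀ a, fnMap i a = 0 → valAt y a = 0) : ∃ y₀ : pt k B ⟶ H, y₀ ≫ i = y := by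
  have hsurj := surjective_fnMap (i := i)
  have hle : ∀ a ∈ RingHom.ker (fnMap i), valAt y a = 0 := fun a ha => hy a (RingHom.mem_ker.1 ha)
  let φ₀ : Fn H →ₐ[k] B :=
    (Ideal.Quotient.liftₐ (RingHom.ker (fnMap i)) (valAt y) hle).comp
      (Ideal.quotientKerAlgEquivOfSurjective hsurj).symm.toAlgHom
  refine ⟨ptMap φ₀ ≫ (affIso H).inv, pt_ext (AlgHom.ext fun a => ?_)⟩
  rw [valAt_comp, valAt_ptMap_comp, valAt_affIso_inv]
  show Ideal.Quotient.liftₐ (RingHom.ker (fnMap i)) (valAt y) hle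
    ((Ideal.quotientKerAlgEquivOfSurjective hsurj).symm (fnMap i a)) = _
  rw [Ideal.quotientKerAlgEquivOfSurjective_symm_apply hsurj]
  rfl

omit [IsAffine H.left] [Smooth H.hom] [IsMonHom i] [IsClosedImmersion i.left] in
theorem exists_stable_fn (S : Finset (Fn G)) :
    ∃ N : Submodule k (Fn G), Module.Finite k N ∧ (∀ (h : pt k k ⟶ H), ∀ f ∈ N, rt (h ≫ i) f ∈ N) ∧
      (∀ g : pt k k ⟶ G, ∀ f ∈ N, rt g f ∈ N) ∧ Stable (fnGMod (rtAct G)) N ∧ ∀ f ∈ S, f ∈ N := by
  haveI : IsAffineHom G.hom := inferInstance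
  obtain ⟨N, hN, hst, hmem⟩ := exists_stable (fnGMod (rtAct G)) S
  exact ⟨N, hN, fun h f hf => rt_mem_of_stable hst _ hf, fun g f hf => rt_mem_of_stable hst g hf, hst, hmem⟩

/-- The character attached to a closed subgroup: a unit of functions, multiplicative on rational points,
with nowhere vanishing semi-invariants detecting the subgroup. -/
theorem exists_key (i : H ⟶ G) [IsMonHom i] [IsClosedImmersion i.left] :
    ∃ u : Fn H, (∀ h : pt k k ⟶ H, valAt h u ≠ (0 : k)) ∧ (∀ h h' : pt k k ⟶ H, valAt (h * h') u = valAt h u * valAt h' u) ∧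
      (∀ x : pt k k ⟶ G, ∃ D ∈ semi i (fun h : pt k k ⟶ H => valAt h u), valAt x D ≠ 0) ∧
      ∀ g : pt k k ⟶ G, (∀ D ∈ semi i (fun h : pt k k ⟶ H => valAt h u), valAt (1 : pt k k ⟶ G) D = 0 → valAt g D = 0) →
        ∃ h : pt k k ⟶ H, h ≫ i = g := by
  classical
  haveI := isNoetherianRing_fn G
  obtain ⟨S, hS⟩ := (IsNoetherian.noetherian (RingHom.ker (fnMap i)) : (RingHom.ker (fnMap i)).FG)
  obtain ⟨N, hNfin, hNH, -, -, hmem⟩ := exists_stable_fn (i := i) S
  haveI := hNfin
  obtain ⟨d, c, χ, hc, hcv, hspan, hχ, hD⟩ := exists_weight N hNH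
  obtain ⟨p₀, hp₀⟩ := exists_minor_ne_zero hc (1 : pt k k ⟶ G)
  let D₀ := minor c p₀
  let u : Fn H := (valAt (1 : pt k k ⟶ G) D₀)⁻¹ • fnMap i D₀
  have hu : ∀ h, valAt h u = χ h := fun h => by
    show valAt h (_ • fnMap i D₀) = χ h
    rw [map_smul, ← valAt_comp, ← _root_.one_mul (h ≫ i), mem_semi_iff.1 (hD p₀) 1 h, smul_eq_mul,
      mul_comm, mul_inv_cancel_right₀ hp₀]
  have hfun : (fun h => valAt h u) = χ := funext hu
  refine ⟨u, fun h => hu h ▸ hχ h, fun h h' => ?_, ?_, ?_⟩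
  · have e1 := mem_semi_iff.1 (hD p₀) 1 (h * h')
    have e2 := mem_semi_iff.1 (hD p₀) (h ≫ i) h'
    have e3 := mem_semi_iff.1 (hD p₀) 1 h
    rw [_root_.one_mul, MonObj.mul_comp] at e1
    rw [_root_.one_mul] at e3
    rw [hu, hu, hu]
    refine mul_right_cancel₀ hp₀ ?_
    rw [← e1, e2, e3]
    ring
  · intro x
    obtain ⟨p, hp⟩ := exists_minor_ne_zero hc x
    exact ⟨_, hfun ▸ hD p, hp⟩
  · intro g hg
    refine exists_factor_of_kills g fun a ha => ?_
    have hc1 : ∀ b, valAt (1 : pt k k ⟶ G) (c b) = 0 := fun b => by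
      rw [show (1 : pt k k ⟶ G) = (1 : pt k k ⟶ H) ≫ i from (MonObj.one_comp i).symm, valAt_comp,
        show fnMap i (c b) = 0 from (hcv b).2, map_zero]
    have hcg : ∀ b, valAt g (c b) = 0 := by
      intro b
      by_contra hne
      obtain ⟨p, hp, hp1⟩ := exists_minor_through hc g ⟨b, hne⟩ hc1
      exact hp (hg _ (hfun ▸ hD p) hp1)
    have hker : RingHom.ker (fnMap i) ≤ RingHom.ker (valAt g) := by
      rw [← hS]
      refine Ideal.span_le.2 fun f hf => RingHom.mem_ker.2 ?_
      have hf0 : f ∈ RingHom.ker (fnMap i) := hS ▸ Ideal.subset_span hf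
      exact (Submodule.span_le.2 (by rintro _ ⟨b, rfl⟩; exact hcg b) :
        Submodule.span k (Set.range c) ≤ LinearMap.ker (valAt g).toLinearMap)
          (hspan ⟨hmem f hf, (show fnMap i f = 0 from hf0)⟩)
    exact RingHom.mem_ker.1 (hker ha)

/-- Modules of an observable subgroup extend. -/
theorem extendsAlong_of_observable (hobs : AGF.IsObservableIn k i)
    {V : Type u} [AddCommGroup V] [Module k V] [Module.Finite k V] (σ : GMod H V) :
    σ.ExtendsAlong i := by
  classical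
  haveI : IsAffineHom G.hom := inferInstance
  let P : Set (V →ₗ[k] Fn G) := {L | ∀ (h : pt k k ⟶ H) (x : pt k k ⟶ G) (v : V),
    valAt (x * (h ≫ i)) (L v) = valAt x (L (kAct σ h v))}
  suffices key : ∀ v : V, (∀ L ∈ P, L v = 0) → v = 0 by
    obtain ⟨_, ⟨t, ht, rfl⟩, hmin⟩ := IsArtinian.set_has_minimal
      {K | ∃ t : Finset (V →ₗ[k] Fn G), (∀ L ∈ t, L ∈ P) ∧ K = ⨅ L ∈ t, LinearMap.ker L}
      ⟨_, ∅, by simp, rfl⟩
    refine extendsAlong_of_family σ (J := Fin t.card) (fun j => (t.equivFin.symm j).1) ?_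
      (fun j h x v => ht _ (t.equivFin.symm j).2 h x v)
    intro v hv
    refine key v fun L hL => ?_
    by_contra hne
    refine hmin (⨅ L' ∈ insert L t, LinearMap.ker L') ⟨insert L t, fun L' hL' => ?_, rfl⟩ ?_
    · rcases Finset.mem_insert.1 hL' with rfl | h'
      · exact hL
      · exact ht _ h'
    · refine lt_of_le_not_ge (biInf_mono fun L' hL' => Finset.mem_insert_of_mem hL') fun hle => hne ?_
      have hvt : v ∈ ⨅ L' ∈ t, LinearMap.ker L' := by
        simp only [Submodule.mem_iInf, LinearMap.mem_ker]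
        intro L' hL'
        have := hv (t.equivFin ⟨L', hL'⟩)
        simpa using this
      have := hle hvt
      simp only [Submodule.mem_iInf, LinearMap.mem_ker] at this
      exact this L (Finset.mem_insert_self _ _)
  intro v hv
  refine (Module.forall_dual_apply_eq_zero_iff k v).1 fun ℓ => ?_
  -- the coefficient and its lift
  let bV := Module.finBasis k V
  choose s₀ hs₀ using fun t => surjective_fnMap (i := i) (coeff σ ℓ (bV t))
  obtain ⟨N, hNfin, hNH, -, -, hmem⟩ := exists_stable_fn (i := i) (Finset.univ.image s₀)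
  haveI := hNfin
  let s : V →ₗ[k] Fn G := bV.constr k s₀
  have hs : ∀ w, fnMap i (s w) = coeff σ ℓ w := by
    intro w
    refine LinearMap.congr_fun (bV.ext (f₁ := (fnMap i).toLinearMap ∘ₗ s) (f₂ := coeff σ ℓ) fun t => ?_) w
    show fnMap i (bV.constr k s₀ (bV t)) = _
    rw [Module.Basis.constr_basis, hs₀]
  have hsN : ∀ w, s w ∈ N := by
    intro w
    rw [← bV.sum_repr w, map_sum]
    refine Submodule.sum_mem _ fun t _ => ?_
    rw [map_smul, show s (bV t) = s₀ t from bV.constr_basis k s₀ t]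
    exact N.smul_mem _ (hmem _ (Finset.mem_image_of_mem _ (Finset.mem_univ t)))
  obtain ⟨d, c, χ, hc, hcv, hspan, hχ, hD⟩ := exists_weight N hNH
  obtain ⟨q, hq, x₀, hx₀⟩ := exists_semi_inv hobs χ hχ fun x => by
    obtain ⟨p, hp⟩ := exists_minor_ne_zero hc x
    exact ⟨_, hD p, hp⟩
  -- the determinant maps
  let E : (Fin (d + 1) → (pt k k ⟶ G)) → Fn G →ₗ[k] Fn G := fun p =>
    ∑ a : Fin (d + 1), ((-1 : k) ^ (a : ℕ)) •
      ((LinearMap.mulRight k (minor c (p ∘ a.succAbove))) ∘ₗ (lt (p a)).toLinearMap)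
  have hE : ∀ p x z, valAt x (E p z) =
      ∑ a : Fin (d + 1), (-1 : k) ^ (a : ℕ) * valAt (p a * x) z * valAt x (minor c (p ∘ a.succAbove)) := by
    intro p x z
    simp only [E, LinearMap.sum_apply, map_sum, LinearMap.smul_apply, LinearMap.comp_apply,
      LinearMap.mulRight_apply, AlgHom.toLinearMap_apply, map_smul, map_mul, valAt_lt, smul_eq_mul,
      _root_.mul_assoc]
  have hEdet : ∀ p x z, valAt x (E p z) =
      (Matrix.of fun a b => valAt (p a * x) ((Fin.cons z c : Fin (d + 1) → Fn G) b)).det := by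
    intro p x z
    rw [hE, Matrix.det_succ_column_zero]
    refine Finset.sum_congr rfl fun a _ => ?_
    rw [valAt_minor]
    congr 1
  have hEc : ∀ p b, E p (c b) = 0 := fun p b => eq_zero_of_valAt fun x => by
    rw [hEdet]
    refine Matrix.det_zero_of_column_eq (i := 0) (j := b.succ) (Fin.succ_ne_zero b).symm fun a => ?_
    simp
  have hEspan : ∀ p, ∀ z ∈ vanish i N, E p z = 0 := by
    intro p z hz
    exact (Submodule.span_le.2 (by rintro _ ⟨b, rfl⟩; exact hEc p b) :
      Submodule.span k (Set.range c) ≤ LinearMap.ker (E p)) (hspan hz)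
  have hΦ : ∀ p, (LinearMap.mulLeft k q ∘ₗ E p ∘ₗ s : V →ₗ[k] Fn G) ∈ P := by
    intro p h x w
    simp only [LinearMap.comp_apply, LinearMap.mulLeft_apply, map_mul]
    have hδ : s (kAct σ h w) - rt (h ≫ i) (s w) ∈ vanish i N := by
      refine ⟨sub_mem (hsN _) (hNH h _ (hsN w)), ?_⟩
      show fnMap i _ = 0
      refine eq_zero_of_valAt fun y => ?_
      rw [map_sub, map_sub, hs, ← valAt_comp, valAt_rt, ← MonObj.mul_comp, valAt_comp, hs, valAt_coeff,
        valAt_coeff, map_mul, LinearEquiv.mul_apply, rho_one_tmul σ h w, sub_self]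
    have e1 := hEspan p _ hδ
    rw [map_sub, sub_eq_zero] at e1
    rw [e1, mem_semi_iff.1 hq x h, hE, hE]
    simp only [mem_semi_iff.1 (hD _) x h, valAt_rt, ← _root_.mul_assoc (p _) x, Finset.mul_sum]
    refine Finset.sum_congr rfl fun a _ => ?_
    field_simp [hχ h]
  have hvan : ∀ p, valAt x₀ (E p (s v)) = 0 := fun p => by
    have h1 := congrArg (valAt x₀) (hv _ (hΦ p))
    simp only [LinearMap.comp_apply, LinearMap.mulLeft_apply, map_mul, map_zero, mul_eq_zero] at h1
    exact h1.resolve_left hx₀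
  have hsv : s v ∈ Submodule.span k (Set.range c) := by
    by_contra hnot
    have hli : LinearIndependent k (Fin.cons (s v) c : Fin (d + 1) → Fn G) :=
      linearIndependent_finCons.2 ⟨hc, hnot⟩
    obtain ⟨p, hp⟩ := exists_minor_ne_zero hli x₀
    rw [valAt_minor, ← hEdet] at hp
    exact hp (hvan p)
  have hs0 : fnMap i (s v) = 0 := by
    have hle : Submodule.span k (Set.range c) ≤ LinearMap.ker (fnMap i).toLinearMap :=
      Submodule.span_le.2 (by rintro _ ⟨b, rfl⟩; exact (hcv b).2)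
    exact hle hsv
  have hfin := valAt_coeff σ ℓ (1 : pt k k ⟶ H) v
  rw [← hs, hs0, map_zero, map_one] at hfin
  simpa using hfin.symm

end GrothLib.Induce27
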