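import Groth.Agent.Lib.Induce27.Obs
import Groth.Prelude.Def_W4bk4grossh1223Act

/-!
# Right translation by a subgroup on functions
-/

set_option autoImplicit false

universe u

open CategoryTheory MonoidalCategory CartesianMonoidalCategory MonObj GrpObj AlgebraicGeometry VecGrp
open scoped TensorProduct

noncomputable section

namespace GrothLib.Induce27

open GrothLib.Repr Groth.Agent.S11191

variable {k : Type u} [Field k] {G H : Over (Spec (CommRingCat.of k))} [GrpObj G] [GrpObj H]

/-- restriction of a module structure along a homomorphism. -/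
def resGMod {M : Type u} [AddCommGroup M] [Module k M] (m : GMod G M) (i : H ⟶ G) [IsMonHom i] :
    GMod H M where
  ρ B _ _ :=
    { toFun := fun h => m.ρ B (h ≫ i)
      map_one' := by rw [MonObj.one_comp i, map_one]
      map_mul' := fun a b => by rw [MonObj.mul_comp a b i, map_mul] }
  naturality φ g x := (m.naturality φ _ x).trans (by rw [← Category.assoc]; rfl)

theorem resGMod_apply {M : Type u} [AddCommGroup M] [Module k M] (m : GMod G M) (i : H ⟶ G) [IsMonHom i]
    {B : Type u} [CommRing B] [Algebra k B] (h : pt k B ⟶ H) (x : B ⊗[k] M) :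
    (resGMod m i).ρ B h x = m.ρ B (h ≫ i) x := rfl

theorem fixedUnder_resGMod {M : Type u} [AddCommGroup M] [Module k M] (m : GMod G M) (i : H ⟶ G) [IsMonHom i] :
    (resGMod m i).fixedUnder (𝟙 H) = m.fixedUnder i := by
  ext x
  constructor
  · intro h B _ _ t
    have := h B t
    rwa [resGMod_apply, Category.comp_id] at this
  · intro h B _ _ t
    rw [resGMod_apply, Category.comp_id]
    exact h B t

variable [IsAffine G.left] [QuasiCompact G.hom] [QuasiSeparated G.hom]

/-- Right translation acts by algebra automorphisms. -/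
theorem fnGMod_isMult : GMod.IsMult (fnGMod (rtAct G)) := by
  intro B _ _ g
  refine ⟨fun x y => ext_ev fun C _ _ z ψ => ?_, ext_ev fun C _ _ z ψ => ?_⟩
  · rw [ev_rho, map_mul, map_mul, ev_rho, ev_rho]
  · rw [ev_rho, map_one, map_one]

theorem resGMod_isMult {A : Type u} [CommRing A] [Algebra k A] {m : GMod G A} (hm : m.IsMult)
    (i : H ⟶ G) [IsMonHom i] : (resGMod m i).IsMult := fun B _ _ h => hm B (h ≫ i)

omit [IsAffine G.left] [QuasiCompact G.hom] [QuasiSeparated G.hom] in
theorem ev_map_fn {X Y : Over (Spec (CommRingCat.of k))} (q : Y ⟶ X) {R B : Type u} [CommRing R] [Algebra k R]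
    [CommRing B] [Algebra k B] (y : pt k B ⟶ Y) (ψ : R →ₐ[k] B) (z : R ⊗[k] Fn X) :
    ev y ψ ((fnMap q).toLinearMap.baseChange R z) = ev (y ≫ q) ψ z := by
  induction z using TensorProduct.induction_on with
  | zero => simp
  | tmul r f => rw [LinearMap.baseChange_tmul, ev_tmul, ev_tmul, valAt_comp]; rfl
  | add a b ha hb => simp only [map_add, ha, hb]

/-- The vanishing ideal of a right translate of the subgroup is stable. -/
theorem isStable_ker [IsAffine H.left] (i : H ⟶ G) [IsMonHom i] (q : H ⟶ G)
    (hq : ∀ (B : Type u) [CommRing B] [Algebra k B] (y t : pt k B ⟶ H), (y ≫ q) * (t ≫ i) = (y * t) ≫ q)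
    (hsurj : Function.Surjective (fnMap q)) :
    (resGMod (fnGMod (rtAct G)) i).IsStable (𝟙 H) ((RingHom.ker (fnMap q)).restrictScalars k) := by
  intro B _ _ h f hf
  rw [resGMod_apply, Category.comp_id]
  have hex : Function.Exact (((RingHom.ker (fnMap q)).restrictScalars k).subtype.baseChange B)
      ((fnMap q).toLinearMap.baseChange B) := by
    refine lTensor_exact B ?_ hsurj
    rw [LinearMap.exact_iff, Submodule.range_subtype]
    rfl
  show _ ∈ LinearMap.range (((RingHom.ker (fnMap q)).restrictScalars k).subtype.baseChange B)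
  refine (hex _).1 (ext_ev fun C _ _ y ψ => ?_)
  rw [ev_map_fn, ev_rho, map_zero, ev_tmul, map_one, _root_.one_mul, ← Category.assoc (ptMap ψ) h i, hq,
    valAt_comp, show fnMap q f = 0 from RingHom.mem_ker.1 hf, map_zero]

end GrothLib.Induce27
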