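import Groth.Agent.Lib.Repr.Finite
import Mathlib.RingTheory.Flat.Basic
import Mathlib.LinearAlgebra.TensorProduct.Pi

/-!
# Restriction of module structures to stable subspaces; finite powers
-/

set_option autoImplicit false

universe u

open CategoryTheory MonoidalCategory CartesianMonoidalCategory MonObj AlgebraicGeometry VecGrp
open scoped TensorProduct

noncomputable section

namespace GrothLib.Induce27

open GrothLib.Repr

variable {k : Type u} [Field k] {G : Over (Spec (CommRingCat.of k))} [GrpObj G]
  {M : Type u} [AddCommGroup M] [Module k M] (m : GMod G M)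

theorem subtype_injective (N : Submodule k M) (R : Type u) [CommRing R] [Algebra k R] :
    Function.Injective (N.subtype.baseChange R) := by
  exact Module.Flat.lTensor_preserves_injective_linearMap (M := R) N.subtype Subtype.val_injective

theorem Wmap_baseChange {R R' : Type u} [CommRing R] [Algebra k R] [CommRing R'] [Algebra k R']
    {V : Type u} [AddCommGroup V] [Module k V] (L : V →ₗ[k] M) (φ : R →ₐ[k] R') (z : R ⊗[k] V) :
    Wmap φ (L.baseChange R z) = L.baseChange R' (Wmap φ z) := by
  induction z using TensorProduct.induction_on with
  | zero => simp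
  | tmul r v => simp
  | add x y hx hy => simp only [map_add, hx, hy]

theorem rho_mem_range (N : Submodule k M) [Module.Finite k N] (hN : Stable m N) {R : Type u}
    [CommRing R] [Algebra k R] (u : pt k R ⟶ G) (z : R ⊗[k] N) :
    m.ρ R u (N.subtype.baseChange R z) ∈ LinearMap.range (N.subtype.baseChange R) := by
  induction z using TensorProduct.induction_on with
  | zero => simp
  | add x y hx hy => rw [map_add, map_add]; exact add_mem hx hy
  | tmul r v =>
    obtain ⟨n, e, φ, he, -, hsum⟩ := exists_dual_family N
    rw [LinearMap.baseChange_tmul, ← mul_one r, ← smul_eq_mul, ← TensorProduct.smul_tmul', map_smul]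
    refine Submodule.smul_mem _ _ ?_
    change act m u (v : M) ∈ _
    rw [← sum_cf_tmul e he φ hsum (hN R u _ v.2)]
    refine sum_mem fun i _ => Submodule.smul_mem _ _ ⟨(1 : R) ⊗ₜ[k] ⟨e i, he i⟩, rfl⟩

/-- The restricted action as a linear map. -/
def res (N : Submodule k M) [Module.Finite k N] (hN : Stable m N) {R : Type u}
    [CommRing R] [Algebra k R] (u : pt k R ⟶ G) : R ⊗[k] N →ₗ[R] R ⊗[k] N :=
  (LinearEquiv.ofInjective _ (subtype_injective N R)).symm.toLinearMap ∘ₗ
    LinearMap.codRestrict _ ((m.ρ R u).toLinearMap ∘ₗ N.subtype.baseChange R) (rho_mem_range m N hN u)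

theorem res_spec (N : Submodule k M) [Module.Finite k N] (hN : Stable m N) {R : Type u}
    [CommRing R] [Algebra k R] (u : pt k R ⟶ G) (z : R ⊗[k] N) :
    N.subtype.baseChange R (res m N hN u z) = m.ρ R u (N.subtype.baseChange R z) := by
  have h := (LinearEquiv.ofInjective _ (subtype_injective N R)).apply_symm_apply
    (LinearMap.codRestrict _ ((m.ρ R u).toLinearMap ∘ₗ N.subtype.baseChange R)
      (rho_mem_range m N hN u) z)
  exact congrArg Subtype.val h

theorem res_one (N : Submodule k M) [Module.Finite k N] (hN : Stable m N) {R : Type u}
    [CommRing R] [Algebra k R] (z : R ⊗[k] N) : res m N hN (1 : pt k R ⟶ G) z = z :=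
  subtype_injective N R (by rw [res_spec, map_one]; rfl)

theorem res_mul (N : Submodule k M) [Module.Finite k N] (hN : Stable m N) {R : Type u}
    [CommRing R] [Algebra k R] (u v : pt k R ⟶ G) (z : R ⊗[k] N) :
    res m N hN (u * v) z = res m N hN u (res m N hN v z) :=
  subtype_injective N R (by simp only [res_spec, map_mul, LinearEquiv.mul_apply])

/-- The module structure on a finite stable subspace. -/
def subGMod (N : Submodule k M) [Module.Finite k N] (hN : Stable m N) : GMod G N where
  ρ R _ _ :=
    { toFun := fun u => LinearEquiv.ofLinear (res m N hN u) (res m N hN u⁻¹)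
        (LinearMap.ext fun z => by
          simp only [LinearMap.comp_apply, LinearMap.id_apply]
          rw [← res_mul, mul_inv_cancel, res_one])
        (LinearMap.ext fun z => by
          simp only [LinearMap.comp_apply, LinearMap.id_apply]
          rw [← res_mul, inv_mul_cancel, res_one])
      map_one' := LinearEquiv.ext fun z => res_one m N hN z
      map_mul' := fun u v => LinearEquiv.ext fun z => res_mul m N hN u v z }
  naturality {R R'} _ _ _ _ φ u z := by
    show Wmap φ (res m N hN u z) = res m N hN (ptMap φ ≫ u) (Wmap φ z)
    refine subtype_injective N R' ?_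
    rw [← Wmap_baseChange, res_spec, res_spec, m.naturality, ← Wmap_baseChange]

theorem subGMod_apply (N : Submodule k M) [Module.Finite k N] (hN : Stable m N) {R : Type u}
    [CommRing R] [Algebra k R] (u : pt k R ⟶ G) (z : R ⊗[k] N) :
    (subGMod m N hN).ρ R u z = res m N hN u z := rfl

variable (I : Type) [Fintype I] [DecidableEq I]

/-- The finite power of a module structure. -/
def piGMod : GMod G (I → M) where
  ρ R _ _ :=
    { toFun := fun u => (TensorProduct.piRight k R R (fun _ : I => M)).trans
        ((LinearEquiv.piCongrRight fun _ => m.ρ R u).trans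
          (TensorProduct.piRight k R R (fun _ : I => M)).symm)
      map_one' := LinearEquiv.ext fun z => by
        show (TensorProduct.piRight k R R (fun _ : I => M)).symm _ = z
        rw [LinearEquiv.symm_apply_eq]
        funext i
        show m.ρ R 1 _ = _
        rw [map_one]; rfl
      map_mul' := fun u v => LinearEquiv.ext fun z => by
        show (TensorProduct.piRight k R R (fun _ : I => M)).symm _ =
          (TensorProduct.piRight k R R (fun _ : I => M)).symm _
        congr 1
        funext i
        show m.ρ R (u * v) _ = m.ρ R u _
        rw [map_mul, LinearEquiv.mul_apply]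
        congr 1
        exact (congrFun ((TensorProduct.piRight k R R (fun _ : I => M)).apply_symm_apply
          ((LinearEquiv.piCongrRight fun _ => m.ρ R v) (TensorProduct.piRight k R R (fun _ : I => M) z))) i).symm }
  naturality {R R'} _ _ _ _ φ u z := by
    have e : ∀ (w : R ⊗[k] (I → M)) (i : I),
        TensorProduct.piRight k R' R' (fun _ : I => M) (Wmap φ w) i =
          Wmap φ (TensorProduct.piRight k R R (fun _ : I => M) w i) := by
      intro w i
      induction w using TensorProduct.induction_on with
      | zero => simp
      | tmul r f => simp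
      | add x y hx hy => simp only [map_add, Pi.add_apply, hx, hy]
    apply (TensorProduct.piRight k R' R' (fun _ : I => M)).injective
    funext i
    rw [e]
    show Wmap φ (TensorProduct.piRight k R R (fun _ : I => M)
        ((TensorProduct.piRight k R R (fun _ : I => M)).symm _) i) =
      TensorProduct.piRight k R' R' (fun _ : I => M)
        ((TensorProduct.piRight k R' R' (fun _ : I => M)).symm _) i
    rw [LinearEquiv.apply_symm_apply, LinearEquiv.apply_symm_apply]
    show Wmap φ (m.ρ R u _) = m.ρ R' (ptMap φ ≫ u) _
    rw [m.naturality]
    exact congrArg _ (e z i).symm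

theorem piRight_baseChange_pi {V : Type u} [AddCommGroup V] [Module k V] (L : I → V →ₗ[k] M) {R : Type u}
    [CommRing R] [Algebra k R] (z : R ⊗[k] V) (i : I) :
    TensorProduct.piRight k R R (fun _ : I => M) ((LinearMap.pi L).baseChange R z) i = (L i).baseChange R z := by
  induction z using TensorProduct.induction_on with
  | zero => simp
  | tmul r v => simp
  | add x y hx hy => simp only [map_add, Pi.add_apply, hx, hy]

theorem piGMod_apply {R : Type u} [CommRing R] [Algebra k R] (u : pt k R ⟶ G) (z : R ⊗[k] (I → M)) (i : I) :
    TensorProduct.piRight k R R (fun _ : I => M) ((piGMod m I).ρ R u z) i =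
      m.ρ R u (TensorProduct.piRight k R R (fun _ : I => M) z i) :=
  congrFun ((TensorProduct.piRight k R R (fun _ : I => M)).apply_symm_apply _) i

end GrothLib.Induce27
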