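import Groth.Agent.Lib.Induce27.Open
import Groth.Agent.Lib.AffQuot.Points
import Groth.Agent.Lib.RedSmooth.Basic

/-!
# Functions on affine groups and their values at rational points
-/

set_option autoImplicit false

universe u

open CategoryTheory MonoidalCategory CartesianMonoidalCategory MonObj GrpObj AlgebraicGeometry VecGrp
open scoped TensorProduct

noncomputable section

namespace GrothLib.Induce27

open GrothLib.Repr Groth.Agent.S11191

variable {k : Type u} [Field k]

section Varieties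

variable {X : Over (Spec (CommRingCat.of k))}

theorem finiteType_fn [IsAffine X.left] [LocallyOfFiniteType X.hom] : Algebra.FiniteType k (Fn X) := by
  have hft : (algebraMap k (Fn X)).FiniteType := by
    change ((Scheme.ΓSpecIso (CommRingCat.of k)).inv ≫ X.hom.appTop).hom.FiniteType
    exact (RingHom.finiteType_respectsIso.cancel_left_isIso _ _).2
      (HasRingHomProperty.appTop (P := @LocallyOfFiniteType) _ inferInstance)
  exact RingHom.finiteType_algebraMap.1 hft

instance isReduced_fn [Smooth X.hom] : _root_.IsReduced (Fn X) := by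
  haveI : IsReduced X.left := GrothLib.RedSmooth.isReduced_of_smooth X.hom
  exact inferInstanceAs (_root_.IsReduced Γ(X.left, ⊤))

/-- rational points from homomorphisms on functions. -/
theorem exists_pt_valAt [IsAffine X.left] {B : Type u} [CommRing B] [Algebra k B] (φ : Fn X →ₐ[k] B) :
    ∃ x : pt k B ⟶ X, valAt x = φ :=
  ⟨ptMap φ ≫ (affIso X).inv, AlgHom.ext fun f => by rw [valAt_ptMap_comp, valAt_affIso_inv]⟩

/-- A function vanishing at every rational point is zero. -/
theorem eq_zero_of_valAt [IsAlgClosed k] [IsAffine X.left] [Smooth X.hom] {f : Fn X}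
    (h : ∀ x : pt k k ⟶ X, valAt x f = 0) : f = 0 := by
  haveI := finiteType_fn (X := X)
  refine (GrothLib.AffQuot.isNilpotent_of_forall (k := k) fun z => ?_).eq_zero
  obtain ⟨x, rfl⟩ := exists_pt_valAt z
  exact h x

theorem ext_valAt [IsAlgClosed k] [IsAffine X.left] [Smooth X.hom] {f f' : Fn X}
    (h : ∀ x : pt k k ⟶ X, valAt x f = valAt x f') : f = f' :=
  sub_eq_zero.1 (eq_zero_of_valAt fun x => by rw [map_sub, h, sub_self])

theorem appTop_eq_iff {B : Type u} [CommRing B] [Algebra k B] (g g' : pt k B ⟶ X) (f : Γ(X.left, ⊤)) :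
    g.left.appTop f = g'.left.appTop f ↔ valAt g (f : Fn X) = valAt g' (f : Fn X) := by
  constructor
  · intro h
    exact congrArg (fnPtEquiv k B).symm h
  · intro h
    exact (fnPt_valAt g f).symm.trans ((congrArg (fnPt k B) h).trans (fnPt_valAt g' f))

instance subsingleton_pt : Subsingleton (pt k k ⟶ pt k k) := ⟨fun a b => by
  obtain ⟨φ, rfl⟩ := GrothLib.Repr.exists_ptMap a
  obtain ⟨ψ, rfl⟩ := GrothLib.Repr.exists_ptMap b
  rw [Subsingleton.elim φ ψ]⟩

variable (X) in
/-- the morphism to the base, as a rational test scheme. -/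
def toPt : X ⟶ pt k k :=
  Over.homMk X.hom (by
    show X.hom ≫ Spec.map (CommRingCat.ofHom (algebraMap k k)) = X.hom
    rw [show CommRingCat.ofHom (algebraMap k k) = 𝟙 _ from rfl, Spec.map_id, Category.comp_id])

theorem comp_toPt (x : pt k k ⟶ X) : x ≫ toPt X = 𝟙 _ := Subsingleton.elim _ _

end Varieties

section Group

variable {G H : Over (Spec (CommRingCat.of k))} [GrpObj G] [GrpObj H]

/-- left translation. -/
def lt (g : pt k k ⟶ G) : Fn G →ₐ[k] Fn G := fnMap ((toPt G ≫ g) * 𝟙 G)

/-- right translation. -/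
def rt (g : pt k k ⟶ G) : Fn G →ₐ[k] Fn G := fnMap (𝟙 G * (toPt G ≫ g))

theorem valAt_lt (x g : pt k k ⟶ G) (f : Fn G) : valAt x (lt g f) = valAt (g * x) f := by
  rw [lt, ← valAt_comp, MonObj.comp_mul, ← Category.assoc, comp_toPt, Category.id_comp, Category.comp_id]

theorem valAt_rt (x g : pt k k ⟶ G) (f : Fn G) : valAt x (rt g f) = valAt (x * g) f := by
  rw [rt, ← valAt_comp, MonObj.comp_mul, ← Category.assoc, comp_toPt, Category.id_comp, Category.comp_id]

variable [IsAlgClosed k] [IsAffine G.left] [Smooth G.hom]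

instance smooth_tensor (A B : Over (Spec (CommRingCat.of k))) [Smooth A.hom] [Smooth B.hom] :
    Smooth (A ⊗ B).hom :=
  inferInstanceAs (Smooth (Limits.pullback.fst A.hom B.hom ≫ A.hom))

omit [GrpObj G] [IsAlgClosed k] [Smooth G.hom] in
theorem isAffine_tensor {T : Over (Spec (CommRingCat.of k))} [IsAffine T.left] : IsAffine (G ⊗ T).left := by
  show IsAffine (Limits.pullback G.hom T.hom)
  infer_instance

theorem mem_rTransInv_iff_valAt {T : Over (Spec (CommRingCat.of k))} [IsAffine T.left] [Smooth T.hom]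
    (g : T ⟶ G) (f : Γ(G.left, ⊤)) :
    AGF.IsRTransInv g f ↔
      ∀ (x : pt k k ⟶ G) (t : pt k k ⟶ T), valAt (x * (t ≫ g)) (f : Fn G) = valAt x (f : Fn G) := by
  haveI := isAffine_tensor (G := G) (T := T)
  have e : ∀ (x : pt k k ⟶ G) (t : pt k k ⟶ T),
      valAt (x * (t ≫ g)) (f : Fn G) = valAt (lift x t) (fnMap ((G ◁ g) ≫ μ[G]) f) ∧
      valAt x (f : Fn G) = valAt (lift x t) (fnMap (fst G T) f) := fun x t => by
    rw [← valAt_comp, ← valAt_comp, lift_fst, ← Category.assoc, lift_whiskerLeft, ← Hom.mul_def]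
    exact ⟨rfl, rfl⟩
  constructor
  · intro h x t
    rw [(e x t).1, (e x t).2]
    exact congrArg _ h
  · intro h
    refine ext_valAt fun p => ?_
    obtain ⟨x, t, rfl⟩ : ∃ x t, p = lift x t :=
      ⟨p ≫ fst G T, p ≫ snd G T, by apply CartesianMonoidalCategory.hom_ext <;> simp⟩
    have := h x t
    rwa [(e x t).1, (e x t).2] at this

theorem isRTransInv_pt_iff (g : pt k k ⟶ G) (f : Γ(G.left, ⊤)) :
    AGF.IsRTransInv g f ↔ ∀ x : pt k k ⟶ G, valAt (x * g) (f : Fn G) = valAt x (f : Fn G) := by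
  haveI : IsAffine (pt k k).left := inferInstanceAs (IsAffine (Spec (CommRingCat.of k)))
  haveI : Smooth (pt k k).hom := by
    show Smooth (Spec.map (CommRingCat.ofHom (algebraMap k k)))
    rw [show CommRingCat.ofHom (algebraMap k k) = 𝟙 _ from rfl, Spec.map_id]
    infer_instance
  rw [mem_rTransInv_iff_valAt]
  constructor
  · intro h x
    simpa using h x (𝟙 _)
  · intro h x t
    rw [Subsingleton.elim t (𝟙 _), Category.id_comp]
    exact h x

omit [IsAlgClosed k] [IsAffine G.left] [Smooth G.hom] in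
/-- the value of the action on rational points. -/
def kAct {V : Type u} [AddCommGroup V] [Module k V] (σ : GMod H V) (h : pt k k ⟶ H) : V →ₗ[k] V :=
  (TensorProduct.lid k V).toLinearMap ∘ₗ (σ.ρ k h).toLinearMap ∘ₗ TensorProduct.mk k k V 1

omit [GrpObj G] [IsAlgClosed k] [IsAffine G.left] [Smooth G.hom] in
theorem rho_one_tmul {V : Type u} [AddCommGroup V] [Module k V] (σ : GMod H V) (h : pt k k ⟶ H) (v : V) :
    σ.ρ k h ((1 : k) ⊗ₜ[k] v) = (1 : k) ⊗ₜ[k] kAct σ h v := by
  apply (TensorProduct.lid k V).injective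
  simp [kAct]

theorem rho_fn [QuasiCompact G.hom] [QuasiSeparated G.hom] (g : pt k k ⟶ G) (f : Fn G) :
    (fnGMod (rtAct G)).ρ k g ((1 : k) ⊗ₜ[k] f) = (1 : k) ⊗ₜ[k] rt g f := by
  refine ext_ev fun B _ _ y ψ => ?_
  rw [ev_rho, ev_tmul, ev_tmul, rt, ← valAt_comp, MonObj.comp_mul, ← Category.assoc, Category.comp_id]
  have e : ptMap ψ = y ≫ toPt G := by
    refine Over.OverMorphism.ext ?_
    show Spec.map (CommRingCat.ofHom ψ.toRingHom) = y.left ≫ G.hom
    rw [Over.w y]
    show Spec.map (CommRingCat.ofHom ψ.toRingHom) = Spec.map (CommRingCat.ofHom (algebraMap k B))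
    congr 2
    exact RingHom.ext fun r => ψ.commutes r
  rw [e]

theorem rt_mem_of_stable [QuasiCompact G.hom] [QuasiSeparated G.hom] {N : Submodule k (Fn G)}
    (hN : Stable (fnGMod (rtAct G)) N) (g : pt k k ⟶ G) {f : Fn G} (hf : f ∈ N) : rt g f ∈ N := by
  have h := hN k g f hf
  rw [act, rho_fn] at h
  exact inSub_one_tmul_iff.1 h

variable [IsAffine H.left] [Smooth H.hom] {i : H ⟶ G} [QuasiCompact G.hom] [QuasiSeparated G.hom]
  {V : Type u} [AddCommGroup V] [Module k V] (σ : GMod H V)

/-- Equivariance of a map into functions can be tested on rational points. -/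
theorem intertwine_of_valAt (L : V →ₗ[k] Fn G)
    (hL : ∀ (h : pt k k ⟶ H) (x : pt k k ⟶ G) (v : V),
      valAt (x * (h ≫ i)) (L v) = valAt x (L (kAct σ h v)))
    (R : Type u) [CommRing R] [Algebra k R] (h : pt k R ⟶ H) (z : R ⊗[k] V) :
    L.baseChange R (σ.ρ R h z) = (fnGMod (rtAct G)).ρ R (h ≫ i) (L.baseChange R z) := by
  haveI := isAffine_tensor (G := G) (T := H)
  let Φ : ∀ (B : Type u) [CommRing B] [Algebra k B], (pt k B ⟶ G) → B ⊗[k] V → B :=
    fun B _ _ y w => ev y (AlgHom.id k B) (L.baseChange B w)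
  have hΦ : ∀ (B B' : Type u) [CommRing B] [Algebra k B] [CommRing B'] [Algebra k B'] (φ : B →ₐ[k] B')
      (y : pt k B ⟶ G) (w : B ⊗[k] V),
      φ (Φ B y w) = Φ B' (ptMap φ ≫ y) (Wmap φ w) := by
    intro B B' _ _ _ _ φ y w
    induction w using TensorProduct.induction_on with
    | zero => simp [Φ]
    | tmul r v => simp [Φ, ev_tmul, valAt_ptMap_comp]
    | add a b ha hb => simp only [Φ, map_add] at ha hb ⊢; rw [ha, hb]
  -- the universal identity
  let P := Fn (G ⊗ H)
  let yU : pt k P ⟶ G := (affIso (G ⊗ H)).inv ≫ fst G H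
  let hU : pt k P ⟶ H := (affIso (G ⊗ H)).inv ≫ snd G H
  have huniv : ∀ v : V, Φ P yU (σ.ρ P hU ((1 : P) ⊗ₜ[k] v)) = valAt (yU * (hU ≫ i)) (L v) := by
    intro v
    refine ext_valAt fun p => ?_
    obtain ⟨φ, hφ⟩ := GrothLib.Repr.exists_ptMap (p ≫ (affIso (G ⊗ H)).hom)
    have hp : p = ptMap φ ≫ (affIso (G ⊗ H)).inv := by
      rw [← hφ, Category.assoc, Iso.hom_inv_id, Category.comp_id]
    rw [hp, valAt_ptMap_comp, valAt_ptMap_comp, valAt_affIso_inv, valAt_affIso_inv]
    show φ (ev yU (AlgHom.id k P) (L.baseChange P _)) = _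
    have key : ∀ w : P ⊗[k] V, φ (ev yU (AlgHom.id k P) (L.baseChange P w)) =
        Φ k (ptMap φ ≫ yU) (Wmap φ w) := by
      intro w
      induction w using TensorProduct.induction_on with
      | zero => simp [Φ]
      | tmul r v => simp [Φ, ev_tmul, valAt_ptMap_comp]
      | add a b ha hb => simp only [Φ, map_add] at ha hb ⊢; rw [ha, hb]
    rw [key, σ.naturality, Wmap_tmul, map_one, rho_one_tmul, ← valAt_ptMap_comp, MonObj.comp_mul,
      ← Category.assoc (ptMap φ) hU i, hL]
    simp [Φ, ev_tmul]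
  refine ext_ev fun B _ _ y ψ => ?_
  rw [ev_rho]
  induction z using TensorProduct.induction_on with
  | zero => simp
  | add a b ha hb => simp only [map_add, ha, hb]
  | tmul r v =>
    have e1 : ∀ w : R ⊗[k] V, ev y ψ (L.baseChange R w) = Φ B y (Wmap ψ w) := by
      intro w
      induction w using TensorProduct.induction_on with
      | zero => simp [Φ]
      | tmul r v => simp [Φ, ev_tmul]
      | add a b ha hb => simp only [Φ, map_add] at ha hb ⊢; rw [ha, hb]
    obtain ⟨φ, hφ⟩ := GrothLib.Repr.exists_ptMap (lift y (ptMap ψ ≫ h) ≫ (affIso (G ⊗ H)).hom)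
    have hp : lift y (ptMap ψ ≫ h) = ptMap φ ≫ (affIso (G ⊗ H)).inv := by
      rw [← hφ, Category.assoc, Iso.hom_inv_id, Category.comp_id]
    have hy : y = ptMap φ ≫ yU := by
      show y = ptMap φ ≫ (affIso (G ⊗ H)).inv ≫ fst G H
      rw [← Category.assoc, ← hp, lift_fst]
    have hh : ptMap ψ ≫ h = ptMap φ ≫ hU := by
      show _ = ptMap φ ≫ (affIso (G ⊗ H)).inv ≫ snd G H
      rw [← Category.assoc, ← hp, lift_snd]
    rw [e1, LinearMap.baseChange_tmul, ev_tmul, σ.naturality, hh]
    have h2 := congrArg φ (huniv v)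
    rw [hΦ P B φ yU, σ.naturality, Wmap_tmul, map_one, ← valAt_ptMap_comp, MonObj.comp_mul,
      ← Category.assoc (ptMap φ) hU i, ← hy, ← hh] at h2
    have hsmul : ∀ (c : B) (w : B ⊗[k] V), Φ B y (c • w) = c * Φ B y w := by
      intro c w
      induction w using TensorProduct.induction_on with
      | zero => simp [Φ]
      | tmul r v => simp [Φ, ev_tmul, TensorProduct.smul_tmul', _root_.mul_assoc]
      | add a b ha hb => simp only [Φ, map_add, smul_add, mul_add] at ha hb ⊢; rw [ha, hb]
    rw [← hh, Wmap_tmul, show ψ r ⊗ₜ[k] v = ψ r • ((1 : B) ⊗ₜ[k] v) by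
      rw [TensorProduct.smul_tmul', smul_eq_mul, _root_.mul_one], map_smul, hsmul, h2, ← Category.assoc]

/-- finitely many equivariant maps into functions, jointly injective, give an extension. -/
theorem extendsAlong_of_family [Module.Finite k V] {J : Type} [Fintype J] [DecidableEq J]
    [LocallyOfFiniteType G.hom] (L : J → V →ₗ[k] Fn G)
    (hinj : ∀ v : V, (∀ j, L j v = 0) → v = 0)
    (hL : ∀ (j : J) (h : pt k k ⟶ H) (x : pt k k ⟶ G) (v : V),
      valAt (x * (h ≫ i)) (L j v) = valAt x (L j (kAct σ h v))) :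
    σ.ExtendsAlong i := by
  classical
  let m := piGMod (fnGMod (rtAct G)) J
  let b := Module.finBasis k V
  obtain ⟨N, hN, hst, hmem⟩ := exists_stable m (Finset.univ.image fun t => LinearMap.pi L (b t))
  haveI := hN
  have hmem' : ∀ v, LinearMap.pi L v ∈ N := by
    intro v
    rw [← b.sum_repr v, map_sum]
    refine Submodule.sum_mem _ fun t _ => ?_
    rw [map_smul]
    exact N.smul_mem _ (hmem _ (Finset.mem_image_of_mem _ (Finset.mem_univ t)))
  refine ⟨↥N, inferInstance, inferInstance, hN, subGMod m N hst,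
    LinearMap.codRestrict N (LinearMap.pi L) hmem', ?_, ?_⟩
  · intro v w hvw
    refine sub_eq_zero.1 (hinj _ fun j => ?_)
    have h := congrArg (fun z : N => (z : J → Fn G) j) hvw
    rw [map_sub, sub_eq_zero]
    exact h
  · intro B _ _ h z
    refine subtype_injective N B ?_
    rw [subGMod_apply, res_spec, ← LinearMap.comp_apply,
      ← LinearMap.baseChange_comp, LinearMap.subtype_comp_codRestrict, ← LinearMap.comp_apply,
      ← LinearMap.baseChange_comp, LinearMap.subtype_comp_codRestrict]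
    apply (TensorProduct.piRight k B B (fun _ : J => Fn G)).injective
    funext j
    rw [piRight_baseChange_pi, piGMod_apply, piRight_baseChange_pi]
    exact intertwine_of_valAt σ (L j) (hL j) B h z

end Group

end GrothLib.Induce27
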