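import Groth.Agent.Lib.Induce27.Sub
import Groth.Agent.Lib.Repr.Functions
import Groth.Agent.S11191
import Groth.Prelude.Def_W4bk4grossh111Obs
import Mathlib.RingTheory.Flat.EquationalCriterion
import Mathlib.RingTheory.Ideal.IdempotentFG

/-!
# Functions on an affine group induced from an open closed subgroup
-/

set_option autoImplicit false

universe u

open CategoryTheory MonoidalCategory CartesianMonoidalCategory MonObj GrpObj AlgebraicGeometry VecGrp
open scoped TensorProduct

noncomputable section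

namespace GrothLib.Induce27

open GrothLib.Repr Groth.Agent.S11191

variable {k : Type u} [Field k]
  {X Y : Over (Spec (CommRingCat.of k))} {B B' : Type u} [CommRing B] [Algebra k B]
  [CommRing B'] [Algebra k B'] {R : Type u} [CommRing R] [Algebra k R]

variable (k B) in
/-- functions of an affine test scheme, as an algebra isomorphism. -/
def fnPtEquiv : B ≃ₐ[k] Fn (pt k B) :=
  AlgEquiv.ofBijective (fnPt k B)
    (ConcreteCategory.bijective_of_isIso (Scheme.ΓSpecIso (CommRingCat.of B)).inv)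

theorem fnPtEquiv_apply (b : B) : fnPtEquiv k B b = fnPt k B b := rfl

/-- evaluation of functions at a point. -/
def valAt (y : pt k B ⟶ X) : Fn X →ₐ[k] B := (fnPtEquiv k B).symm.toAlgHom.comp (fnMap y)

theorem fnPt_valAt (y : pt k B ⟶ X) (f : Fn X) : fnPt k B (valAt y f) = fnMap y f :=
  (fnPtEquiv k B).apply_symm_apply _

theorem valAt_comp (y : pt k B ⟶ X) (g : X ⟶ Y) (f : Fn Y) : valAt (y ≫ g) f = valAt y (fnMap g f) := by
  simp [valAt, fnMap_comp]

theorem valAt_ptMap (φ : B →ₐ[k] B') (b : B) : valAt (ptMap φ) (fnPt k B b) = φ b := by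
  show (fnPtEquiv k B').symm (fnMap (ptMap φ) (fnPt k B b)) = φ b
  rw [fnMap_ptMap, ← fnPtEquiv_apply, AlgEquiv.symm_apply_apply]

theorem valAt_ptMap_comp (φ : B →ₐ[k] B') (y : pt k B ⟶ X) (f : Fn X) :
    valAt (ptMap φ ≫ y) f = φ (valAt y f) := by
  rw [valAt_comp, ← fnPt_valAt, valAt_ptMap]

theorem affIso_fnPt (X : Over (Spec (CommRingCat.of k))) [IsAffine X.left] (f : Fn X) :
    fnMap (affIso X).hom (fnPt k (Fn X) f) = f := by
  change (X.left.isoSpec.hom.appTop).hom ((Scheme.ΓSpecIso Γ(X.left, ⊤)).inv.hom f) = f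
  rw [Scheme.isoSpec_hom, Scheme.toSpecΓ_appTop, ← CommRingCat.comp_apply, Iso.inv_hom_id]
  rfl

theorem valAt_affIso_inv (X : Over (Spec (CommRingCat.of k))) [IsAffine X.left] (f : Fn X) :
    valAt (affIso X).inv f = f := by
  conv_lhs => rw [← affIso_fnPt X f]
  show (fnPtEquiv k (Fn X)).symm (fnMap (affIso X).inv (fnMap (affIso X).hom (fnPt k (Fn X) f))) = f
  rw [← AlgHom.comp_apply (fnMap (affIso X).inv), ← fnMap_comp, Iso.inv_hom_id, fnMap_id,
    AlgHom.id_apply, ← fnPtEquiv_apply, AlgEquiv.symm_apply_apply]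

theorem eq_of_affine [IsAffine X.left] (y : pt k B ⟶ X) : y = ptMap (valAt y) ≫ (affIso X).inv := by
  obtain ⟨φ, hφ⟩ := GrothLib.Repr.exists_ptMap (y ≫ (affIso X).hom)
  have h : y = ptMap φ ≫ (affIso X).inv := by
    rw [← hφ, Category.assoc, Iso.hom_inv_id, Category.comp_id]
  have h2 : valAt y = φ := by
    refine AlgHom.ext fun f => ?_
    rw [h, valAt_ptMap_comp, valAt_affIso_inv]
  rw [h2]; exact h

theorem pt_ext [IsAffine X.left] {y y' : pt k B ⟶ X} (h : valAt y = valAt y') : y = y' := by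
  rw [eq_of_affine y, eq_of_affine y', h]

/-- evaluation of `R ⊗ Fn X`. -/
def ev (y : pt k B ⟶ X) (ψ : R →ₐ[k] B) : R ⊗[k] Fn X →ₐ[k] B :=
  Algebra.TensorProduct.lift ψ (valAt y) fun _ _ => Commute.all _ _

theorem ev_tmul (y : pt k B ⟶ X) (ψ : R →ₐ[k] B) (r : R) (f : Fn X) :
    ev y ψ (r ⊗ₜ[k] f) = ψ r * valAt y f :=
  Algebra.TensorProduct.lift_tmul _ _ _ _ _

theorem map_ev (φ : B →ₐ[k] B') (y : pt k B ⟶ X) (ψ : R →ₐ[k] B) (z : R ⊗[k] Fn X) :
    φ (ev y ψ z) = ev (ptMap φ ≫ y) (φ.comp ψ) z := by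
  induction z using TensorProduct.induction_on with
  | zero => simp
  | tmul r f => rw [ev_tmul, ev_tmul, map_mul, valAt_ptMap_comp]; rfl
  | add a b ha hb => simp only [map_add, ha, hb]

theorem valAt_theta (P : pt k B ⟶ X ⊗ pt k R) (ψ : R →ₐ[k] B) (hψ : P ≫ snd X (pt k R) = ptMap ψ)
    (z : R ⊗[k] Fn X) : valAt P (theta R X z) = ev (P ≫ fst X (pt k R)) ψ z := by
  induction z using TensorProduct.induction_on with
  | zero => simp
  | tmul r f => rw [theta_tmul, map_mul, ev_tmul, ← valAt_comp, ← valAt_comp, hψ, valAt_ptMap]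
  | add a b ha hb => simp only [map_add, ha, hb]

theorem ext_ev [IsAffine X.left] {z z' : R ⊗[k] Fn X}
    (h : ∀ (B : Type u) [CommRing B] [Algebra k B] (y : pt k B ⟶ X) (ψ : R →ₐ[k] B),
      ev y ψ z = ev y ψ z') : z = z' := by
  haveI : IsAffine (pt k R).left := inferInstanceAs (IsAffine (Spec (CommRingCat.of R)))
  haveI : IsAffine (X ⊗ pt k R).left := by
    show IsAffine (Limits.pullback X.hom (pt k R).hom)
    infer_instance
  haveI : IsAffineHom X.hom := inferInstance
  apply (bijective_theta (R := R) X).1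
  obtain ⟨ψ, hψ⟩ := GrothLib.Repr.exists_ptMap ((affIso (X ⊗ pt k R)).inv ≫ snd X (pt k R))
  rw [← valAt_affIso_inv (X ⊗ pt k R) (theta R X z), ← valAt_affIso_inv (X ⊗ pt k R) (theta R X z'),
    valAt_theta _ ψ hψ, valAt_theta _ ψ hψ]
  exact h _ _ _

section Group

variable {G H : Over (Spec (CommRingCat.of k))} [GrpObj G] [GrpObj H]

variable (G) in
/-- right translation as an action. -/
def rtAct : AlgGrp.Action G G where
  act := snd G G * (fst G G)⁻¹
  one_act := by
    have e1 : (η[G] ▷ G) ≫ fst (G : Over (Spec (CommRingCat.of k))) G = 1 := by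
      rw [whiskerRight_fst, Hom.one_def]; congr 1
    rw [MonObj.comp_mul, GrpObj.comp_inv, e1, inv_one, _root_.mul_one,
      whiskerRight_snd, leftUnitor_hom]
  mul_act := by
    apply GrothLib.GrpSchField.hom_ext_points₂
    intro T p y
    rw [← GrothLib.GrpSchField.lift_fst_snd_comp p]
    generalize p ≫ fst G G = g
    generalize p ≫ snd G G = g'
    simp only [lift_lift_associator_hom_assoc, lift_whiskerRight_assoc, lift_whiskerLeft_assoc,
      ← Hom.mul_def, MonObj.comp_mul, GrpObj.comp_inv, lift_fst, lift_snd, _root_.mul_inv_rev]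
    simp only [_root_.mul_assoc]

theorem ev_rho [IsAffine G.left] [QuasiCompact G.hom] [QuasiSeparated G.hom] (u : pt k R ⟶ G)
    (y : pt k B ⟶ G) (ψ : R →ₐ[k] B) (z : R ⊗[k] Fn G) :
    ev y ψ ((fnGMod (rtAct G)).ρ R u z) = ev (y * (ptMap ψ ≫ u)) ψ z := by
  have h1 := valAt_theta (lift y (ptMap ψ)) ψ (lift_snd _ _) (phi (rtAct G) u⁻¹ z)
  rw [lift_fst] at h1
  show ev y ψ (phi (rtAct G) u⁻¹ z) = _
  rw [← h1, show theta R G (phi (rtAct G) u⁻¹ z) = fnMap (shift (rtAct G) u⁻¹) (theta R G z) from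
    phi_apply (rtAct G) u⁻¹ z, ← valAt_comp]
  have e1 : (lift y (ptMap ψ) ≫ shift (rtAct G) u⁻¹) ≫ snd G (pt k R) = ptMap ψ := by
    rw [Category.assoc, shift_snd, lift_snd]
  have e2 : (lift y (ptMap ψ) ≫ shift (rtAct G) u⁻¹) ≫ fst G (pt k R) = y * (ptMap ψ ≫ u) := by
    rw [Category.assoc, shift_fst]
    simp only [rtAct, MonObj.comp_mul, GrpObj.comp_inv, lift_fst, lift_snd, _root_.inv_inv,
      lift_fst_assoc, lift_snd_assoc]
  rw [valAt_theta _ ψ e1, e2]

/-- A function cutting out an open closed subgroup of an affine group. -/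
structure IsIdem (i : H ⟶ G) (e : Fn G) : Prop where
  idem : e * e = e
  map : fnMap i e = 1
  kill : ∀ a : Fn G, fnMap i a = 0 → e * a = 0

theorem exists_isIdem [IsAffine G.left] [IsAffine H.left] [LocallyOfFiniteType G.hom] (i : H ⟶ G)
    [IsClosedImmersion i.left] [IsOpenImmersion i.left] : ∃ e : Fn G, IsIdem i e := by
  let f : Fn G →+* Fn H := (fnMap i).toRingHom
  have hflat : f.Flat := i.left.flat_appTop
  have hsurj : Function.Surjective f :=
    (IsClosedImmersion.isAffine_surjective_of_isAffine (f := i.left)).2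
  have hft : (algebraMap k (Fn G)).FiniteType := by
    change ((Scheme.ΓSpecIso (CommRingCat.of k)).inv ≫ G.hom.appTop).hom.FiniteType
    exact (RingHom.finiteType_respectsIso.cancel_left_isIso _ _).2
      (HasRingHomProperty.appTop (P := @LocallyOfFiniteType) _ inferInstance)
  haveI : Algebra.FiniteType k (Fn G) := RingHom.finiteType_algebraMap.1 hft
  haveI : IsNoetherianRing (Fn G) := Algebra.FiniteType.isNoetherianRing k (Fn G)
  letI := f.toAlgebra
  haveI : Module.Flat (Fn G) (Fn H) := hflat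
  have hI : IsIdempotentElem (RingHom.ker f) := by
    refine le_antisymm Ideal.mul_le_left fun a ha => ?_
    obtain ⟨l, c, y, h1, h2⟩ := Module.Flat.isTrivialRelation_of_sum_smul_eq_zero
      (R := Fn G) (M := Fn H) (f := fun _ : Fin 1 => a) (x := fun _ => (1 : Fn H))
      (by simp [Algebra.smul_def, RingHom.algebraMap_toAlgebra, RingHom.mem_ker.1 ha])
    choose b hb using fun j => hsurj (y j)
    have h3 : 1 - ∑ j, c 0 j * b j ∈ RingHom.ker f := by
      rw [RingHom.mem_ker, map_sub, map_one, map_sum, sub_eq_zero]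
      refine (h1 0).trans (Finset.sum_congr rfl fun j _ => ?_)
      rw [map_mul, hb, Algebra.smul_def]; rfl
    have h4 : a = a * (1 - ∑ j, c 0 j * b j) := by
      rw [mul_sub, _root_.mul_one, Finset.mul_sum, Finset.sum_eq_zero, sub_zero]
      intro j _
      have := h2 j
      simp only [Fin.sum_univ_one] at this
      rw [← _root_.mul_assoc, this, zero_mul]
    rw [h4]
    exact Ideal.mul_mem_mul ha h3
  obtain ⟨d, hd, hId⟩ := (Ideal.isIdempotentElem_iff_of_fg _ (IsNoetherian.noetherian _)).1 hI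
  refine ⟨1 - d, hd.one_sub, ?_, fun a ha => ?_⟩
  · have : d ∈ RingHom.ker f := by rw [hId]; exact Submodule.mem_span_singleton_self d
    rw [map_sub, map_one, show fnMap i d = 0 from RingHom.mem_ker.1 this, sub_zero]
  · have : a ∈ RingHom.ker f := ha
    rw [hId, Submodule.mem_span_singleton] at this
    obtain ⟨c, rfl⟩ := this
    rw [smul_eq_mul, sub_mul, _root_.one_mul, _root_.mul_left_comm, hd.eq, sub_self]

variable {i : H ⟶ G} {e : Fn G}

theorem exists_factor [IsAffine G.left] [IsAffine H.left] [IsClosedImmersion i.left] (he : IsIdem i e)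
    (y : pt k B ⟶ G) (hy : valAt y e = 1) : ∃ y₀ : pt k B ⟶ H, y₀ ≫ i = y := by
  have hsurj : Function.Surjective (fnMap i) :=
    (IsClosedImmersion.isAffine_surjective_of_isAffine (f := i.left)).2
  have hle : ∀ a ∈ RingHom.ker (fnMap i), valAt y a = 0 := by
    intro a ha
    have h := congrArg (valAt y) (he.kill a (RingHom.mem_ker.1 ha))
    rwa [map_mul, map_zero, hy, _root_.one_mul] at h
  let φ₀ : Fn H →ₐ[k] B :=
    (Ideal.Quotient.liftₐ (RingHom.ker (fnMap i)) (valAt y) hle).comp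
      (Ideal.quotientKerAlgEquivOfSurjective hsurj).symm.toAlgHom
  refine ⟨ptMap φ₀ ≫ (affIso H).inv, pt_ext (AlgHom.ext fun a => ?_)⟩
  rw [valAt_comp, valAt_ptMap_comp, valAt_affIso_inv]
  show Ideal.Quotient.liftₐ (RingHom.ker (fnMap i)) (valAt y) hle
    ((Ideal.quotientKerAlgEquivOfSurjective hsurj).symm (fnMap i a)) = _
  rw [Ideal.quotientKerAlgEquivOfSurjective_symm_apply hsurj]
  rfl

/-- comparison after multiplying by an idempotent. -/
theorem mul_eq_mul_of_quot {q a b : B} (hq : q * q = q)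
    (h : ∀ (C : Type u) [CommRing C] [Algebra k C] (π : B →ₐ[k] C), π q = 1 → π a = π b) :
    q * a = q * b := by
  have h1 := h (B ⧸ Ideal.span {1 - q}) (Ideal.Quotient.mkₐ k _) (by
    rw [Ideal.Quotient.mkₐ_eq_mk, ← map_one (Ideal.Quotient.mk (Ideal.span {1 - q})), eq_comm,
      Ideal.Quotient.eq]
    exact Ideal.mem_span_singleton_self _)
  rw [Ideal.Quotient.mkₐ_eq_mk, Ideal.Quotient.eq, Ideal.mem_span_singleton'] at h1
  obtain ⟨c, hc⟩ := h1
  rw [← sub_eq_zero, ← mul_sub, ← hc, _root_.mul_left_comm, mul_sub, _root_.mul_one, hq, sub_self, mul_zero]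

theorem valAt_mul_point [IsAffine G.left] [IsAffine H.left] [IsClosedImmersion i.left] [IsMonHom i]
    (he : IsIdem i e) (y : pt k B ⟶ G) (h : pt k B ⟶ H) :
    valAt (y * (h ≫ i)) e = valAt y e := by
  have key : ∀ (y : pt k B ⟶ G) (h : pt k B ⟶ H),
      valAt y e * valAt (y * (h ≫ i)) e = valAt y e := by
    intro y h
    conv_rhs => rw [← _root_.mul_one (valAt y e)]
    refine mul_eq_mul_of_quot (k := k) (by rw [← map_mul, he.idem]) fun C _ _ π hπ => ?_
    rw [← valAt_ptMap_comp] at hπ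
    obtain ⟨y₀, hy₀⟩ := exists_factor he _ hπ
    rw [map_one, ← valAt_ptMap_comp, MonObj.comp_mul, ← hy₀, ← Category.assoc, ← MonObj.mul_comp,
      valAt_comp, he.map, map_one]
  have h1 := key y h
  have h2 := key (y * (h ≫ i)) h⁻¹
  rw [GrpObj.inv_comp, _root_.mul_inv_cancel_right, mul_comm] at h2
  exact h2.symm.trans h1

variable {V : Type u} [AddCommGroup V] [Module k V] (σ : GMod H V)

/-- matrix coefficients. -/
def coeff [IsAffine H.left] (ℓ : Module.Dual k V) : V →ₗ[k] Fn H :=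
  ((cf (R := Fn H) ℓ).restrictScalars k) ∘ₗ
    ((σ.ρ (Fn H) (affIso H).inv).toLinearMap.restrictScalars k) ∘ₗ TensorProduct.mk k (Fn H) V 1

theorem valAt_coeff [IsAffine H.left] (ℓ : Module.Dual k V) (y : pt k B ⟶ H) (v : V) :
    valAt y (coeff σ ℓ v) = cf ℓ (σ.ρ B y ((1 : B) ⊗ₜ[k] v)) := by
  show valAt y (cf ℓ (σ.ρ (Fn H) (affIso H).inv ((1 : Fn H) ⊗ₜ[k] v))) = _
  rw [map_cf, σ.naturality, Wmap_tmul, map_one, ← eq_of_affine]

theorem ev_coeff [IsAffine H.left] (ℓ : Module.Dual k V) (y : pt k B ⟶ H) (ψ : R →ₐ[k] B)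
    (x : R ⊗[k] V) :
    ev y ψ ((coeff σ ℓ).baseChange R x) = cf ℓ (σ.ρ B y (Wmap ψ x)) := by
  induction x using TensorProduct.induction_on with
  | zero => simp
  | tmul r v =>
    rw [LinearMap.baseChange_tmul, ev_tmul, valAt_coeff, Wmap_tmul, ← smul_eq_mul, ← map_smul,
      ← map_smul, TensorProduct.smul_tmul', smul_eq_mul, _root_.mul_one]
  | add a b ha hb => simp only [map_add, ha, hb]

/-- The equivariant extension by zero of the matrix coefficients. -/
theorem exists_intertwiner [IsAffine G.left] [IsAffine H.left] [QuasiCompact G.hom]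
    [QuasiSeparated G.hom] [IsClosedImmersion i.left] [IsMonHom i] (he : IsIdem i e)
    (ℓ : Module.Dual k V) :
    ∃ L : V →ₗ[k] Fn G, (∀ v, valAt (1 : pt k k ⟶ G) (L v) = ℓ v) ∧
      ∀ (R : Type u) [CommRing R] [Algebra k R] (h : pt k R ⟶ H) (x : R ⊗[k] V),
        L.baseChange R (σ.ρ R h x) = (fnGMod (rtAct G)).ρ R (h ≫ i) (L.baseChange R x) := by
  have hsurj : Function.Surjective (fnMap i) :=
    (IsClosedImmersion.isAffine_surjective_of_isAffine (f := i.left)).2
  obtain ⟨s, hs⟩ := (fnMap i).toLinearMap.exists_rightInverse_of_surjective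
    (LinearMap.range_eq_top.2 hsurj)
  let E : Fn H →ₗ[k] Fn G := (LinearMap.mulLeft k e) ∘ₗ s
  have hE : ∀ f, fnMap i (E f) = f := fun f => by
    show fnMap i (e * s f) = f
    rw [map_mul, he.map, _root_.one_mul]
    exact LinearMap.congr_fun hs f
  have hEe : ∀ f, e * E f = E f := fun f => by
    show e * (e * s f) = e * s f
    rw [← _root_.mul_assoc, he.idem]
  let L : V →ₗ[k] Fn G := E ∘ₗ coeff σ ℓ
  have hL : ∀ v, fnMap i (L v) = coeff σ ℓ v := fun v => hE _
  refine ⟨L, fun v => ?_, ?_⟩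
  · rw [show (1 : pt k k ⟶ G) = (1 : pt k k ⟶ H) ≫ i from (MonObj.one_comp i).symm, valAt_comp, hL,
      valAt_coeff, map_one]
    simp
  intro R _ _ h x
  refine ext_ev fun B _ _ y ψ => ?_
  rw [ev_rho]
  set q := valAt y e with hq
  have hmul : ∀ (y' : pt k B ⟶ G) (z : R ⊗[k] V),
      valAt y' e * ev y' ψ (L.baseChange R z) = ev y' ψ (L.baseChange R z) := by
    intro y' z
    induction z using TensorProduct.induction_on with
    | zero => simp
    | tmul r v =>
      rw [LinearMap.baseChange_tmul, ev_tmul, _root_.mul_left_comm, ← map_mul,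
        show e * L v = L v from hEe _]
    | add a b ha hb => simp only [map_add, mul_add, ha, hb]
  rw [← hmul y, ← hmul (y * _)]
  rw [show ptMap ψ ≫ h ≫ i = (ptMap ψ ≫ h) ≫ i from (Category.assoc _ _ _).symm,
    valAt_mul_point he]
  refine mul_eq_mul_of_quot (k := k) (by rw [← map_mul, he.idem]) fun C _ _ π hπ => ?_
  rw [← valAt_ptMap_comp] at hπ
  obtain ⟨y₀, hy₀⟩ := exists_factor he _ hπ
  rw [map_ev, map_ev]
  have hpt : ∀ (y₁ : pt k C ⟶ H) (z : R ⊗[k] V),
      ev (y₁ ≫ i) (π.comp ψ) (L.baseChange R z) = cf ℓ (σ.ρ C y₁ (Wmap (π.comp ψ) z)) := by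
    intro y₁ z
    rw [← ev_coeff]
    induction z using TensorProduct.induction_on with
    | zero => simp
    | tmul r v => rw [LinearMap.baseChange_tmul, LinearMap.baseChange_tmul, ev_tmul, ev_tmul, valAt_comp, hL]
    | add a b ha hb => simp only [map_add, ha, hb]
  rw [MonObj.comp_mul, ← hy₀, ← Category.assoc, ← Category.assoc, ← MonObj.mul_comp, hpt, hpt,
    σ.naturality, ← LinearEquiv.mul_apply, ← map_mul]
  have hcomp : ptMap (π.comp ψ) = ptMap π ≫ ptMap ψ :=
    Over.OverMorphism.ext (LieS.specMap_comp ψ.toRingHom π.toRingHom).symm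
  rw [hcomp]

end Group

end GrothLib.Induce27
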