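import Groth.Agent.Lib.AffQuot.Points

/-!
# Homogeneous subalgebras saturated under division have open image with small complement
-/

set_option autoImplicit false

universe u

namespace GrothLib.Induce27

variable {k : Type u} [Field k] [IsAlgClosed k] {B : Type u} [CommRing B] [Algebra k B] [Algebra.FiniteType k B]

/-- For a finitely generated subalgebra with a transitive symmetry on rational points, the image of the
spectrum is open. -/
theorem isOpen_range_comap_of_transitive (A : Subalgebra k B) (hA : A.FG)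
    (htr : ∀ x y : B →ₐ[k] k, ∃ σ σ' : B →ₐ[k] B, (∀ f ∈ A, σ f ∈ A) ∧ (∀ f ∈ A, σ' f ∈ A) ∧
      (∀ f, σ (σ' f) = f) ∧ y.comp σ = x) :
    IsOpen (Set.range (PrimeSpectrum.comap A.val.toRingHom)) := by
  classical
  haveI : Algebra.FiniteType k A := (Subalgebra.fg_iff_finiteType A).1 hA
  rcases subsingleton_or_nontrivial A with h | h
  · haveI : IsEmpty (PrimeSpectrum A) :=
      ⟨fun P => P.2.ne_top ((Ideal.eq_top_iff_one _).2 (Subsingleton.elim (1 : A) 0 ▸ P.1.zero_mem))⟩
    rw [Set.eq_empty_of_isEmpty (Set.range _)]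
    exact isOpen_empty
  obtain ⟨p, hp⟩ := (inferInstance : Nonempty (PrimeSpectrum A))
  obtain ⟨m, hm, -⟩ := Ideal.exists_minimalPrimes_le (I := (⊥ : Ideal A)) (J := p) bot_le
  obtain ⟨a, ha, hlift⟩ := GrothLib.AffQuot.exists_liftable (k := k) A.val Subtype.val_injective hm
  haveI : m.IsPrime := hm.1.1
  obtain ⟨z₀, -, hz₀⟩ := GrothLib.AffQuot.exists_point_ne_zero (k := k) ha
  obtain ⟨g₀, hg₀⟩ := hlift z₀ hz₀
  let W : Set (PrimeSpectrum A) := {P | ∃ σ σ' : B →ₐ[k] B, ∃ hσ : ∀ f ∈ A, σ f ∈ A, (∀ f ∈ A, σ' f ∈ A) ∧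
    (∀ f, σ (σ' f) = f) ∧ (⟨σ a, hσ a a.2⟩ : A) ∉ P.asIdeal}
  suffices h : Set.range (PrimeSpectrum.comap A.val.toRingHom) = W by
    rw [h]
    refine isOpen_iff_forall_mem_open.2 ?_
    rintro P ⟨σ, σ', hσ, hσ', hinv, hP⟩
    exact ⟨PrimeSpectrum.basicOpen (⟨σ a, hσ a a.2⟩ : A), fun Q hQ => ⟨σ, σ', hσ, hσ', hinv, hQ⟩,
      (PrimeSpectrum.basicOpen _).2, hP⟩
  refine Set.Subset.antisymm ?_ ?_
  · rintro _ ⟨q, rfl⟩
    by_contra hW
    haveI := q.2
    obtain ⟨x, hxq⟩ := GrothLib.AffQuot.exists_point (k := k) (I := q.asIdeal) q.2.ne_top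
    obtain ⟨σ, σ', hσ, hσ', hinv, hxσ⟩ := htr g₀ x
    refine hW ⟨σ, σ', hσ, hσ', hinv, fun hmem => hz₀ ?_⟩
    rw [← hg₀]
    show g₀ (a : B) = 0
    rw [← hxσ]
    exact hxq _ hmem
  · rintro P ⟨σ, σ', hσ, hσ', hinv, hP⟩
    haveI := P.2
    obtain ⟨q, hq, hqP⟩ := (Ideal.comap_map_eq_self_iff_of_isPrime P.asIdeal (f := A.val.toRingHom)).1 (by
      refine le_antisymm (fun s hs => ?_) Ideal.le_comap_map
      by_contra hsP
      obtain ⟨z, hzP, hz⟩ := GrothLib.AffQuot.exists_point_ne_zero (k := k) (p := P.asIdeal)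
        (f := s * ⟨σ a, hσ a a.2⟩) (fun h' => (P.2.mem_or_mem h').elim hsP hP)
      let τ : A →ₐ[k] A := (σ.comp A.val).codRestrict A fun f => hσ f f.2
      rw [map_mul, mul_ne_zero_iff] at hz
      obtain ⟨g, hg⟩ := hlift (z.comp τ) (by exact hz.2)
      have hgz : ∀ f : A, g (σ' f) = z f := fun f => by
        have := DFunLike.congr_fun hg ⟨σ' f, hσ' f f.2⟩
        refine this.trans (congrArg z (Subtype.ext ?_))
        exact hinv f
      refine hz.1 ?_
      rw [← hgz]
      have hle : P.asIdeal.map A.val.toRingHom ≤ RingHom.ker (g.comp σ') :=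
        Ideal.map_le_iff_le_comap.2 fun f hf => by
          show g (σ' f) = 0
          rw [hgz]; exact hzP f hf
      exact hle hs)
    exact ⟨⟨q, hq⟩, PrimeSpectrum.ext hqP⟩

omit [IsAlgClosed k] in
/-- Outside an open image, primes of a saturated subalgebra have height at least two. -/
theorem two_le_height_of_notMem_range [IsReduced B] (A : Subalgebra k B) (hA : A.FG)
    (hU : IsOpen (Set.range (PrimeSpectrum.comap A.val.toRingHom)))
    (hsat : ∀ f h : B, f ∈ A → f * h ∈ A → (∀ c, f * c = 0 → c = 0) → h ∈ A)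
    (P : PrimeSpectrum A) (hP : P ∉ Set.range (PrimeSpectrum.comap A.val.toRingHom)) :
    (2 : ℕ∞) ≤ P.asIdeal.height := by
  classical
  haveI := P.2
  haveI : Algebra.FiniteType k A := (Subalgebra.fg_iff_finiteType A).1 hA
  haveI : IsNoetherianRing A := Algebra.FiniteType.isNoetherianRing k A
  haveI : IsNoetherianRing B := Algebra.FiniteType.isNoetherianRing k B
  have hgen : ∀ q : PrimeSpectrum B, ¬ P.asIdeal ≤ q.asIdeal.comap A.val.toRingHom := fun q hle =>
    hP (hU.stableUnderGeneralization ((PrimeSpectrum.le_iff_specializes P _).1 hle) ⟨q, rfl⟩)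
  obtain ⟨f, hfP, hf⟩ : ∃ f ∈ P.asIdeal, ∀ q ∈ minimalPrimes B, (f : B) ∉ q := by
    by_contra hall
    push Not at hall
    have hsub : (P.asIdeal : Set A) ⊆ ⋃ q ∈ minimalPrimes B, (q.comap A.val.toRingHom : Set A) := fun f hf => by
      obtain ⟨q, hq, hfq⟩ := hall f hf
      exact Set.mem_biUnion hq hfq
    obtain ⟨q, hq, hle⟩ := (Ideal.subset_union_prime_finite (minimalPrimes.finite_of_isNoetherianRing B) (f := fun q : Ideal B => q.comap A.val.toRingHom)
      ⊥ ⊥ (fun q hq _ _ => by haveI := hq.1.1; exact Ideal.IsPrime.comap _)).1 hsub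
    exact hgen ⟨q, hq.1.1⟩ hle
  have hnzd : ∀ c : B, (f : B) * c = 0 → c = 0 := by
    intro c hc
    refine IsReduced.eq_zero c ?_
    rw [← mem_nilradical, nilradical_eq_sInf, Submodule.mem_sInf]
    intro q hq
    haveI : Ideal.IsPrime q := hq
    obtain ⟨q', hq', hle⟩ := Ideal.exists_minimalPrimes_le (I := (⊥ : Ideal B)) (J := q) bot_le
    haveI := hq'.1.1
    exact hle ((Ideal.IsPrime.mem_or_mem (I := q') ‹_› (x := (f : B)) (y := c) (by rw [hc]; exact zero_mem _)).resolve_left (hf q' hq'))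
  by_contra hlt
  push Not at hlt
  obtain ⟨P', hP', hP'P⟩ := Ideal.exists_minimalPrimes_le (I := Ideal.span {f}) (J := P.asIdeal)
    ((Ideal.span_singleton_le_iff_mem _).2 hfP)
  haveI := hP'.1.1
  have hnotmin : P' ∉ minimalPrimes A := fun hm => by
    obtain ⟨q, hq, hqP⟩ := Ideal.exists_comap_eq_of_mem_minimalPrimes_of_injective
      (f := A.val.toRingHom) Subtype.val_injective P' hm
    haveI := hq
    obtain ⟨q', hq', hle⟩ := Ideal.exists_minimalPrimes_le (I := (⊥ : Ideal B)) (J := q) bot_le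
    haveI := hq'.1.1
    have h1 : q'.comap A.val.toRingHom = P' :=
      le_antisymm ((Ideal.comap_mono hle).trans hqP.le)
        (hm.2 ⟨Ideal.IsPrime.comap _, bot_le⟩ ((Ideal.comap_mono hle).trans hqP.le))
    exact hf q' hq' (show f ∈ q'.comap A.val.toRingHom from h1 ▸ hP'.1.2 (Ideal.mem_span_singleton_self f))
  obtain ⟨P'', hP'', hP''le⟩ := Ideal.exists_minimalPrimes_le (I := (⊥ : Ideal A)) (J := P') bot_le
  haveI := hP''.1.1
  have h1 : (1 : ℕ∞) ≤ P'.height := by
    have := Ideal.height_add_one_le_of_lt_of_isPrime (lt_of_le_of_ne hP''le fun h => hnotmin (h ▸ hP''))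
    exact le_trans le_add_self this
  have hPP : P' = P.asIdeal := by
    by_contra hne
    have := Ideal.height_add_one_le_of_lt_of_isPrime (lt_of_le_of_ne hP'P hne)
    exact absurd ((add_le_add_left h1 1).trans this) (by rw [one_add_one_eq_two]; exact hlt.not_ge)
  -- the associated prime
  have hass : P.asIdeal ∈ associatedPrimes A (A ⧸ Ideal.span {f}) :=
    Module.associatedPrimes.minimalPrimes_annihilator_subset_associatedPrimes A (A ⧸ Ideal.span {f}) (by
      rw [Ideal.annihilator_quotient]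
      exact hPP ▸ hP')
  obtain ⟨-, x, hx⟩ := (isAssociatedPrime_iff (I := P.asIdeal) (M := A ⧸ Ideal.span {f})).1 hass
  obtain ⟨b, rfl⟩ := Ideal.Quotient.mk_surjective x
  have hmem : ∀ p : A, p ∈ P.asIdeal ↔ f ∣ p * b := fun p => by
    rw [hx, Submodule.mem_colon_singleton, Submodule.mem_bot]
    show Ideal.Quotient.mk (Ideal.span {f}) (p * b) = 0 ↔ _
    rw [Ideal.Quotient.eq_zero_iff_mem, Ideal.mem_span_singleton]
  have hbf : ¬ f ∣ b := fun hdvd => P.2.ne_top ((Ideal.eq_top_iff_one _).2 ((hmem 1).2 (by rwa [one_mul])))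
  let J : Ideal B :=
    { carrier := {u | (f : B) ∣ u * b}
      add_mem' := fun {u v} hu hv => by
        show (f : B) ∣ (u + v) * b
        rw [add_mul]; exact dvd_add hu hv
      zero_mem' := by simp
      smul_mem' := fun c u hu => by
        show (f : B) ∣ c * u * b
        rw [mul_assoc]; exact Dvd.dvd.mul_left hu c }
  have hPJ : P.asIdeal.map A.val.toRingHom ≤ J := Ideal.map_le_iff_le_comap.2 fun p hp =>
    map_dvd A.val.toRingHom ((hmem p).1 hp)
  have htop : P.asIdeal.map A.val.toRingHom = ⊤ := by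
    by_contra hne
    obtain ⟨M, hM, hle⟩ := Ideal.exists_le_maximal _ hne
    exact hgen ⟨M, hM.isPrime⟩ (Ideal.map_le_iff_le_comap.1 hle)
  obtain ⟨h, hh⟩ : (f : B) ∣ 1 * b := hPJ (htop ▸ Submodule.mem_top)
  rw [one_mul] at hh
  exact hbf ⟨⟨h, hsat f h f.2 (hh ▸ b.2) hnzd⟩, Subtype.ext hh⟩

end GrothLib.Induce27
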