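import Groth.Agent.Lib.Induce27.Restrict
import Groth.Agent.Lib.Repr.GLHom
import Groth.Agent.Lib.DynMeth.GLSmooth
import Groth.Agent.Lib.LciGrp13.Affine

/-!
# Epimorphic subgroups
-/

set_option autoImplicit false

universe u

open CategoryTheory MonoidalCategory CartesianMonoidalCategory MonObj GrpObj AlgebraicGeometry VecGrp WithConv
open scoped TensorProduct

noncomputable section

namespace GrothLib.Induce27

open GrothLib.Repr Groth.Agent.S11191

variable {k : Type u} [Field k]

/-- Two natural multiplicative families of matrices give two homomorphisms to one `GL_N`. -/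
theorem exists_hom_GL_pair {G : Over (Spec (CommRingCat.of k))} [GrpObj G] {I : Type*} [Fintype I] [DecidableEq I]
    (C D : ∀ (R : Type u) [CommRing R] [Algebra k R], (pt k R ⟶ G) → Matrix I I R)
    (hnat : ∀ (R R' : Type u) [CommRing R] [Algebra k R] [CommRing R'] [Algebra k R'] (f : R →ₐ[k] R')
      (u : pt k R ⟶ G), (C R u).map f = C R' (ptMap f ≫ u))
    (hnat' : ∀ (R R' : Type u) [CommRing R] [Algebra k R] [CommRing R'] [Algebra k R'] (f : R →ₐ[k] R')
      (u : pt k R ⟶ G), (D R u).map f = D R' (ptMap f ≫ u))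
    (hone : ∀ (R : Type u) [CommRing R] [Algebra k R], C R 1 = 1)
    (hone' : ∀ (R : Type u) [CommRing R] [Algebra k R], D R 1 = 1)
    (hmul : ∀ (R : Type u) [CommRing R] [Algebra k R] (u v : pt k R ⟶ G), C R (u * v) = C R u * C R v)
    (hmul' : ∀ (R : Type u) [CommRing R] [Algebra k R] (u v : pt k R ⟶ G), D R (u * v) = D R u * D R v) :
    ∃ (N : ℕ) (ρ ρ' : G ⟶ GrothLib.Repr.GLsch k N), IsMonHom ρ ∧ IsMonHom ρ' ∧
      ∀ (R : Type u) [CommRing R] [Algebra k R] (u : pt k R ⟶ G), u ≫ ρ = u ≫ ρ' ↔ C R u = D R u := by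
  let e := Fintype.equivFin I
  suffices h : ∀ (C : ∀ (R : Type u) [CommRing R] [Algebra k R], (pt k R ⟶ G) → Matrix I I R),
      (∀ (R R' : Type u) [CommRing R] [Algebra k R] [CommRing R'] [Algebra k R'] (f : R →ₐ[k] R')
        (u : pt k R ⟶ G), (C R u).map f = C R' (ptMap f ≫ u)) →
      (∀ (R : Type u) [CommRing R] [Algebra k R], C R 1 = 1) →
      (∀ (R : Type u) [CommRing R] [Algebra k R] (u v : pt k R ⟶ G), C R (u * v) = C R u * C R v) →
      ∃ ρ : G ⟶ GrothLib.Repr.GLsch k (Fintype.card I), IsMonHom ρ ∧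
        ∀ (R : Type u) [CommRing R] [Algebra k R] (u : pt k R ⟶ G),
          ∃ hu : IsUnit (Matrix.reindexAlgEquiv R R e (C R u)).det,
            u ≫ ρ = Spec.mapMulEquiv (toConv (GrothLib.HMG.ofMat (k := k) (Matrix.reindexAlgEquiv R R e (C R u)) hu)) by
    obtain ⟨ρ, hρ, hC⟩ := h C hnat hone hmul
    obtain ⟨ρ', hρ', hD⟩ := h D hnat' hone' hmul'
    refine ⟨_, ρ, ρ', hρ, hρ', fun R _ _ u => ?_⟩
    obtain ⟨h1, e1⟩ := hC R u
    obtain ⟨h2, e2⟩ := hD R u
    rw [e1, e2]
    constructor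
    · intro h
      have h3 := congrArg GrothLib.HMG.mat (congrArg WithConv.ofConv (Spec.mapMulEquiv.injective h))
      rw [ofConv_toConv, ofConv_toConv, GrothLib.HMG.mat_ofMat, GrothLib.HMG.mat_ofMat] at h3
      exact (Matrix.reindexAlgEquiv R R e).injective h3
    · intro h
      refine congrArg Spec.mapMulEquiv (congrArg toConv (GrothLib.HMG.ext_mat ?_))
      rw [GrothLib.HMG.mat_ofMat, GrothLib.HMG.mat_ofMat, h]
  intro C hnat hone hmul
  let C' := fun (R : Type u) [CommRing R] [Algebra k R] (u : pt k R ⟶ G) => Matrix.reindexAlgEquiv R R e (C R u)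
  have hC1 : ∀ (R : Type u) [CommRing R] [Algebra k R], C' R 1 = 1 := fun R _ _ => by simp [C', hone]
  have hCm : ∀ (R : Type u) [CommRing R] [Algebra k R] (u v : pt k R ⟶ G), C' R (u * v) = C' R u * C' R v :=
    fun R _ _ u v => by simp only [C', hmul, map_mul]
  have hCn : ∀ (R R' : Type u) [CommRing R] [Algebra k R] [CommRing R'] [Algebra k R'] (f : R →ₐ[k] R')
      (u : pt k R ⟶ G), (C' R u).map f = C' R' (ptMap f ≫ u) := fun R R' _ _ _ _ f u => by
    ext i j
    simp [C', ← hnat, Matrix.coe_reindexAlgEquiv]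
  have hdet : ∀ (R : Type u) [CommRing R] [Algebra k R] (u : pt k R ⟶ G), IsUnit (C' R u).det :=
    fun R _ _ u => Matrix.isUnit_det_of_right_inverse (B := C' R u⁻¹)
      (by rw [← hCm, mul_inv_cancel, hC1])
  let F := fun (R : Type u) [CommRing R] [Algebra k R] (u : pt k R ⟶ G) =>
    (Spec.mapMulEquiv (toConv (GrothLib.HMG.ofMat (k := k) (C' R u) (hdet R u))) :
      pt k R ⟶ GrothLib.Repr.GLsch k (Fintype.card I))
  have hFn : ∀ (R R' : Type u) [CommRing R] [Algebra k R] [CommRing R'] [Algebra k R'] (f : R →ₐ[k] R')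
      (u : pt k R ⟶ G), ptMap f ≫ F R u = F R' (ptMap f ≫ u) := fun R R' _ _ _ _ f u => by
    refine (mapMulEquiv_comp f _).trans (congrArg Spec.mapMulEquiv (congrArg toConv ?_))
    refine GrothLib.HMG.ext_mat ?_
    rw [GrothLib.HMG.mat_comp, ofConv_toConv, GrothLib.HMG.mat_ofMat, GrothLib.HMG.mat_ofMat, hCn]
  obtain ⟨ρ, hρ⟩ := exists_hom_of_natural F hFn
  have hFm : ∀ (R : Type u) [CommRing R] [Algebra k R] (u v : pt k R ⟶ G), F R (u * v) = F R u * F R v :=
    fun R _ _ u v => by
    refine Eq.trans (congrArg Spec.mapMulEquiv (WithConv.ofConv_injective ?_)) (map_mul Spec.mapMulEquiv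
      (toConv (GrothLib.HMG.ofMat (k := k) (C' R u) (hdet R u))) (toConv (GrothLib.HMG.ofMat (k := k) (C' R v) (hdet R v))))
    refine GrothLib.HMG.ext_mat ?_
    rw [ofConv_toConv, GrothLib.HMG.mat_ofMat, hCm]
    refine (congrArg₂ (· * ·) (GrothLib.HMG.mat_ofMat _ (hdet R u)).symm
      (GrothLib.HMG.mat_ofMat _ (hdet R v)).symm).trans ((GrothLib.HMG.mat_pmul (k := k)
        (GrothLib.HMG.ofMat (k := k) (C' R u) (hdet R u)) (GrothLib.HMG.ofMat (k := k) (C' R v) (hdet R v))).symm.trans ?_)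
    refine congrArg GrothLib.HMG.mat (AlgHom.ext fun x => ?_)
    exact (AlgHom.convMul_apply (toConv _) (toConv _) x).symm
  refine ⟨ρ, GrothLib.GrpSchField.isMonHom_of_mul _ (hom_ext_pts fun R _ _ p => ?_), fun R _ _ u => ⟨hdet R u, hρ R u⟩⟩
  rw [← GrothLib.GrpSchField.lift_fst_snd_comp p]
  generalize p ≫ fst G G = a
  generalize p ≫ snd G G = b
  rw [← Category.assoc, ← Hom.mul_def, hρ, lift_map_assoc, ← Hom.mul_def, hρ, hρ, hFm]
  rfl

variable [IsAlgClosed k] {G H : Over (Spec (CommRingCat.of k))} [GrpObj G] [GrpObj H]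
  [IsAffine G.left] [Smooth G.hom] [IsAffine H.left] [Smooth H.hom] {i : H ⟶ G} [IsMonHom i]

omit [IsAlgClosed k] [IsAffine H.left] [Smooth H.hom] [IsMonHom i] in
/-- Only invariant vectors are fixed by a subgroup detecting homomorphisms. -/
theorem fixedUnder_le_of_hom_ext
    (he : ∀ (G' : Over (Spec (CommRingCat.of k))) [GrpObj G'] [IsAffine G'.left] [Smooth G'.hom]
        (r s : G ⟶ G') [IsMonHom r] [IsMonHom s], i ≫ r = i ≫ s → r = s)
    {E : Type u} [AddCommGroup E] [Module k E] (ρ : GMod G E) : ρ.fixedUnder i ≤ ρ.fixedUnder (𝟙 G) := by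
  classical
  intro v hv
  obtain ⟨N, hNfin, hst, hmem⟩ := exists_stable ρ ({v} : Finset E)
  haveI := hNfin
  have hvN : v ∈ N := hmem v (Finset.mem_singleton_self v)
  obtain ⟨d, e, φ, he', hφe, hsum⟩ := exists_dual_family N
  let C := fun (R : Type u) [CommRing R] [Algebra k R] (u : pt k R ⟶ G) =>
    (Matrix.of fun a b => cf (φ a) (act ρ u (e b)) : Matrix (Fin d) (Fin d) R)
  have hexp : ∀ (R : Type u) [CommRing R] [Algebra k R] (u : pt k R ⟶ G) (b : Fin d),
      act ρ u (e b) = ∑ c, C R u c b • ((1 : R) ⊗ₜ[k] e c) := fun R _ _ u b =>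
    (sum_cf_tmul e he' φ hsum (hst R u _ (he' b))).symm
  have hCnat : ∀ (R R' : Type u) [CommRing R] [Algebra k R] [CommRing R'] [Algebra k R'] (f : R →ₐ[k] R')
      (u : pt k R ⟶ G), (C R u).map f = C R' (ptMap f ≫ u) := fun R R' _ _ _ _ f u => by
    ext a b
    simp [C, map_cf, Wmap_act]
  have hC1 : ∀ (R : Type u) [CommRing R] [Algebra k R], C R 1 = 1 := fun R _ _ => by
    ext a b
    simp [C, GrothLib.Repr.act_one, hφe, Matrix.one_apply]
  have hCmul : ∀ (R : Type u) [CommRing R] [Algebra k R] (u w : pt k R ⟶ G), C R (u * w) = C R u * C R w :=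
    fun R _ _ u w => by
    ext a b
    simp only [Matrix.mul_apply, C, Matrix.of_apply]
    rw [show act ρ (u * w) (e b) = ρ.ρ R u (act ρ w (e b)) by simp only [act, map_mul, LinearEquiv.mul_apply]]
    conv_lhs => rw [hexp R w b, map_sum, map_sum]
    refine Finset.sum_congr rfl fun c _ => ?_
    rw [LinearEquiv.map_smul, LinearMap.map_smul, smul_eq_mul, mul_comm]
    rfl
  let col := fun (R : Type u) [CommRing R] [Algebra k R] =>
    (Matrix.of fun a (_ : Unit) => algebraMap k R (φ a v) : Matrix (Fin d) Unit R)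
  -- `act u v` in coordinates
  have hcol : ∀ (R : Type u) [CommRing R] [Algebra k R] (u : pt k R ⟶ G),
      act ρ u v = (1 : R) ⊗ₜ[k] v ↔ C R u * col R = col R := by
    intro R _ _ u
    have h1 : ∀ a, cf (φ a) (act ρ u v) = (C R u * col R) a () := by
      intro a
      conv_lhs => rw [← hsum v hvN]
      simp only [act, TensorProduct.tmul_sum, map_sum, TensorProduct.tmul_smul, Matrix.mul_apply, C, col, Matrix.of_apply]
      refine Finset.sum_congr rfl fun b _ => ?_
      rw [← IsScalarTower.algebraMap_smul R, LinearEquiv.map_smul, LinearMap.map_smul, smul_eq_mul, mul_comm]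
    have h2 : ∀ a, cf (φ a) ((1 : R) ⊗ₜ[k] v) = col R a () := fun a => by
      simp [col, Algebra.algebraMap_eq_smul_one]
    constructor
    · intro h
      ext a ⟨⟩
      rw [← h1, h, h2]
    · intro h
      rw [← sum_cf_tmul e he' φ hsum (hst R u v hvN)]
      conv_rhs => rw [← hsum v hvN, TensorProduct.tmul_sum]
      refine Finset.sum_congr rfl fun a _ => ?_
      rw [h1, h, TensorProduct.tmul_smul]
      exact IsScalarTower.algebraMap_smul R (φ a v) _
  let Cx := fun (R : Type u) [CommRing R] [Algebra k R] (u : pt k R ⟶ G) =>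
    (Matrix.fromBlocks (C R u) 0 0 1 : Matrix (Fin d ⊕ Unit) (Fin d ⊕ Unit) R)
  let Dx := fun (R : Type u) [CommRing R] [Algebra k R] (u : pt k R ⟶ G) =>
    (Matrix.fromBlocks (C R u) (col R - C R u * col R) 0 1 : Matrix (Fin d ⊕ Unit) (Fin d ⊕ Unit) R)
  obtain ⟨n, r, s, hr, hs, hrs⟩ := exists_hom_GL_pair Cx Dx
    (fun R R' _ _ _ _ f u => by simp [Cx, Matrix.fromBlocks_map, Matrix.map_one, hCnat])
    (fun R R' _ _ _ _ f u => by
      simp only [Dx, Matrix.fromBlocks_map, Matrix.map_one _ (map_zero f) (map_one f), hCnat,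
        Matrix.map_zero _ (map_zero f)]
      congr 1
      rw [Matrix.map_sub _ (map_sub f), Matrix.map_mul, hCnat,
        show (col R).map f = col R' by ext a b; simp [col]])
    (fun R _ _ => by simp [Cx, hC1])
    (fun R _ _ => by simp [Dx, hC1])
    (fun R _ _ u w => by simp [Cx, Matrix.fromBlocks_multiply, hCmul])
    (fun R _ _ u w => by
      simp only [Dx, Matrix.fromBlocks_multiply, hCmul, Matrix.mul_zero, Matrix.zero_mul, add_zero, zero_add,
        Matrix.mul_one, Matrix.mul_sub, Matrix.mul_assoc]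
      congr 1 <;> abel)
  haveI := hr
  haveI := hs
  haveI : IsAffine (GrothLib.Repr.GLsch k n).left :=
    inferInstanceAs (IsAffine (Spec (CommRingCat.of (CoordGrp.GLn n k))))
  have hiff : ∀ (R : Type u) [CommRing R] [Algebra k R] (u : pt k R ⟶ G),
      Cx R u = Dx R u ↔ act ρ u v = (1 : R) ⊗ₜ[k] v := fun R _ _ u => by
    rw [hcol]
    simp only [Cx, Dx, Matrix.fromBlocks_inj, true_and, and_true]
    rw [eq_comm, sub_eq_zero, eq_comm]
  have hrs' : r = s := he (GrothLib.Repr.GLsch k n) r s (hom_ext_pts fun R _ _ h => by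
    rw [← Category.assoc, ← Category.assoc, hrs, hiff]
    exact hv R h)
  intro B _ _ g
  rw [Category.comp_id]
  exact (hiff B g).1 ((hrs B g).1 (by rw [hrs']))

variable [IsClosedImmersion i.left]

/-- Invariant functions of a subgroup with no new invariant vectors are constant. -/
theorem const_of_fixedUnder_eq
    (hc : (fnGMod (rtAct G)).fixedUnder i = (fnGMod (rtAct G)).fixedUnder (𝟙 G)) {f : Fn G}
    (hf : f ∈ semi i (fun _ => (1 : k))) : f = algebraMap k (Fn G) (valAt (1 : pt k k ⟶ G) f) := by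
  haveI : IsAffineHom G.hom := inferInstance
  have h1 : f ∈ (fnGMod (rtAct G)).fixedUnder i := fixedUnder_of_valAt _ _ fun t => by
    rw [rho_fn, show rt (t ≫ i) f = f from ext_valAt fun x => by
      rw [valAt_rt, mem_semi_iff.1 hf x t, _root_.one_mul]]
  rw [hc] at h1
  refine ext_valAt fun g => ?_
  have h2 := h1 k g
  rw [Category.comp_id, rho_fn] at h2
  have h3 : rt g f = f := by simpa using congrArg (TensorProduct.lid k (Fn G)) h2
  rw [AlgHom.commutes]
  conv_rhs => rw [← h3, valAt_rt, _root_.one_mul]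
  rfl

omit [IsMonHom i] [IsClosedImmersion i.left] in
/-- No new invariant vectors when the invariant functions are constant. -/
theorem fixedUnder_le_of_const
    (hb : ∀ f ∈ semi i (fun _ => (1 : k)), ∃ c : k, f = algebraMap k (Fn G) c)
    {E : Type u} [AddCommGroup E] [Module k E] (ρ : GMod G E) : ρ.fixedUnder i ≤ ρ.fixedUnder (𝟙 G) := by
  intro v hv B _ _ g
  rw [Category.comp_id]
  refine ext_cf fun α => ?_
  obtain ⟨c, hc⟩ := hb (coeff ρ α v) (fun x h => by
    rw [_root_.one_mul, valAt_coeff, valAt_coeff, map_mul, LinearEquiv.mul_apply, hv k h])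
  have hc1 := congrArg (valAt (1 : pt k k ⟶ G)) hc
  rw [valAt_coeff, map_one, AlgHom.commutes, LinearEquiv.coe_one, id_eq, cf_tmul] at hc1
  rw [← valAt_coeff, hc, AlgHom.commutes, cf_tmul]
  rw [show c = α v by simpa using hc1.symm, Algebra.algebraMap_eq_smul_one]

/-- A subgroup with constant invariant functions detects homomorphisms to affine groups. -/
theorem hom_ext_of_const
    (hb : ∀ f ∈ semi i (fun _ => (1 : k)), ∃ c : k, f = algebraMap k (Fn G) c)
    {G' : Over (Spec (CommRingCat.of k))} [GrpObj G'] [IsAffine G'.left]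
    (r s : G ⟶ G') [IsMonHom r] [IsMonHom s] (h : i ≫ r = i ≫ s) : r = s := by
  have hconst : ∀ (F : Fn G') (x : pt k k ⟶ G),
      valAt (x ≫ (r * s⁻¹)) F = valAt (1 : pt k k ⟶ G') F := by
    intro F x
    obtain ⟨c, hc⟩ := hb (fnMap (r * s⁻¹) F) (fun y t => by
      rw [_root_.one_mul, ← valAt_comp, ← valAt_comp]
      congr 2
      rw [MonObj.comp_mul, MonObj.comp_mul, GrpObj.comp_inv, GrpObj.comp_inv, MonObj.mul_comp, MonObj.mul_comp,
        Category.assoc t i r, Category.assoc t i s, h]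
      rw [_root_.mul_inv_rev, _root_.mul_assoc, mul_inv_cancel_left])
    have e1 : valAt (1 : pt k k ⟶ G) (fnMap (r * s⁻¹) F) = valAt (1 : pt k k ⟶ G') F := by
      rw [← valAt_comp]
      congr 2
      rw [MonObj.comp_mul, GrpObj.comp_inv, MonObj.one_comp r, MonObj.one_comp s]
      simp
    rw [valAt_comp, ← e1, hc, AlgHom.commutes, AlgHom.commutes]
  have hpt : ∀ x : pt k k ⟶ G, x ≫ r = x ≫ s := fun x => by
    have := pt_ext (AlgHom.ext fun F => hconst F x)
    rw [MonObj.comp_mul, GrpObj.comp_inv, mul_inv_eq_one] at this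
    exact this
  refine Over.OverMorphism.ext (ext_of_isAffine ?_)
  ext F
  show fnMap r (F : Fn G') = fnMap s (F : Fn G')
  exact ext_valAt fun x => by rw [← valAt_comp, ← valAt_comp, hpt]

end GrothLib.Induce27
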