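import Groth.Agent.Lib.Induce27.Inter
import Groth.Agent.Lib.GrpSchField.Open

/-!
# Observability and subgroups of finite index
-/

set_option autoImplicit false

universe u

open CategoryTheory MonoidalCategory CartesianMonoidalCategory MonObj GrpObj AlgebraicGeometry VecGrp
open scoped TensorProduct

noncomputable section

namespace GrothLib.Induce27

open GrothLib.Repr Groth.Agent.S11191

variable {k : Type u} [Field k] [IsAlgClosed k]
  {G H H₀ : Over (Spec (CommRingCat.of k))} [GrpObj G] [GrpObj H] [GrpObj H₀]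

omit [IsAlgClosed k] [GrpObj G] in
theorem isClosedImmersion_of_open [LocallyOfFiniteType H.hom] (j : H₀ ⟶ H) [IsMonHom j] [IsOpenImmersion j.left] :
    IsClosedImmersion j.left :=
  IsClosedImmersion.of_isPreimmersion j.left (GrothLib.GrpSchField.isClosed_range_of_isLocallyClosed j
    j.left.isOpenEmbedding.isOpen_range.isLocallyClosed)

variable [IsAffine G.left] [Smooth G.hom] [IsAffine H.left] [Smooth H.hom] [IsAffine H₀.left] [Smooth H₀.hom]

/-- An open subgroup of finite index is observable. -/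
theorem observable_of_open (j : H₀ ⟶ H) [IsMonHom j] [IsOpenImmersion j.left] [IsClosedImmersion j.left] :
    AGF.IsObservableIn k j := by
  classical
  haveI : IsAffineHom H.hom := inferInstance
  refine observable_of_extends fun V _ _ _ σ => ?_
  obtain ⟨e, he⟩ := exists_isIdem j
  let b := Module.finBasis k V
  choose L hL1 hL2 using fun t => exists_intertwiner σ he (b.coord t)
  refine extendsAlong_of_family σ L (fun v hv => b.ext_elem fun t => ?_) fun t h x v => ?_
  · have h0 := hL1 t v
    rw [hv t, map_zero, Module.Basis.coord_apply] at h0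
    simpa using h0.symm
  · have h0 := congrArg (fun z => ev x (AlgHom.id k k) z) (hL2 t k h ((1 : k) ⊗ₜ[k] v))
    simp only [rho_one_tmul σ, LinearMap.baseChange_tmul, rho_fn, ev_tmul, map_one, _root_.one_mul,
      valAt_rt] at h0
    exact h0.symm

/-- transitivity of observability. -/
theorem observable_comp (j : H₀ ⟶ H) [IsMonHom j] [IsClosedImmersion j.left] {i : H ⟶ G} [IsMonHom i]
    [IsClosedImmersion i.left] (hj : AGF.IsObservableIn k j) (hi : AGF.IsObservableIn k i) :
    AGF.IsObservableIn k (j ≫ i) := by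
  haveI : IsClosedImmersion (j ≫ i).left := inferInstanceAs (IsClosedImmersion (j.left ≫ i.left))
  refine observable_of_extends fun V _ _ _ σ => ?_
  obtain ⟨W₁, _, _, _, ρ₁, φ₁, hφ₁, e₁⟩ := extendsAlong_of_observable hj σ
  obtain ⟨W, _, _, _, ρ, φ, hφ, e⟩ := extendsAlong_of_observable hi ρ₁
  refine ⟨W, inferInstance, inferInstance, inferInstance, ρ, φ ∘ₗ φ₁, hφ.comp hφ₁, fun B _ _ h x => ?_⟩
  rw [LinearMap.baseChange_comp, LinearMap.comp_apply, LinearMap.comp_apply, e₁, e, Category.assoc]

/-- A subgroup containing an observable open subgroup is observable. -/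
theorem observable_of_finite_index (j : H₀ ⟶ H) [IsMonHom j] [IsOpenImmersion j.left]
    [IsClosedImmersion j.left] {i : H ⟶ G} [IsMonHom i] [IsClosedImmersion i.left]
    (h0 : AGF.IsObservableIn k (j ≫ i)) : AGF.IsObservableIn k i := by
  classical
  haveI : IsAffineHom H.hom := inferInstance
  obtain ⟨e, he⟩ := exists_isIdem j
  let S₀ : Subgroup (pt k k ⟶ H) :=
    { carrier := {h | ∃ t : pt k k ⟶ H₀, t ≫ j = h}
      one_mem' := ⟨1, MonObj.one_comp j⟩
      mul_mem' := by rintro _ _ ⟨a, rfl⟩ ⟨b, rfl⟩; exact ⟨a * b, MonObj.mul_comp a b j⟩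
      inv_mem' := by rintro _ ⟨a, rfl⟩; exact ⟨a⁻¹, GrpObj.inv_comp a j⟩ }
  have he1 : ∀ y : pt k k ⟶ H, valAt y e = 1 ↔ y ∈ S₀ := fun y =>
    ⟨fun h => exists_factor he y h, by rintro ⟨t, rfl⟩; rw [valAt_comp, he.map, map_one]⟩
  have he0 : ∀ y : pt k k ⟶ H, y ∉ S₀ → valAt y e = 0 := fun y hy => by
    have h1 : valAt y e * valAt y e = valAt y e := by rw [← map_mul, he.idem]
    rcases mul_eq_zero.1 (show valAt y e * (valAt y e - 1) = 0 by rw [mul_sub, h1, _root_.mul_one, sub_self]) with h | h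
    · exact h
    · exact absurd ((he1 y).1 (sub_eq_zero.1 h)) hy
  obtain ⟨N, hN, hst, hmem⟩ := exists_stable (fnGMod (rtAct H)) ({e} : Finset (Fn H))
  haveI := hN
  let v : (pt k k ⟶ H) ⧸ S₀ → N := fun c =>
    ⟨rt c.out e, rt_mem_of_stable hst _ (hmem e (Finset.mem_singleton_self e))⟩
  have hval : ∀ c c' : (pt k k ⟶ H) ⧸ S₀, valAt (c'.out)⁻¹ (v c : Fn H) = if c = c' then 1 else 0 := by
    intro c c'
    show valAt (c'.out)⁻¹ (rt c.out e) = _
    rw [valAt_rt]
    split_ifs with hcc
    · rw [hcc, inv_mul_cancel]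
      exact (he1 1).2 S₀.one_mem
    · refine he0 _ fun hmem => hcc ?_
      rw [← c.out_eq, ← c'.out_eq]
      exact (QuotientGroup.eq.2 hmem).symm
  have hli : LinearIndependent k v := by
    rw [linearIndependent_iff']
    intro s a ha c hc
    have h1 := congrArg (fun z : N => valAt (c.out)⁻¹ (z : Fn H)) ha
    simp only [AddSubmonoidClass.coe_finset_sum, SetLike.val_smul, map_sum, map_smul, hval, smul_eq_mul,
      mul_ite, _root_.mul_one, mul_zero, Finset.sum_ite_eq', hc, if_true, ZeroMemClass.coe_zero, map_zero] at h1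
    exact h1
  haveI : Finite ((pt k k ⟶ H) ⧸ S₀) := hli.finite
  haveI : Fintype ((pt k k ⟶ H) ⧸ S₀) := Fintype.ofFinite _
  have hswap : ∀ (f : Fn G), f ∈ semi (j ≫ i) (fun _ => (1 : k)) → ∀ (x : pt k k ⟶ G) (a b : pt k k ⟶ H),
      (QuotientGroup.mk a : (pt k k ⟶ H) ⧸ S₀) = QuotientGroup.mk b →
      valAt (x * (a ≫ i)) f = valAt (x * (b ≫ i)) f := by
    intro f hf x a b hab
    obtain ⟨t, ht⟩ := QuotientGroup.eq.1 hab
    have h2 := mem_semi_iff.1 hf (x * (a ≫ i)) t
    rw [_root_.one_mul, ← Category.assoc, ht, _root_.mul_assoc, ← MonObj.mul_comp, mul_inv_cancel_left] at h2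
    exact h2.symm
  intro g hg
  by_contra hne
  -- a function separating all cosets from g
  obtain ⟨f, hf⟩ := Submodule.exists_forall_notMem_of_forall_ne_top
    (fun c : (pt k k ⟶ H) ⧸ S₀ => LinearMap.ker
      (((valAt g).toLinearMap - (valAt (c.out ≫ i)).toLinearMap) ∘ₗ (semi (j ≫ i) (fun _ => (1 : k))).subtype))
    (fun c htop => by
      have hagree : ∀ f ∈ semi (j ≫ i) (fun _ => (1 : k)), valAt (c.out ≫ i) f = valAt g f := fun f hf => by
        have := LinearMap.congr_fun (LinearMap.ker_eq_top.1 htop) ⟨f, hf⟩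
        simp only [LinearMap.comp_apply, Submodule.subtype_apply, LinearMap.sub_apply, LinearMap.zero_apply,
          AlgHom.toLinearMap_apply, sub_eq_zero] at this
        exact this.symm
      obtain ⟨t, ht⟩ := h0 _ (inHull_of_agree hagree)
      refine hne ⟨c.out * (t ≫ j), ?_⟩
      rw [MonObj.mul_comp, Category.assoc, ht, mul_inv_cancel_left])
  let P : Polynomial (Fn G) :=
    ∏ c : (pt k k ⟶ H) ⧸ S₀, (Polynomial.X - Polynomial.C (rt (c.out ≫ i) (f : Fn G)))
  have hPx : ∀ x : pt k k ⟶ G, P.map (valAt x).toRingHom =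
      ∏ c : (pt k k ⟶ H) ⧸ S₀, (Polynomial.X - Polynomial.C (valAt (x * (c.out ≫ i)) (f : Fn G))) := fun x => by
    simp only [P, Polynomial.map_prod, Polynomial.map_sub, Polynomial.map_X, Polynomial.map_C,
      AlgHom.toRingHom_eq_coe, RingHom.coe_coe, valAt_rt]
  have hinv : ∀ n, P.coeff n ∈ semi i (fun _ => (1 : k)) := by
    intro n x h
    rw [_root_.one_mul]
    have hmap : P.map (valAt (x * (h ≫ i))).toRingHom = P.map (valAt x).toRingHom := by
      rw [hPx, hPx]
      refine Fintype.prod_equiv (MulAction.toPerm h) _ _ fun c => ?_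
      rw [_root_.mul_assoc, ← MonObj.mul_comp, hswap f f.2 x (h * c.out) ((h • c).out)]
      · rfl
      · rw [QuotientGroup.out_eq']
        conv_rhs => rw [← c.out_eq']
        rfl
    have := congrArg (fun p => Polynomial.coeff p n) hmap
    simp only [Polynomial.coeff_map, AlgHom.toRingHom_eq_coe, RingHom.coe_coe] at this
    exact this
  have hPg : P.map (valAt g).toRingHom = P.map (valAt (1 : pt k k ⟶ G)).toRingHom := by
    ext n
    simp only [Polynomial.coeff_map, AlgHom.toRingHom_eq_coe, RingHom.coe_coe]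
    exact InHull.valAt_eq (i := i) hg (hinv n)
  have hev := congrArg (Polynomial.eval (valAt g (f : Fn G))) hPg
  rw [hPx, hPx, Polynomial.eval_prod, Polynomial.eval_prod, Finset.prod_eq_zero (Finset.mem_univ
    (QuotientGroup.mk 1 : (pt k k ⟶ H) ⧸ S₀))] at hev
  · obtain ⟨c, -, hc⟩ := Finset.prod_eq_zero_iff.1 hev.symm
    rw [Polynomial.eval_sub, Polynomial.eval_X, Polynomial.eval_C, sub_eq_zero, _root_.one_mul] at hc
    exact hf c (by simp [hc])
  · rw [Polynomial.eval_sub, Polynomial.eval_X, Polynomial.eval_C,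
      hswap f f.2 g _ 1 (QuotientGroup.out_eq' _), MonObj.one_comp i, _root_.mul_one, sub_self]

end GrothLib.Induce27
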