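import Groth.Agent.Lib.Induce27.Main
import Groth.Agent.Lib.Repr.Adjoint

/-!
# Invariant fractions of invariants
-/

set_option autoImplicit false

universe u

open CategoryTheory MonoidalCategory CartesianMonoidalCategory MonObj GrpObj AlgebraicGeometry VecGrp
open scoped TensorProduct

noncomputable section

namespace GrothLib.Induce27

open GrothLib.Repr Groth.Agent.S11191

variable {k : Type u} [Field k] [IsAlgClosed k]
  {G H : Over (Spec (CommRingCat.of k))} [GrpObj G] [GrpObj H] [IsAffine G.left] [Smooth G.hom]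
  [IsAffine H.left] [Smooth H.hom] {i : H ⟶ G}

omit [IsAffine H.left] [Smooth H.hom] in
/-- the weight of the top exterior power of a finite stable space of functions. -/
theorem exists_weight_of_stable (F : Submodule k (Fn G)) [Module.Finite k F]
    (hF : ∀ (h : pt k k ⟶ H), ∀ f ∈ F, rt (h ≫ i) f ∈ F) :
    ∃ (d : ℕ) (c : Fin d → Fn G) (χ : (pt k k ⟶ H) → k), LinearIndependent k c ∧
      (∀ b, c b ∈ F) ∧ (F ≤ Submodule.span k (Set.range c)) ∧
      (∀ h, χ h ≠ 0) ∧ (∀ p, minor c p ∈ semi i χ) := by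
  classical
  let b := Module.finBasis k F
  let c : Fin _ → Fn G := fun j => (b j : Fn G)
  let R : (pt k k ⟶ H) → F →ₗ[k] F := fun h =>
    (rt (h ≫ i)).toLinearMap.restrict fun f hf => hF h f hf
  refine ⟨_, c, fun h => LinearMap.det (R h), b.linearIndependent.map' _ (Submodule.ker_subtype _),
    fun j => (b j).2, ?_, fun h => ?_, fun p x h => ?_⟩
  · intro f hf
    have e : ∑ j, b.repr ⟨f, hf⟩ j • c j = f := by
      have h2 := congrArg F.subtype (b.sum_repr ⟨f, hf⟩)
      rw [map_sum] at h2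
      refine Eq.trans (Finset.sum_congr rfl fun j _ => ?_) h2
      rw [map_smul]
      rfl
    rw [← e]
    exact Submodule.sum_mem _ fun j _ => Submodule.smul_mem _ _ (Submodule.subset_span ⟨j, rfl⟩)
  · have hinj : Function.Injective (R h) := fun u v huv => by
      refine Subtype.ext (ext_valAt fun y => ?_)
      have h2 := congrArg (fun w : F => valAt (y * (h ≫ i)⁻¹) (w : Fn G)) huv
      simp only [R, LinearMap.restrict_coe_apply, AlgHom.toLinearMap_apply, valAt_rt,
        inv_mul_cancel_right] at h2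
      exact h2
    exact ((R h).isUnit_det ((Module.End.isUnit_iff _).2
      ⟨hinj, LinearMap.injective_iff_surjective.1 hinj⟩)).ne_zero
  · rw [valAt_minor, valAt_minor]
    let C := LinearMap.toMatrix b b (R h)
    have e : (Matrix.of fun a j => valAt (p a * (x * (h ≫ i))) (c j)) =
        (Matrix.of fun a j => valAt (p a * x) (c j)) * C := by
      ext a j
      have h1 : rt (h ≫ i) (c j) = ∑ l, C l j • c l := by
        have h2 := congrArg F.subtype (b.sum_repr (R h (b j)))
        rw [map_sum] at h2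
        refine Eq.trans h2.symm ?_
        refine Finset.sum_congr rfl fun l _ => ?_
        simp [C, c, LinearMap.toMatrix_apply]
      rw [Matrix.of_apply, ← _root_.mul_assoc, ← valAt_rt, h1, map_sum, Matrix.mul_apply]
      refine Finset.sum_congr rfl fun l _ => ?_
      rw [map_smul, smul_eq_mul, Matrix.of_apply, mul_comm]
    rw [e, Matrix.det_mul, mul_comm, LinearMap.det_toMatrix]

omit [GrpObj G] [IsAlgClosed k] in
theorem isDomain_fn_aux [GrpObj G] [ConnectedSpace G.left] : IsDomain (Fn G) := by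
  haveI : IrreducibleSpace G.left := GrothLib.Repr.irreducibleSpace_of_connected G
  haveI : IsReduced G.left := GrothLib.RedSmooth.isReduced_of_smooth G.hom
  haveI : IsIntegral G.left := isIntegral_of_irreducibleSpace_of_isReduced G.left
  exact inferInstanceAs (IsDomain Γ(G.left, ⊤))

variable [IsMonHom i] [IsClosedImmersion i.left]

/-- **(⇒)**: over an observable subgroup invariant fractions are fractions of invariants. -/
theorem exists_invariant_fraction [ConnectedSpace G.left] (hobs : AGF.IsObservableIn k i) {a b : Fn G}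
    (hb : b ≠ 0)
    (hab : ∀ (x : pt k k ⟶ G) (h : pt k k ⟶ H),
      valAt (x * (h ≫ i)) a * valAt x b = valAt x a * valAt (x * (h ≫ i)) b) :
    ∃ a' b' : Fn G, a' ∈ semi i (fun _ => 1) ∧ b' ∈ semi i (fun _ => 1) ∧ b' ≠ 0 ∧ a * b' = a' * b := by
  classical
  haveI := isDomain_fn_aux (G := G)
  let I : Submodule k (Fn G) :=
    (Submodule.restrictScalars k (Ideal.span {b})).comap (LinearMap.mulLeft k a)
  have hI : ∀ {f : Fn G}, f ∈ I ↔ b ∣ a * f := fun {f} => Ideal.mem_span_singleton
  have hrel : ∀ h : pt k k ⟶ H, rt (h ≫ i) a * b = a * rt (h ≫ i) b := fun h => ext_valAt fun x => by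
    rw [map_mul, map_mul, valAt_rt, valAt_rt, hab]
  have hrinj : ∀ h : pt k k ⟶ H, rt (h ≫ i) b ≠ 0 := fun h h0 => hb (eq_zero_of_valAt fun y => by
    have h2 := congrArg (valAt (y * (h ≫ i)⁻¹)) h0
    rwa [valAt_rt, inv_mul_cancel_right, map_zero] at h2)
  have hIst : ∀ h : pt k k ⟶ H, ∀ f ∈ I, rt (h ≫ i) f ∈ I := by
    intro h f hf
    obtain ⟨z, hz⟩ := hI.1 hf
    refine hI.2 ⟨rt (h ≫ i) z, mul_right_cancel₀ (hrinj h) ?_⟩
    have h2 : rt (h ≫ i) a * rt (h ≫ i) f = rt (h ≫ i) b * rt (h ≫ i) z := by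
      rw [← map_mul, ← map_mul, hz]
    calc a * rt (h ≫ i) f * rt (h ≫ i) b = (rt (h ≫ i) a * b) * rt (h ≫ i) f := by rw [hrel]; ring
      _ = (rt (h ≫ i) a * rt (h ≫ i) f) * b := by ring
      _ = _ := by rw [h2]; ring
  obtain ⟨N, hNfin, hNH, -, -, hmem⟩ := exists_stable_fn (i := i) {b}
  haveI := hNfin
  let F : Submodule k (Fn G) := N ⊓ I
  haveI : Module.Finite k F :=
    Module.Finite.of_injective (Submodule.inclusion (inf_le_left : F ≤ N)) (Submodule.inclusion_injective _)
  have hbF : b ∈ F := ⟨hmem b (Finset.mem_singleton_self b), hI.2 (dvd_mul_left b a)⟩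
  obtain ⟨d, c, χ, hc, hcF, hspan, hχ, hD⟩ := exists_weight_of_stable F
    (fun h f hf => ⟨hNH h f hf.1, hIst h f hf.2⟩)
  obtain ⟨x₁, b₀, hx₁⟩ : ∃ x₁ b₀, valAt x₁ (c b₀) ≠ 0 := by
    by_contra hall
    push Not at hall
    have : Submodule.span k (Set.range c) ≤ ⊥ :=
      Submodule.span_le.2 (by rintro _ ⟨j, rfl⟩; exact eq_zero_of_valAt fun x => hall x j)
    exact hb ((Submodule.mem_bot k).1 (this (hspan hbF)))
  obtain ⟨q, hq, hmem'⟩ := exists_rows_of_subset _ (span_eval_top hc) {x₁} (by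
    rw [Set.image_singleton, linearIndepOn_singleton_iff]
    exact fun h => hx₁ (congrFun h b₀))
  obtain ⟨a₀, ha₀⟩ := hmem' x₁ rfl
  let p : Fin d → (pt k k ⟶ G) := Function.update (fun j => q j * x₁⁻¹) a₀ 1
  have hDx : valAt x₁ (minor c p) ≠ 0 := by
    rw [valAt_minor]
    have : (Matrix.of fun j l => valAt (p j * x₁) (c l)) = Matrix.of fun j l => valAt (q j) (c l) := by
      ext j l
      by_cases hj : j = a₀
      · subst hj
        simp only [p, Matrix.of_apply, Function.update_self, _root_.one_mul]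
        exact (congrFun ha₀ l).symm
      · simp [p, Function.update_of_ne hj]
    rw [this]
    exact hq
  have hDI : minor c p ∈ I := by
    have hlt : ∀ l, lt (1 : pt k k ⟶ G) (c l) = c l := fun l => ext_valAt fun y => by
      rw [valAt_lt, _root_.one_mul]
    rw [minor, Matrix.det_apply]
    refine Submodule.sum_mem _ fun σ _ => ?_
    rw [Units.smul_def]
    refine zsmul_mem ?_ _
    refine hI.2 ?_
    obtain ⟨w, hw⟩ : c (σ.symm a₀) ∣ ∏ j, Matrix.of (fun a b => lt (p a) (c b)) (σ j) j := by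
      refine dvd_trans (Eq.dvd ?_) (Finset.dvd_prod_of_mem _ (Finset.mem_univ (σ.symm a₀)))
      rw [Equiv.apply_symm_apply, Matrix.of_apply]
      simp only [p, Function.update_self, hlt]
    rw [hw, ← _root_.mul_assoc]
    exact (hI.1 (hcF _).2).mul_right w
  obtain ⟨qq, hqq, x₀, hx₀⟩ := exists_semi_inv hobs χ hχ fun x => by
    obtain ⟨p', hp'⟩ := exists_minor_ne_zero hc x
    exact ⟨_, hD p', hp'⟩
  obtain ⟨z, hz⟩ := hI.1 hDI
  have hDne : minor c p ≠ 0 := fun h0 => hDx (by rw [h0, map_zero])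
  have hqne : qq ≠ 0 := fun h0 => hx₀ (by rw [h0, map_zero])
  have hb' : minor c p * qq ∈ semi i (fun _ => (1 : k)) := fun x h => by
    rw [map_mul, map_mul, mem_semi_iff.1 (hD p) x h, mem_semi_iff.1 hqq x h, _root_.one_mul]
    field_simp [hχ h]
  have heq : a * (minor c p * qq) = z * qq * b := by rw [← _root_.mul_assoc, hz]; ring
  refine ⟨z * qq, minor c p * qq, fun x h => ?_, hb', mul_ne_zero hDne hqne, heq⟩
  have hr : rt (h ≫ i) (z * qq) = z * qq := by
    refine mul_right_cancel₀ (mul_ne_zero (hrinj h) hb) ?_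
    have e2 := congrArg (rt (h ≫ i)) heq
    have e3 : rt (h ≫ i) (minor c p * qq) = minor c p * qq := ext_valAt fun y => by
      rw [valAt_rt, mem_semi_iff.1 hb' y h, _root_.one_mul]
    rw [map_mul, e3, map_mul (rt (h ≫ i)) (z * qq) b] at e2
    calc rt (h ≫ i) (z * qq) * (rt (h ≫ i) b * b)
        = (rt (h ≫ i) a * b) * (minor c p * qq) := by rw [← _root_.mul_assoc, ← e2]; ring
      _ = rt (h ≫ i) b * (a * (minor c p * qq)) := by rw [hrel]; ring
      _ = _ := by rw [heq]; ring
  rw [_root_.one_mul, ← valAt_rt, hr]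

/-- **(⇐)**. -/
theorem observable_of_invariant_fraction [ConnectedSpace G.left]
    (hyp : ∀ a b : Fn G, b ≠ 0 →
      (∀ (x : pt k k ⟶ G) (h : pt k k ⟶ H),
        valAt (x * (h ≫ i)) a * valAt x b = valAt x a * valAt (x * (h ≫ i)) b) →
      ∃ a' b' : Fn G, a' ∈ semi i (fun _ => 1) ∧ b' ∈ semi i (fun _ => 1) ∧ b' ≠ 0 ∧ a * b' = a' * b) :
    AGF.IsObservableIn k i := by
  intro g hg
  haveI := isDomain_fn_aux (G := G)
  obtain ⟨u, hu0, humul, hne, hdet⟩ := exists_key i
  refine hdet g fun D hD hD1 => ?_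
  obtain ⟨D2, hD2, hD21⟩ := hne 1
  have hD2ne : D2 ≠ 0 := fun h0 => hD21 (by rw [h0, map_zero])
  obtain ⟨a', b', ha', hb', hb'ne, heq⟩ := hyp D D2 hD2ne fun x h => by
    rw [mem_semi_iff.1 hD x h, mem_semi_iff.1 hD2 x h]; ring
  have hfix : ∀ f ∈ semi i (fun _ => (1 : k)), rt g f = f := fun f hf => ext_valAt fun x => by
    rw [valAt_rt]
    exact (isRTransInv_pt_iff g f).1 (hg f ((mem_semi_one_iff f).1 hf)) x
  have e2 := congrArg (rt g) heq
  rw [map_mul, map_mul, hfix _ ha', hfix _ hb'] at e2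
  have e3 : rt g D * D2 = D * rt g D2 := by
    refine mul_right_cancel₀ hb'ne ?_
    calc rt g D * D2 * b' = (rt g D * b') * D2 := by ring
      _ = (a' * D2) * rt g D2 := by rw [e2]; ring
      _ = _ := by rw [← heq]; ring
  have e4 := congrArg (valAt (1 : pt k k ⟶ G)) e3
  rw [map_mul, map_mul, valAt_rt, _root_.one_mul, hD1, zero_mul, mul_eq_zero] at e4
  exact e4.resolve_right hD21

end GrothLib.Induce27
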