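import Groth.Agent.Lib.Induce27.Semi

/-!
# The algebra of right-invariant functions
-/

set_option autoImplicit false

universe u

open CategoryTheory MonoidalCategory CartesianMonoidalCategory MonObj GrpObj AlgebraicGeometry VecGrp
open scoped TensorProduct

noncomputable section

namespace GrothLib.Induce27

open GrothLib.Repr Groth.Agent.S11191

variable {k : Type u} [Field k] {G T : Over (Spec (CommRingCat.of k))} [GrpObj G]

/-- the right-invariant functions as a subalgebra. -/
def invAlg (g : T ⟶ G) : Subalgebra k (Fn G) where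
  carrier := (AGF.rTransInv g : Set Γ(G.left, ⊤))
  mul_mem' ha hb := (AGF.rTransInv g).mul_mem ha hb
  one_mem' := (AGF.rTransInv g).one_mem
  add_mem' ha hb := (AGF.rTransInv g).add_mem ha hb
  zero_mem' := (AGF.rTransInv g).zero_mem
  algebraMap_mem' c := by
    show fnMap ((G ◁ g) ≫ μ[G]) (algebraMap k (Fn G) c) = fnMap (fst G T) (algebraMap k (Fn G) c)
    rw [AlgHom.commutes, AlgHom.commutes]

theorem mem_invAlg_iff {g : T ⟶ G} {f : Fn G} : f ∈ invAlg g ↔ AGF.IsRTransInv g f := Iff.rfl

theorem subringFGOver_iff {g : T ⟶ G} : AGF.SubringFGOver k G (AGF.rTransInv g) ↔ (invAlg g).FG := by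
  constructor
  · rintro ⟨s₀, hs, hle⟩
    let s : Finset (Fn G) := s₀
    refine ⟨s, le_antisymm (Algebra.adjoin_le fun f hf => hs hf) fun f hf => ?_⟩
    have h : Subring.closure (Set.range (fun c : k => algebraMap k (Fn G) c) ∪ (↑s : Set (Fn G))) ≤
        (Algebra.adjoin k (↑s : Set (Fn G))).toSubring :=
      Subring.closure_le.2 (Set.union_subset (by rintro _ ⟨c, rfl⟩; exact Subalgebra.algebraMap_mem _ c)
        Algebra.subset_adjoin)
    exact h (hle hf)
  · rintro ⟨s, hs⟩
    refine ⟨s, fun f hf => hs.le (Algebra.subset_adjoin hf), fun f hf => ?_⟩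
    have h : (Algebra.adjoin k (↑s : Set (Fn G))).toSubring ≤
        Subring.closure (Set.range (fun c : k => algebraMap k (Fn G) c) ∪ (↑s : Set (Fn G))) := by
      intro x hx
      induction hx using Algebra.adjoin_induction with
      | mem x hx => exact Subring.subset_closure (Or.inr hx)
      | algebraMap r => exact Subring.subset_closure (Or.inl ⟨r, rfl⟩)
      | add a b _ _ ha hb => exact add_mem ha hb
      | mul a b _ _ ha hb => exact mul_mem ha hb
    exact h (hs.ge hf)

variable [IsAlgClosed k] [IsAffine G.left] [Smooth G.hom] [IsAffine T.left] [Smooth T.hom] {g : T ⟶ G}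

theorem mem_invAlg_iff_valAt {f : Fn G} :
    f ∈ invAlg g ↔ ∀ (x : pt k k ⟶ G) (t : pt k k ⟶ T), valAt (x * (t ≫ g)) f = valAt x f :=
  mem_rTransInv_iff_valAt g f

theorem lt_mem_invAlg (y : pt k k ⟶ G) {f : Fn G} (hf : f ∈ invAlg g) : lt y f ∈ invAlg g := by
  rw [mem_invAlg_iff_valAt] at hf ⊢
  intro x t
  rw [valAt_lt, valAt_lt, ← _root_.mul_assoc, hf]

theorem saturated_invAlg {f h : Fn G} (hf : f ∈ invAlg g) (hfh : f * h ∈ invAlg g)
    (hnzd : ∀ c, f * c = 0 → c = 0) : h ∈ invAlg g := by
  rw [mem_invAlg_iff_valAt] at hf hfh ⊢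
  intro x t
  have e : rt (t ≫ g) h - h = 0 := hnzd _ (eq_zero_of_valAt fun y => by
    have h1 := hfh y t
    rw [map_mul, map_mul, hf] at h1
    rw [map_mul, map_sub, valAt_rt, mul_sub, h1, sub_self])
  rw [← valAt_rt, sub_eq_zero.1 e]

end GrothLib.Induce27
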