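import Groth.Agent.Lib.Induce27.QuotAffine
import Groth.Agent.Lib.Induce27.Restrict
import Groth.Agent.Lib.Induce27.InvAlg
import Groth.Agent.Lib.Induce27.Main
import Groth.Agent.S11198

/-!
# Quotients by reductive subgroups are affine
-/

set_option autoImplicit false

universe u

open CategoryTheory MonoidalCategory CartesianMonoidalCategory MonObj GrpObj AlgebraicGeometry VecGrp
open scoped TensorProduct

noncomputable section

namespace GrothLib.Induce27

open GrothLib.Repr Groth.Agent.S11191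

variable {k : Type u} [Field k] [IsAlgClosed k]
  {G H : Over (Spec (CommRingCat.of k))} [GrpObj G] [GrpObj H] [IsAffine G.left] [Smooth G.hom]
  [IsAffine H.left] [Smooth H.hom] {i : H ⟶ G} [IsMonHom i] [IsClosedImmersion i.left]

theorem mem_fixedUnder_fn_iff {f : Fn G} :
    f ∈ (resGMod (fnGMod (rtAct G)) i).fixedUnder (𝟙 H) ↔ f ∈ invAlg i := by
  haveI : IsAffineHom G.hom := inferInstance
  rw [fixedUnder_resGMod]
  constructor
  · intro h
    rw [mem_invAlg_iff_valAt]
    intro x t
    have h2 := h k t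
    rw [rho_fn] at h2
    have h3 : rt (t ≫ i) f = f := by simpa using congrArg (TensorProduct.lid k (Fn G)) h2
    rw [← valAt_rt, h3]
  · intro h
    refine fixedUnder_of_valAt _ _ fun t => ?_
    rw [rho_fn, show rt (t ≫ i) f = f from ext_valAt fun x => by
      rw [valAt_rt]; exact mem_invAlg_iff_valAt.1 h x t]

/-- A subgroup whose invariant theory separates disjoint cosets is observable. -/
theorem observable_of_separates (hH : VecGrp.IsReductiveGrp k H) (thm : AGF.ReductiveQuotSeparates k) :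
    AGF.IsObservableIn k i := by
  classical
  haveI : IsAffineHom G.hom := inferInstance
  intro g hg
  by_contra hno
  let T : G ⟶ G := (toPt G ≫ g) * 𝟙 G
  let q : H ⟶ G := i ≫ T
  have hT : ∀ (B : Type u) [CommRing B] [Algebra k B] (y : pt k B ⟶ H),
      y ≫ q = ((y ≫ toPt H) ≫ g) * (y ≫ i) := fun B _ _ y => by
    simp only [q, T]
    rw [← Category.assoc, MonObj.comp_mul, Category.comp_id, ← Category.assoc (y ≫ i)]
    congr 2
    rw [Category.assoc]
    congr 1
    exact Over.OverMorphism.ext (Over.w i)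
  have hsurj : Function.Surjective (fnMap q) := by
    rw [show fnMap q = (fnMap i).comp (lt g) from fnMap_comp i T]
    intro f
    obtain ⟨F, rfl⟩ := surjective_fnMap (i := i) f
    exact ⟨lt g⁻¹ F, congrArg (fnMap i) (show lt g (lt g⁻¹ F) = F from ext_valAt fun z => by rw [valAt_lt, valAt_lt, inv_mul_cancel_left])⟩
  have hst1 := isStable_ker i i (fun B _ _ y t => (MonObj.mul_comp y t i).symm) surjective_fnMap
  have hst2 := isStable_ker i q (fun B _ _ y t => by
    rw [hT, hT, MonObj.mul_comp y t i, _root_.mul_assoc]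
    congr 2
    exact Over.OverMorphism.ext ((Over.w y).trans (Over.w (y * t)).symm)) hsurj
  haveI : Algebra.FiniteType k (Fn G) := finiteType_fn
  have htop : RingHom.ker (fnMap i) ⊔ RingHom.ker (fnMap q) = ⊤ := by
    by_contra hne
    obtain ⟨z, hz⟩ := GrothLib.AffQuot.exists_point (k := k) hne
    obtain ⟨x, rfl⟩ := exists_pt_valAt z
    obtain ⟨h₁, hh₁⟩ := exists_factor_of_kills (i := i) x fun a ha => hz a (Ideal.mem_sup_left ha)
    obtain ⟨h₂, hh₂⟩ := exists_factor_of_kills (i := i) (g⁻¹ * x) fun a ha => by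
      rw [← valAt_lt]
      refine hz _ (Ideal.mem_sup_right ?_)
      show fnMap q (lt g⁻¹ a) = 0
      rw [show fnMap q = (fnMap i).comp (lt g) from fnMap_comp i T, AlgHom.comp_apply,
        show lt g (lt g⁻¹ a) = a from ext_valAt fun z => by rw [valAt_lt, valAt_lt, inv_mul_cancel_left]]
      exact ha
    refine hno ⟨h₁ * h₂⁻¹, ?_⟩
    rw [MonObj.mul_comp, GrpObj.inv_comp, hh₁, hh₂]
    simp [_root_.mul_assoc]
  have h := thm H hH (Fn G) (resGMod (fnGMod (rtAct G)) i) (resGMod_isMult fnGMod_isMult i) finiteType_fn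
    (RingHom.ker (fnMap i)) (RingHom.ker (fnMap q))
    (RingHom.ker_isRadical_iff_reduced_of_surjective surjective_fnMap |>.2 inferInstance)
    (RingHom.ker_isRadical_iff_reduced_of_surjective hsurj |>.2 inferInstance) hst1 hst2 htop
  obtain ⟨a, ha, b, hb, hab⟩ := Submodule.mem_sup.1 (h.ge (Submodule.mem_top (x := 1)))
  have hainv : AGF.IsRTransInv i (a : Fn G) := mem_fixedUnder_fn_iff.1 a.2
  have e1 : valAt (1 : pt k k ⟶ G) (a : Fn G) = 0 := by
    rw [← MonObj.one_comp i, valAt_comp, show fnMap i (a : Fn G) = 0 from ha, map_zero]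
  have e2 : valAt g (b : Fn G) = 0 := by
    rw [show g = (1 : pt k k ⟶ H) ≫ q by
      rw [hT, MonObj.one_comp i, _root_.mul_one, Subsingleton.elim ((1 : pt k k ⟶ H) ≫ toPt H) (𝟙 _), Category.id_comp],
      valAt_comp, show fnMap q (b : Fn G) = 0 from hb, map_zero]
  have e3 := congrArg (fun z => valAt g ((resGMod (fnGMod (rtAct G)) i).fixedSubalgebra (resGMod_isMult fnGMod_isMult i) (𝟙 H) |>.val z)) hab
  simp only [Subalgebra.coe_val] at e3
  have e4 := (isRTransInv_pt_iff g _).1 (hg _ hainv) 1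
  rw [_root_.one_mul, e1] at e4
  simp only [Subalgebra.coe_add, map_add, e4, e2, add_zero, Subalgebra.coe_one, map_one, zero_ne_one] at e3

/-- The quotient by a reductive subgroup is affine. -/
theorem isAffine_quotient {X : Over (Spec (CommRingCat.of k))} (a : AlgGrp.Action G X)
    (o : 𝟙_ (Over (Spec (CommRingCat.of k))) ⟶ X) (hX : AGF.IsQuotient i X a o)
    (hH : VecGrp.IsReductiveGrp k H) (thm : AGF.ReductiveQuotSeparates k) (thm' : AGF.ReductiveQuotSurj k) :
    IsAffine X.left := by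
  classical
  haveI : IsAffineHom G.hom := inferInstance
  haveI := isQuasiAffine_of_observable a o hX (observable_of_separates hH thm)
  obtain ⟨hXlft, hflat, hsurj, hpb⟩ := hX
  haveI := hXlft
  haveI := hflat
  haveI := hsurj
  set φ := a.orbitMap o
  haveI := lfp_orbit φ
  haveI : IsReduced G.left := GrothLib.RedSmooth.isReduced_of_smooth G.hom
  haveI : IsReduced X.left := GrothLib.FlatFactor.isReduced_of_flat_surjective φ.left
  haveI : QuasiCompact φ.left := quasiCompact_of_compactSpace φ.left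
  haveI : IsSchemeTheoreticallyDominant φ.left := .of_isDominant _
  haveI : IsAffine (pt k (Polynomial k)).left :=
    inferInstanceAs (IsAffine (Spec (CommRingCat.of (Polynomial k))))
  have hinj : Function.Injective φ.left.appTop := φ.left.app_injective ⊤
  have himg : ∀ F : Fn X, fnMap φ F ∈ invAlg i := fun F => by
    show fnMap ((G ◁ i) ≫ μ[G]) (fnMap φ F) = fnMap (fst G H) (fnMap φ F)
    rw [← AlgHom.comp_apply, ← fnMap_comp, ← AlgHom.comp_apply, ← fnMap_comp, hpb.w]
  have hsur : ∀ f ∈ invAlg i, ∃ F : Fn X, fnMap φ F = f := by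
    intro f hf
    have hl := (Groth.Agent.S11198.mem_rTransInv_iff_toLine i (f : Γ(G.left, ⊤))).1 hf
    obtain ⟨d, hd⟩ := GrothLib.DiagGrp.exists_desc φ (Groth.Agent.S11198.toLine (f : Γ(G.left, ⊤))) fun T y y' hyy => by
      obtain ⟨m, hm1, hm2⟩ : ∃ m : T ⟶ G ⊗ H, m ≫ fst G H = y ∧ m ≫ (G ◁ i) ≫ μ[G] = y' :=
        ⟨hpb.lift y y' hyy, hpb.lift_fst _ _ _, hpb.lift_snd _ _ _⟩
      rw [← hm1, ← hm2, Category.assoc, Category.assoc, hl]
    refine ⟨fnMap d (fnPt k _ Polynomial.X), ?_⟩
    rw [← AlgHom.comp_apply, ← fnMap_comp, hd]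
    exact Groth.Agent.S11198.fnMap_toLine _
  let ε : Fn X ≃ₐ[k] invAlg i := AlgEquiv.ofBijective ((fnMap φ).codRestrict (invAlg i) himg)
    ⟨fun u v h => hinj (congrArg Subtype.val h), fun f => by
      obtain ⟨F, hF⟩ := hsur f f.2
      exact ⟨F, Subtype.ext hF⟩⟩
  haveI : Surjective X.left.toSpecΓ := by
    refine ⟨fun P => ?_⟩
    let σ := resGMod (fnGMod (rtAct G)) i
    let q : Ideal (σ.fixedSubalgebra (resGMod_isMult fnGMod_isMult i) (𝟙 H)) :=
      Ideal.comap (ε.symm.toRingEquiv.toRingHom.comp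
        (RingHom.codRestrict (σ.fixedSubalgebra (resGMod_isMult fnGMod_isMult i) (𝟙 H)).val.toRingHom
          (invAlg i) fun f => mem_fixedUnder_fn_iff.1 f.2)) P.asIdeal
    obtain ⟨p, hp, hpq⟩ := thm' H hH (Fn G) σ (resGMod_isMult fnGMod_isMult i) finiteType_fn q
      (Ideal.IsPrime.comap _)
    let p' : PrimeSpectrum (Fn G) := ⟨p, hp⟩
    have hP : PrimeSpectrum.comap (fnMap φ).toRingHom p' = P := by
      refine PrimeSpectrum.ext (Ideal.ext fun F => ?_)
      have hmem : fnMap φ F ∈ σ.fixedSubalgebra (resGMod_isMult fnGMod_isMult i) (𝟙 H) :=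
        mem_fixedUnder_fn_iff.2 (himg F)
      have h2 := SetLike.ext_iff.1 hpq ⟨_, hmem⟩
      refine h2.trans ?_
      show ε.symm _ ∈ P.asIdeal ↔ _
      rw [show ((σ.fixedSubalgebra (resGMod_isMult fnGMod_isMult i) (𝟙 H)).val.toRingHom.codRestrict (invAlg i) (fun f => mem_fixedUnder_fn_iff.1 f.2)) ⟨fnMap φ F, hmem⟩ = ε F from rfl, AlgEquiv.symm_apply_apply]
      exact Iff.rfl
    obtain ⟨y, hy⟩ := (show Function.Surjective G.left.toSpecΓ from G.left.toSpecΓ.homeomorph.surjective) p'
    refine ⟨φ.left y, ?_⟩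
    rw [← Scheme.Hom.comp_apply, Scheme.toSpecΓ_naturality, Scheme.Hom.comp_apply, hy]
    exact hP
  haveI : IsIso X.left.toSpecΓ := isIso_of_isOpenImmersion_of_opensRange_eq_top _
    (TopologicalSpace.Opens.ext (Set.range_eq_univ.mpr X.left.toSpecΓ.surjective))
  exact IsAffine.of_isIso X.left.toSpecΓ

end GrothLib.Induce27
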