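import Mathlib

/-!
# Choosing points with invertible evaluation matrix
-/

set_option autoImplicit false

namespace GrothLib.Induce27

variable {K : Type*} [Field K] {Y : Type*} {n : ℕ}

theorem span_range_eq_top_of_forall (v : Y → Fin n → K)
    (h : ∀ c : Fin n → K, (∀ y, ∑ b, c b * v y b = 0) → c = 0) :
    Submodule.span K (Set.range v) = ⊤ := by
  classical
  by_contra hne
  obtain ⟨φ, hφ, hφ'⟩ := Submodule.exists_dual_map_eq_bot_of_lt_top (lt_top_iff_ne_top.2 hne) inferInstance
  apply hφ
  have hc : (fun b => φ (Pi.single b 1)) = 0 := h _ fun y => by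
    have h0 : φ (v y) = 0 := by
      have := Submodule.mem_map_of_mem (f := φ) (Submodule.subset_span (R := K) (Set.mem_range_self (f := v) y))
      rwa [hφ'] at this
    rw [← h0]
    conv_rhs => rw [pi_eq_sum_univ' (v y), map_sum]
    simp [Pi.single_apply, mul_comm]
  refine LinearMap.ext fun z => ?_
  rw [pi_eq_sum_univ' z, map_sum]
  refine Finset.sum_eq_zero fun b _ => ?_
  have := congrFun hc b
  simp only [Pi.zero_apply] at this
  simp [this]

theorem exists_rows_of_subset (v : Y → Fin n → K) (hsp : Submodule.span K (Set.range v) = ⊤)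
    (s : Set Y) (hs : LinearIndepOn K id (v '' s)) :
    ∃ q : Fin n → Y, (Matrix.of fun a b => v (q a) b).det ≠ 0 ∧ ∀ y ∈ s, ∃ a, v (q a) = v y := by
  classical
  obtain ⟨t, ht, hst, hsp', hli⟩ := exists_linearIndepOn_id_extension hs (Set.image_subset_range v s)
  have hfin : t.Finite := hli.linearIndependent.setFinite
  haveI := hfin.fintype
  have hli' : LinearIndependent K ((↑) : t → Fin n → K) := hli
  let B : Module.Basis t K (Fin n → K) := Module.Basis.mk hli' (by
    rw [Subtype.range_coe]
    calc (⊤ : Submodule K (Fin n → K)) = Submodule.span K (Set.range v) := hsp.symm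
      _ ≤ Submodule.span K t := Submodule.span_le.2 hsp')
  let e := B.indexEquiv (Pi.basisFun K (Fin n))
  choose f hf using fun z : t => ht z.2
  refine ⟨fun a => f (e.symm a), ?_, fun y hy => ⟨e ⟨v y, hst ⟨y, hy, rfl⟩⟩, by
      show v (f (e.symm (e ⟨v y, hst ⟨y, hy, rfl⟩⟩))) = v y
      rw [Equiv.symm_apply_apply]
      exact hf _⟩⟩
  have hrows : LinearIndependent K (Matrix.of fun a b => v (f (e.symm a)) b).row := by
    have : (Matrix.of fun a b => v (f (e.symm a)) b).row = ((↑) : t → Fin n → K) ∘ e.symm := by
      funext a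
      show (fun b => v (f (e.symm a)) b) = _
      exact hf (e.symm a)
    rw [this]
    exact hli'.comp _ e.symm.injective
  exact ((Matrix.isUnit_iff_isUnit_det _).1 (Matrix.linearIndependent_rows_iff_isUnit.1 hrows)).ne_zero

end GrothLib.Induce27
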