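import Groth.Agent.Lib.Induce27.Points
import Groth.Agent.Lib.Induce27.Rows

/-!
# Semi-invariant functions of a closed subgroup; observable subgroups
-/

set_option autoImplicit false

universe u

open CategoryTheory MonoidalCategory CartesianMonoidalCategory MonObj GrpObj AlgebraicGeometry VecGrp
open scoped TensorProduct

noncomputable section

namespace GrothLib.Induce27

open GrothLib.Repr Groth.Agent.S11191

variable {k : Type u} [Field k] [IsAlgClosed k]
  {G H : Over (Spec (CommRingCat.of k))} [GrpObj G] [GrpObj H] [IsAffine G.left] [Smooth G.hom]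

/-- semi-invariants of weight `χ` under right translation. -/
def semi (i : H ⟶ G) (χ : (pt k k ⟶ H) → k) : Submodule k (Fn G) where
  carrier := {f | ∀ (x : pt k k ⟶ G) (h : pt k k ⟶ H), valAt (x * (h ≫ i)) f = χ h * valAt x f}
  add_mem' {a b} ha hb := fun x h => by rw [map_add, map_add, ha x h, hb x h, mul_add]
  zero_mem' := fun x h => by simp
  smul_mem' c {a} ha := fun x h => by
    rw [map_smul, map_smul, ha x h, smul_eq_mul, smul_eq_mul, _root_.mul_left_comm]

theorem mem_semi_iff {i : H ⟶ G} {χ : (pt k k ⟶ H) → k} {f : Fn G} :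
    f ∈ semi i χ ↔ ∀ (x : pt k k ⟶ G) (h : pt k k ⟶ H), valAt (x * (h ≫ i)) f = χ h * valAt x f :=
  Iff.rfl

variable [IsAffine H.left] [Smooth H.hom] {i : H ⟶ G}

theorem mem_semi_one_iff (f : Γ(G.left, ⊤)) :
    (f : Fn G) ∈ semi i (fun _ => 1) ↔ AGF.IsRTransInv i f := by
  rw [mem_rTransInv_iff_valAt]
  constructor
  · intro h x t
    have := mem_semi_iff.1 h x t
    rwa [_root_.one_mul] at this
  · intro h x t
    rw [_root_.one_mul]
    exact h x t

/-- the hull condition on a rational point. -/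
def InHull (i : H ⟶ G) (g : pt k k ⟶ G) : Prop :=
  ∀ f : Γ(G.left, ⊤), AGF.IsRTransInv i f → AGF.IsRTransInv g f

theorem InHull.valAt_eq {g : pt k k ⟶ G} (hg : InHull i g) {f : Fn G}
    (hf : f ∈ semi i (fun _ => 1)) : valAt g f = valAt (1 : pt k k ⟶ G) f := by
  have h := (isRTransInv_pt_iff g f).1 (hg f ((mem_semi_one_iff f).1 hf)) 1
  rwa [_root_.one_mul] at h

theorem inHull_of_agree {x y : pt k k ⟶ G}
    (h : ∀ f ∈ semi i (fun _ => (1 : k)), valAt x f = valAt y f) : InHull i (x⁻¹ * y) := by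
  intro f hf
  rw [isRTransInv_pt_iff]
  intro z
  have hf' := (mem_semi_one_iff (i := i) f).2 hf
  have h2 : lt (z * x⁻¹) (f : Fn G) ∈ semi i (fun _ => 1) := fun w t => by
    rw [valAt_lt, valAt_lt, ← _root_.mul_assoc]
    exact hf' _ t
  have := h _ h2
  rw [valAt_lt, valAt_lt, inv_mul_cancel_right] at this
  rw [← _root_.mul_assoc]
  exact this.symm

theorem isNoetherianRing_fn (X : Over (Spec (CommRingCat.of k))) [IsAffine X.left] [LocallyOfFiniteType X.hom] :
    IsNoetherianRing (Fn X) :=
  haveI := finiteType_fn (X := X)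
  Algebra.FiniteType.isNoetherianRing k (Fn X)

omit [IsAffine H.left] [Smooth H.hom] in
/-- Finitely many invariants take the same values at two points only if all invariants do. -/
theorem exists_separating (i : H ⟶ G) : ∃ s : Finset (Fn G), (∀ f ∈ s, f ∈ semi i (fun _ => (1 : k))) ∧
    ∀ x y : pt k k ⟶ G, (∀ f ∈ s, valAt x f = valAt y f) →
      ∀ f ∈ semi i (fun _ => (1 : k)), valAt x f = valAt y f := by
  classical
  haveI := isAffine_tensor (G := G) (T := G)
  haveI := isNoetherianRing_fn (G ⊗ G)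
  let d : Fn G → Fn (G ⊗ G) := fun f => fnMap (fst G G) f - fnMap (snd G G) f
  obtain ⟨T, hT, e⟩ := (Submodule.fg_span_iff_fg_span_finset_subset _).1
    (IsNoetherian.noetherian (Ideal.span (d '' {f | f ∈ semi i (fun _ => (1 : k))})))
  choose c hc hcd using fun a : T => hT a.2
  refine ⟨Finset.univ.image c, fun f hf => ?_, fun x y hxy f hf => ?_⟩
  · obtain ⟨a, -, rfl⟩ := Finset.mem_image.1 hf
    exact hc a
  · have hle : Ideal.span (↑T : Set (Fn (G ⊗ G))) ≤ RingHom.ker (valAt (lift x y)) := by
      refine Ideal.span_le.2 fun a ha => RingHom.mem_ker.2 ?_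
      have ha' : a = d (c ⟨a, ha⟩) := (hcd ⟨a, ha⟩).symm
      rw [ha']
      simp only [d, map_sub, ← valAt_comp, lift_fst, lift_snd]
      rw [hxy _ (Finset.mem_image_of_mem c (Finset.mem_univ _)), sub_self]
    have h1 : d f ∈ Ideal.span (↑T : Set (Fn (G ⊗ G))) :=
      e.le (Ideal.subset_span ⟨f, hf, rfl⟩)
    have h2 := RingHom.mem_ker.1 (hle h1)
    simp only [d, map_sub, ← valAt_comp, lift_fst, lift_snd] at h2
    exact sub_eq_zero.1 h2

/-- For an observable subgroup, a nowhere vanishing family of semi-invariants of some weight gives a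
nonzero semi-invariant of the inverse weight. -/
theorem exists_semi_inv (hobs : AGF.IsObservableIn k i) (χ : (pt k k ⟶ H) → k) (hχ : ∀ h, χ h ≠ 0)
    (hne : ∀ x : pt k k ⟶ G, ∃ D ∈ semi i χ, valAt x D ≠ 0) :
    ∃ q ∈ semi i (fun h => (χ h)⁻¹), ∃ x : pt k k ⟶ G, valAt x q ≠ 0 := by
  classical
  haveI := finiteType_fn (X := G)
  haveI := isNoetherianRing_fn G
  haveI := (minimalPrimes.finite_of_isNoetherianRing (Fn G)).to_subtype
  obtain ⟨f₁, hf₁⟩ := Submodule.exists_forall_notMem_of_forall_ne_top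
    (fun p : minimalPrimes (Fn G) => (Submodule.restrictScalars k p.1).comap (semi i χ).subtype) (by
      intro p htop
      haveI : p.1.IsPrime := p.2.1.1
      obtain ⟨z, hz, -⟩ := GrothLib.AffQuot.exists_point_ne_zero (k := k) (p := p.1) (f := 1)
        (fun h => ‹p.1.IsPrime›.ne_top ((Ideal.eq_top_iff_one _).2 h))
      obtain ⟨x, rfl⟩ := exists_pt_valAt z
      obtain ⟨D, hD, hDx⟩ := hne x
      have : (⟨D, hD⟩ : semi i χ) ∈ (Submodule.restrictScalars k p.1).comap (semi i χ).subtype :=
        htop ▸ Submodule.mem_top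
      exact hDx (hz D this))
  have hreg : ∀ a : Fn G, a * (f₁ : Fn G) = 0 → a = 0 := by
    intro a ha
    refine IsReduced.eq_zero a ?_
    rw [← mem_nilradical, nilradical_eq_sInf, Submodule.mem_sInf]
    intro p hp
    haveI : Ideal.IsPrime p := hp
    obtain ⟨p', hp', hle⟩ := Ideal.exists_minimalPrimes_le (I := (⊥ : Ideal (Fn G))) (J := p) bot_le
    haveI := hp'.1.1
    refine hle ((Ideal.IsPrime.mem_or_mem ‹_› (x := a) (y := (f₁ : Fn G)) (by rw [ha]; exact zero_mem _)).resolve_right ?_)
    exact hf₁ ⟨p', hp'⟩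
  obtain ⟨s, hs, hsep⟩ := exists_separating i
  let A := Algebra.adjoin k (↑s : Set (Fn G))
  have hA : ∀ f ∈ A, f ∈ semi i (fun _ => (1 : k)) := by
    intro f hf
    induction hf using Algebra.adjoin_induction with
    | mem x hx => exact hs x hx
    | algebraMap r =>
      intro x h
      rw [AlgHom.commutes, AlgHom.commutes, _root_.one_mul]
    | add a b _ _ ha hb => exact add_mem ha hb
    | mul a b _ _ ha hb =>
      intro x h
      simp only [map_mul, mem_semi_iff, _root_.one_mul] at ha hb ⊢
      rw [ha, hb]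
  haveI : Algebra.FiniteType k A := (Subalgebra.fg_iff_finiteType _).1 ⟨s, rfl⟩
  let φ : A →ₐ[k] Fn G ⧸ Ideal.span {(f₁ : Fn G)} := (Ideal.Quotient.mkₐ k _).comp A.val
  by_cases hinj : Function.Injective φ
  · exfalso
    obtain ⟨p, hp, -⟩ := Ideal.exists_minimalPrimes_le (I := (⊥ : Ideal A))
      (J := RingHom.ker ((valAt (1 : pt k k ⟶ G)).comp A.val)) bot_le
    haveI := hp.1.1
    obtain ⟨a, hap, ha⟩ := GrothLib.AffQuot.exists_liftable φ hinj hp
    refine hap ?_
    suffices h0 : (a : Fn G) = 0 by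
      rw [show a = 0 from Subtype.ext h0]; exact zero_mem _
    refine hreg _ (eq_zero_of_valAt fun g => ?_)
    rw [map_mul]
    by_cases hga : valAt g (a : Fn G) = 0
    · rw [hga, zero_mul]
    obtain ⟨g', hg'⟩ := ha ((valAt g).comp A.val) hga
    obtain ⟨x, hx⟩ := exists_pt_valAt (g'.comp (Ideal.Quotient.mkₐ k (Ideal.span {(f₁ : Fn G)})))
    have hagree : ∀ f ∈ s, valAt x f = valAt g f := fun f hf => by
      rw [hx]
      exact DFunLike.congr_fun hg' ⟨f, Algebra.subset_adjoin hf⟩
    obtain ⟨t, ht⟩ := hobs _ (inHull_of_agree (i := i) (hsep x g hagree))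
    have hx0 : valAt x (f₁ : Fn G) = 0 := by
      rw [hx, AlgHom.comp_apply, Ideal.Quotient.mkₐ_eq_mk,
        Ideal.Quotient.eq_zero_iff_mem.2 (Ideal.mem_span_singleton_self _), map_zero]
    have hg0 : valAt g (f₁ : Fn G) = 0 := by
      rw [show g = x * (t ≫ i) by rw [ht, mul_inv_cancel_left], mem_semi_iff.1 f₁.2 x t, hx0, mul_zero]
    rw [hg0, mul_zero]
  · obtain ⟨F, hF, hF0⟩ : ∃ F : A, φ F = 0 ∧ F ≠ 0 := by
      by_contra hne'
      push Not at hne'
      exact hinj ((injective_iff_map_eq_zero φ).2 hne')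
    obtain ⟨q₀, hq₀⟩ := Ideal.mem_span_singleton'.1 (Ideal.Quotient.eq_zero_iff_mem.1 hF)
    have hFv : ∀ z : pt k k ⟶ G, valAt z q₀ * valAt z (f₁ : Fn G) = valAt z (F : Fn G) := fun z => by
      rw [← map_mul]; exact congrArg _ hq₀
    refine ⟨(F : Fn G) * q₀, fun x h => ?_, ?_⟩
    · have e1 := mem_semi_iff.1 f₁.2 x h
      have eF : valAt (x * (h ≫ i)) (F : Fn G) = valAt x (F : Fn G) := by
        have := mem_semi_iff.1 (hA _ F.2) x h
        rwa [_root_.one_mul] at this
      have h2 := hFv (x * (h ≫ i))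
      have h3 := hFv x
      rw [map_mul, map_mul, eF]
      by_cases h0 : valAt x (f₁ : Fn G) = 0
      · rw [← h3, h0, mul_zero, zero_mul, zero_mul, mul_zero]
      · rw [e1, eF, ← h3, ← _root_.mul_assoc] at h2
        have h4 : valAt (x * (h ≫ i)) q₀ * χ h = valAt x q₀ := mul_right_cancel₀ h0 h2
        rw [← h4]
        field_simp [hχ h]
    · by_contra hall
      push Not at hall
      refine hF0 (Subtype.ext (eq_zero_of_valAt fun z => ?_))
      have h5 := hall z
      rw [map_mul] at h5
      rcases mul_eq_zero.1 h5 with h6 | h6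
      · exact h6
      · rw [← hFv z, h6, zero_mul]

section Minors

variable {n : ℕ}

/-- evaluation minors. -/
def minor (c : Fin n → Fn G) (p : Fin n → (pt k k ⟶ G)) : Fn G :=
  (Matrix.of fun a b => lt (p a) (c b)).det

omit [IsAlgClosed k] [IsAffine G.left] [Smooth G.hom] in
theorem valAt_minor (c : Fin n → Fn G) (p : Fin n → (pt k k ⟶ G)) (x : pt k k ⟶ G) :
    valAt x (minor c p) = (Matrix.of fun a b => valAt (p a * x) (c b)).det := by
  rw [minor, AlgHom.map_det]
  congr 1
  ext a b
  simp [valAt_lt]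

theorem span_eval_top {c : Fin n → Fn G} (hc : LinearIndependent k c) :
    Submodule.span k (Set.range fun y : pt k k ⟶ G => fun b => valAt y (c b)) = ⊤ := by
  refine span_range_eq_top_of_forall _ fun a ha => ?_
  have : ∑ b, a b • c b = 0 := eq_zero_of_valAt fun y => by
    rw [map_sum]; simpa [map_smul, smul_eq_mul] using ha y
  exact funext fun b => Fintype.linearIndependent_iff.1 hc a this b

theorem exists_minor_ne_zero {c : Fin n → Fn G} (hc : LinearIndependent k c) (x : pt k k ⟶ G) :
    ∃ p, valAt x (minor c p) ≠ 0 := by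
  obtain ⟨q, hq, -⟩ := exists_rows_of_subset _ (span_eval_top hc) ∅ (by simp)
  refine ⟨fun a => q a * x⁻¹, ?_⟩
  rw [valAt_minor]
  simpa only [inv_mul_cancel_right] using hq

theorem exists_minor_through {c : Fin n → Fn G} (hc : LinearIndependent k c) (g : pt k k ⟶ G)
    (hg : ∃ b, valAt g (c b) ≠ 0) (h1 : ∀ b, valAt (1 : pt k k ⟶ G) (c b) = 0) :
    ∃ p, valAt g (minor c p) ≠ 0 ∧ valAt (1 : pt k k ⟶ G) (minor c p) = 0 := by
  obtain ⟨b₀, hb₀⟩ := hg
  obtain ⟨q, hq, hmem⟩ := exists_rows_of_subset _ (span_eval_top hc) {g} (by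
    rw [Set.image_singleton, linearIndepOn_singleton_iff]
    exact fun h => hb₀ (congrFun h b₀))
  obtain ⟨a₀, ha₀⟩ := hmem g rfl
  refine ⟨Function.update (fun a => q a * g⁻¹) a₀ 1, ?_, ?_⟩
  · rw [valAt_minor]
    have : (Matrix.of fun a b => valAt (Function.update (fun a => q a * g⁻¹) a₀ 1 a * g) (c b)) =
        Matrix.of fun a b => valAt (q a) (c b) := by
      ext a b
      by_cases ha : a = a₀
      · subst ha
        simp only [Matrix.of_apply, Function.update_self, _root_.one_mul]
        exact (congrFun ha₀ b).symm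
      · simp [Function.update_of_ne ha]
    rw [this]
    exact hq
  · rw [valAt_minor]
    refine Matrix.det_eq_zero_of_row_eq_zero a₀ fun b => ?_
    simp [h1]

end Minors

section Frame

variable [IsMonHom i] [IsClosedImmersion i.left] (N : Submodule k (Fn G))
  (hN : ∀ (h : pt k k ⟶ H), ∀ f ∈ N, rt (h ≫ i) f ∈ N)

/-- the functions of `N` vanishing on the subgroup. -/
abbrev vanish (i : H ⟶ G) (N : Submodule k (Fn G)) : Submodule k (Fn G) :=
  N ⊓ LinearMap.ker (fnMap i).toLinearMap

include hN in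
theorem rt_mem_vanish (h : pt k k ⟶ H) {f : Fn G} (hf : f ∈ vanish i N) :
    rt (h ≫ i) f ∈ vanish i N := by
  refine ⟨hN h f hf.1, ?_⟩
  show fnMap i (rt (h ≫ i) f) = 0
  refine eq_zero_of_valAt fun y => ?_
  rw [← valAt_comp, valAt_rt, ← MonObj.mul_comp, valAt_comp,
    show fnMap i f = 0 from hf.2, map_zero]

include hN in
/-- A finite space of functions stable under the subgroup gives a weight with nowhere vanishing
semi-invariants, detecting the common zeros of its part vanishing on the subgroup. -/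
theorem exists_weight [Module.Finite k N] :
    ∃ (d : ℕ) (c : Fin d → Fn G) (χ : (pt k k ⟶ H) → k), LinearIndependent k c ∧
      (∀ b, c b ∈ vanish i N) ∧ (vanish i N ≤ Submodule.span k (Set.range c)) ∧
      (∀ h, χ h ≠ 0) ∧ (∀ p, minor c p ∈ semi i χ) := by
  classical
  haveI : Module.Finite k (vanish i N) :=
    Module.Finite.of_injective (Submodule.inclusion (inf_le_left : vanish i N ≤ N))
      (Submodule.inclusion_injective _)
  let b := Module.finBasis k (vanish i N)
  let c : Fin _ → Fn G := fun j => (b j : Fn G)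
  let R : (pt k k ⟶ H) → vanish i N →ₗ[k] vanish i N := fun h =>
    (rt (h ≫ i)).toLinearMap.restrict fun f hf => rt_mem_vanish N hN h hf
  refine ⟨_, c, fun h => LinearMap.det (R h), b.linearIndependent.map' _ (Submodule.ker_subtype _),
    fun j => (b j).2, ?_, fun h => ?_, fun p x h => ?_⟩
  · intro f hf
    have e : ∑ j, b.repr ⟨f, hf⟩ j • c j = f := by
      have h2 := congrArg (vanish i N).subtype (b.sum_repr ⟨f, hf⟩)
      rw [map_sum] at h2
      refine Eq.trans (Finset.sum_congr rfl fun j _ => ?_) h2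
      rw [map_smul]
      rfl
    rw [← e]
    exact Submodule.sum_mem _ fun j _ => Submodule.smul_mem _ _ (Submodule.subset_span ⟨j, rfl⟩)
  · have hinj : Function.Injective (R h) := fun u v huv => by
      refine Subtype.ext (ext_valAt fun y => ?_)
      have h2 := congrArg (fun w : vanish i N => valAt (y * (h ≫ i)⁻¹) (w : Fn G)) huv
      simp only [R, LinearMap.restrict_coe_apply, AlgHom.toLinearMap_apply, valAt_rt,
        inv_mul_cancel_right] at h2
      exact h2
    exact ((R h).isUnit_det ((Module.End.isUnit_iff _).2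
      ⟨hinj, LinearMap.injective_iff_surjective.1 hinj⟩)).ne_zero
  · rw [valAt_minor, valAt_minor]
    let C := LinearMap.toMatrix b b (R h)
    have e : (Matrix.of fun a j => valAt (p a * (x * (h ≫ i))) (c j)) =
        (Matrix.of fun a j => valAt (p a * x) (c j)) * C := by
      ext a j
      have h1 : rt (h ≫ i) (c j) = ∑ l, C l j • c l := by
        have h2 := congrArg (vanish i N).subtype (b.sum_repr (R h (b j)))
        rw [map_sum] at h2
        refine Eq.trans h2.symm ?_
        refine Finset.sum_congr rfl fun l _ => ?_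
        simp [C, c, LinearMap.toMatrix_apply]
      rw [Matrix.of_apply, ← _root_.mul_assoc, ← valAt_rt, h1, map_sum, Matrix.mul_apply]
      refine Finset.sum_congr rfl fun l _ => ?_
      rw [map_smul, smul_eq_mul, Matrix.of_apply, mul_comm]
    rw [e, Matrix.det_mul, mul_comm, LinearMap.det_toMatrix]

end Frame

end GrothLib.Induce27
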