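import Groth.Agent.Lib.Repr.Finite
import Groth.Prelude.Def_W4bk4grossh1223Act
import Mathlib.RingTheory.TensorProduct.Basic
import Mathlib.RingTheory.Flat.Basic

/-!
# Tensor products and stable subalgebras of modules with multiplicative action
-/

set_option autoImplicit false

universe u

open CategoryTheory MonoidalCategory CartesianMonoidalCategory MonObj AlgebraicGeometry VecGrp
open scoped TensorProduct

noncomputable section

namespace GrothLib.Induce27

open GrothLib.Repr

variable {k : Type u} [Field k] {G : Over (Spec (CommRingCat.of k))} [GrpObj G]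

section Sub

variable {M : Type u} [AddCommGroup M] [Module k M]

/-- An element whose coefficients vanish on a subspace lies in its base change. -/
theorem mem_range_of_inSub {R : Type u} [CommRing R] [Algebra k R] {N : Submodule k M} {y : R ⊗[k] M}
    (h : InSub N y) : y ∈ LinearMap.range (N.subtype.baseChange R) := by
  obtain ⟨p, hp⟩ := N.subtype.exists_leftInverse_of_injective N.ker_subtype
  refine ⟨p.baseChange R y, ?_⟩
  have e : ∀ (φ : Module.Dual k M) (z : R ⊗[k] M),
      cf φ (N.subtype.baseChange R (p.baseChange R z)) = cf (φ ∘ₗ N.subtype ∘ₗ p) z := by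
    intro φ z
    induction z using TensorProduct.induction_on with
    | zero => simp
    | tmul r m => simp
    | add a b ha hb => simp only [map_add, ha, hb]
  have e' : ∀ (φ ψ : Module.Dual k M) (z : R ⊗[k] M), cf (φ - ψ) z = cf φ z - cf ψ z := by
    intro φ ψ z
    induction z using TensorProduct.induction_on with
    | zero => simp
    | tmul r m => simp [sub_smul]
    | add a b ha hb => simp only [map_add, ha, hb]; abel
  refine ext_cf fun φ => ?_
  rw [e]
  refine (sub_eq_zero.1 ?_).symm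
  rw [← e']
  exact h _ fun x hx => by
    rw [LinearMap.mem_ker, LinearMap.sub_apply, sub_eq_zero]
    exact congrArg φ (congrArg Subtype.val (LinearMap.congr_fun hp ⟨x, hx⟩)).symm

end Sub

section Alg

variable {A : Type u} [CommRing A] [Algebra k A] {ρ : GMod G A} (hρ : ρ.IsMult)

/-- the action of a point as an algebra map. -/
def rhoAlg {R : Type u} [CommRing R] [Algebra k R] (u : pt k R ⟶ G) : R ⊗[k] A →ₐ[R] R ⊗[k] A :=
  AlgHom.ofLinearMap (ρ.ρ R u).toLinearMap (hρ R u).2 (hρ R u).1

theorem rhoAlg_apply {R : Type u} [CommRing R] [Algebra k R] (u : pt k R ⟶ G) (z : R ⊗[k] A) :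
    rhoAlg hρ u z = ρ.ρ R u z := rfl

theorem rhoAlg_mul {R : Type u} [CommRing R] [Algebra k R] (u v : pt k R ⟶ G) (z : R ⊗[k] A) :
    rhoAlg hρ u (rhoAlg hρ v z) = rhoAlg hρ (u * v) z := by
  simp only [rhoAlg_apply, map_mul, LinearEquiv.mul_apply]

theorem rhoAlg_one {R : Type u} [CommRing R] [Algebra k R] :
    rhoAlg hρ (1 : pt k R ⟶ G) = AlgHom.id R (R ⊗[k] A) :=
  AlgHom.ext fun z => by simp [rhoAlg_apply]

theorem Wmap_mul {R R' : Type u} [CommRing R] [Algebra k R] [CommRing R'] [Algebra k R'] (φ : R →ₐ[k] R')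
    (x y : R ⊗[k] A) : Wmap (M := A) φ (x * y) = Wmap (M := A) φ x * Wmap (M := A) φ y := by
  have e : ∀ z : R ⊗[k] A, Wmap (M := A) φ z = Algebra.TensorProduct.map φ (AlgHom.id k A) z := by
    intro z
    induction z using TensorProduct.induction_on with
    | zero => simp
    | tmul r m => simp
    | add a b ha hb => simp only [map_add, ha, hb]
  rw [e, e, e, map_mul]

variable (A₁ : Subalgebra k A) (hA₁ : Stable ρ (Subalgebra.toSubmodule A₁))

theorem val_baseChange_injective (R : Type u) [CommRing R] [Algebra k R] :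
    Function.Injective (Algebra.TensorProduct.map (AlgHom.id R R) A₁.val : R ⊗[k] A₁ →ₐ[R] R ⊗[k] A) :=
  Module.Flat.lTensor_preserves_injective_linearMap (M := R) A₁.val.toLinearMap Subtype.val_injective

theorem map_val_eq {R : Type u} [CommRing R] [Algebra k R] (z : R ⊗[k] A₁) :
    (Algebra.TensorProduct.map (AlgHom.id R R) A₁.val : R ⊗[k] A₁ →ₐ[R] R ⊗[k] A) z =
      (Subalgebra.toSubmodule A₁).subtype.baseChange R z := by
  induction z using TensorProduct.induction_on with
  | zero => simp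
  | tmul r m => rfl
  | add a b ha hb => simp only [map_add, ha, hb]

include hA₁ in
theorem rhoAlg_mem {R : Type u} [CommRing R] [Algebra k R] (u : pt k R ⟶ G) (z : R ⊗[k] A₁) :
    rhoAlg hρ u ((Algebra.TensorProduct.map (AlgHom.id R R) A₁.val : R ⊗[k] A₁ →ₐ[R] R ⊗[k] A) z) ∈
      (Algebra.TensorProduct.map (AlgHom.id R R) A₁.val : R ⊗[k] A₁ →ₐ[R] R ⊗[k] A).range := by
  induction z using TensorProduct.induction_on with
  | zero => simp
  | add a b ha hb => rw [map_add, map_add]; exact add_mem ha hb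
  | tmul r v =>
    rw [show r ⊗ₜ[k] v = r • ((1 : R) ⊗ₜ[k] v) by rw [TensorProduct.smul_tmul', smul_eq_mul, _root_.mul_one],
      map_smul, map_smul]
    refine Subalgebra.smul_mem _ ?_ _
    obtain ⟨w, hw⟩ := mem_range_of_inSub (hA₁ R u (v : A) v.2)
    exact ⟨w, (map_val_eq A₁ w).trans hw⟩

/-- the restricted action on a stable subalgebra. -/
def subAlgHom {R : Type u} [CommRing R] [Algebra k R] (u : pt k R ⟶ G) : R ⊗[k] A₁ →ₐ[R] R ⊗[k] A₁ :=
  (AlgEquiv.ofInjective _ (val_baseChange_injective A₁ R)).symm.toAlgHom.comp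
    (((rhoAlg hρ u).comp (Algebra.TensorProduct.map (AlgHom.id R R) A₁.val)).codRestrict _
      (rhoAlg_mem hρ A₁ hA₁ u))

theorem subAlgHom_spec {R : Type u} [CommRing R] [Algebra k R] (u : pt k R ⟶ G) (z : R ⊗[k] A₁) :
    (Algebra.TensorProduct.map (AlgHom.id R R) A₁.val : R ⊗[k] A₁ →ₐ[R] R ⊗[k] A)
      (subAlgHom hρ A₁ hA₁ u z) =
      rhoAlg hρ u ((Algebra.TensorProduct.map (AlgHom.id R R) A₁.val : R ⊗[k] A₁ →ₐ[R] R ⊗[k] A) z) :=
  congrArg Subtype.val ((AlgEquiv.ofInjective _ (val_baseChange_injective A₁ R)).apply_symm_apply _)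

end Alg

/-- a module structure from multiplicative maps. -/
def gmodOfAlgHom {A : Type u} [CommRing A] [Algebra k A]
    (T : ∀ (R : Type u) [CommRing R] [Algebra k R], (pt k R ⟶ G) → (R ⊗[k] A →ₐ[R] R ⊗[k] A))
    (h1 : ∀ (R : Type u) [CommRing R] [Algebra k R], T R 1 = AlgHom.id R (R ⊗[k] A))
    (hm : ∀ (R : Type u) [CommRing R] [Algebra k R] (u v : pt k R ⟶ G), T R (u * v) = (T R u).comp (T R v))
    (hn : ∀ (R R' : Type u) [CommRing R] [Algebra k R] [CommRing R'] [Algebra k R'] (φ : R →ₐ[k] R')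
      (u : pt k R ⟶ G) (a : A), Wmap φ (T R u ((1 : R) ⊗ₜ[k] a)) = T R' (ptMap φ ≫ u) ((1 : R') ⊗ₜ[k] a)) :
    GMod G A where
  ρ R _ _ :=
    { toFun := fun u => LinearEquiv.ofLinear (T R u).toLinearMap (T R u⁻¹).toLinearMap
        (LinearMap.ext fun z => by
          show T R u (T R u⁻¹ z) = z
          rw [← AlgHom.comp_apply, ← hm, mul_inv_cancel, h1, AlgHom.id_apply])
        (LinearMap.ext fun z => by
          show T R u⁻¹ (T R u z) = z
          rw [← AlgHom.comp_apply, ← hm, inv_mul_cancel, h1, AlgHom.id_apply])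
      map_one' := LinearEquiv.ext fun z => by
        show T R 1 z = z
        rw [h1, AlgHom.id_apply]
      map_mul' := fun u v => LinearEquiv.ext fun z => by
        show T R (u * v) z = T R u (T R v z)
        rw [hm, AlgHom.comp_apply] }
  naturality {R R'} _ _ _ _ φ u x := by
    show Wmap φ (T R u x) = T R' (ptMap φ ≫ u) (Wmap φ x)
    induction x using TensorProduct.induction_on with
    | zero => simp
    | tmul r a =>
      rw [show r ⊗ₜ[k] a = r • ((1 : R) ⊗ₜ[k] a) by rw [TensorProduct.smul_tmul', smul_eq_mul, _root_.mul_one],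
        map_smul, Wmap_smul, Wmap_smul, map_smul, hn, Wmap_tmul, map_one]
    | add a b ha hb => simp only [map_add, ha, hb]

theorem gmodOfAlgHom_isMult {A : Type u} [CommRing A] [Algebra k A]
    {T : ∀ (R : Type u) [CommRing R] [Algebra k R], (pt k R ⟶ G) → (R ⊗[k] A →ₐ[R] R ⊗[k] A)}
    {h1 hm hn} : (gmodOfAlgHom (G := G) T h1 hm hn).IsMult :=
  fun R _ _ u => ⟨fun x y => (T R u).map_mul x y, (T R u).map_one⟩

section Tensor

variable {M N : Type u} [CommRing M] [Algebra k M] [CommRing N] [Algebra k N]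
  {m : GMod G M} (hm : m.IsMult) {n : GMod G N} (hn : n.IsMult)

variable (R : Type u) [CommRing R] [Algebra k R] (M N)

/-- the first inclusion. -/
def inl : R ⊗[k] M →ₐ[R] R ⊗[k] (M ⊗[k] N) :=
  Algebra.TensorProduct.map (AlgHom.id R R) Algebra.TensorProduct.includeLeft

/-- the second inclusion. -/
def inr : R ⊗[k] N →ₐ[R] R ⊗[k] (M ⊗[k] N) :=
  Algebra.TensorProduct.map (AlgHom.id R R) Algebra.TensorProduct.includeRight

variable {R M N}

theorem hom_ext_tensor {C : Type u} [CommRing C] [Algebra R C] [Algebra k C] [IsScalarTower k R C]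
    {f g : R ⊗[k] (M ⊗[k] N) →ₐ[R] C}
    (h1 : ∀ x, f (inl M N R ((1 : R) ⊗ₜ[k] x)) = g (inl M N R ((1 : R) ⊗ₜ[k] x)))
    (h2 : ∀ y, f (inr M N R ((1 : R) ⊗ₜ[k] y)) = g (inr M N R ((1 : R) ⊗ₜ[k] y))) : f = g := by
  refine AlgHom.ext fun z => ?_
  induction z using TensorProduct.induction_on with
  | zero => simp
  | add a b ha hb => simp only [map_add, ha, hb]
  | tmul r w =>
    rw [show r ⊗ₜ[k] w = r • ((1 : R) ⊗ₜ[k] w) by rw [TensorProduct.smul_tmul', smul_eq_mul, _root_.mul_one],
      map_smul, map_smul]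
    congr 1
    induction w using TensorProduct.induction_on with
    | zero => simp
    | add a b ha hb => simp only [TensorProduct.tmul_add, map_add, ha, hb]
    | tmul x y =>
      have e : (1 : R) ⊗ₜ[k] (x ⊗ₜ[k] y) =
          inl M N R ((1 : R) ⊗ₜ[k] x) * inr M N R ((1 : R) ⊗ₜ[k] y) := by
        simp [inl, inr, Algebra.TensorProduct.tmul_mul_tmul]
      rw [e, map_mul, map_mul, h1, h2]

variable (R) in
/-- the action on the tensor product. -/
def tensHom (u : pt k R ⟶ G) : R ⊗[k] (M ⊗[k] N) →ₐ[R] R ⊗[k] (M ⊗[k] N) :=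
  Algebra.TensorProduct.lift (Algebra.ofId R _)
    (Algebra.TensorProduct.productMap
      ((((inl M N R).comp (rhoAlg hm u)).restrictScalars k).comp Algebra.TensorProduct.includeRight)
      ((((inr M N R).comp (rhoAlg hn u)).restrictScalars k).comp Algebra.TensorProduct.includeRight))
    fun _ _ => Commute.all _ _

theorem tensHom_inl (u : pt k R ⟶ G) (z : R ⊗[k] M) :
    tensHom hm hn R u (inl M N R z) = inl M N R (rhoAlg hm u z) := by
  induction z using TensorProduct.induction_on with
  | zero => simp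
  | add a b ha hb => simp only [map_add, ha, hb]
  | tmul r x =>
    rw [show r ⊗ₜ[k] x = r • ((1 : R) ⊗ₜ[k] x) by rw [TensorProduct.smul_tmul', smul_eq_mul, _root_.mul_one],
      map_smul, map_smul, map_smul, map_smul]
    congr 1
    simp [tensHom, inl]
    rw [show ((1 : R) ⊗ₜ[k] (1 : N)) = 1 from rfl, map_one, map_one, _root_.mul_one]
    exact _root_.one_mul _

theorem tensHom_inr (u : pt k R ⟶ G) (z : R ⊗[k] N) :
    tensHom hm hn R u (inr M N R z) = inr M N R (rhoAlg hn u z) := by
  induction z using TensorProduct.induction_on with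
  | zero => simp
  | add a b ha hb => simp only [map_add, ha, hb]
  | tmul r x =>
    rw [show r ⊗ₜ[k] x = r • ((1 : R) ⊗ₜ[k] x) by rw [TensorProduct.smul_tmul', smul_eq_mul, _root_.mul_one],
      map_smul, map_smul, map_smul, map_smul]
    congr 1
    simp [tensHom, inr]
    rw [show ((1 : R) ⊗ₜ[k] (1 : M)) = 1 from rfl, map_one, map_one, _root_.one_mul]
    exact _root_.one_mul _

omit R in
theorem Wmap_inl {R R' : Type u} [CommRing R] [Algebra k R] [CommRing R'] [Algebra k R'] (φ : R →ₐ[k] R')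
    (z : R ⊗[k] M) : Wmap φ (inl M N R z) = inl M N R' (Wmap φ z) := by
  induction z using TensorProduct.induction_on with
  | zero => simp
  | add a b ha hb => simp only [map_add, ha, hb]
  | tmul r x => simp [inl]

omit R in
theorem Wmap_inr {R R' : Type u} [CommRing R] [Algebra k R] [CommRing R'] [Algebra k R'] (φ : R →ₐ[k] R')
    (z : R ⊗[k] N) : Wmap φ (inr M N R z) = inr M N R' (Wmap φ z) := by
  induction z using TensorProduct.induction_on with
  | zero => simp
  | add a b ha hb => simp only [map_add, ha, hb]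
  | tmul r x => simp [inr]

/-- The tensor product of two multiplicative module structures. -/
def tensorGMod : GMod G (M ⊗[k] N) :=
  gmodOfAlgHom (fun R _ _ u => tensHom hm hn R u)
    (fun R _ _ => hom_ext_tensor
      (fun x => by rw [tensHom_inl, rhoAlg_one]; rfl)
      (fun y => by rw [tensHom_inr, rhoAlg_one]; rfl))
    (fun R _ _ u v => hom_ext_tensor
      (fun x => by rw [AlgHom.comp_apply, tensHom_inl, tensHom_inl, tensHom_inl, rhoAlg_mul])
      (fun y => by rw [AlgHom.comp_apply, tensHom_inr, tensHom_inr, tensHom_inr, rhoAlg_mul]))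
    (fun R R' _ _ _ _ φ u w => by
      induction w using TensorProduct.induction_on with
      | zero => simp
      | add a b ha hb => simp only [TensorProduct.tmul_add, map_add, ha, hb]
      | tmul x y =>
        have e : ∀ (S : Type u) [CommRing S] [Algebra k S], (1 : S) ⊗ₜ[k] (x ⊗ₜ[k] y) =
            inl M N S ((1 : S) ⊗ₜ[k] x) * inr M N S ((1 : S) ⊗ₜ[k] y) := fun S _ _ => by
          simp [inl, inr, Algebra.TensorProduct.tmul_mul_tmul]
        rw [e R, e R', map_mul (tensHom hm hn R u), map_mul (tensHom hm hn R' (ptMap φ ≫ u)), tensHom_inl, tensHom_inr, tensHom_inl, tensHom_inr, rhoAlg_apply,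
          rhoAlg_apply, rhoAlg_apply, rhoAlg_apply, Wmap_mul, Wmap_inl, Wmap_inr, m.naturality, n.naturality,
          Wmap_tmul, Wmap_tmul, map_one])

theorem tensorGMod_apply (u : pt k R ⟶ G) (z : R ⊗[k] (M ⊗[k] N)) :
    (tensorGMod hm hn).ρ R u z = tensHom hm hn R u z := rfl

theorem tensorGMod_isMult : (tensorGMod hm hn).IsMult := gmodOfAlgHom_isMult

end Tensor

section SubGMod

variable {A : Type u} [CommRing A] [Algebra k A] {ρ : GMod G A} (hρ : ρ.IsMult)
  (A₁ : Subalgebra k A) (hA₁ : Stable ρ (Subalgebra.toSubmodule A₁))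

theorem Wmap_map_val {R R' : Type u} [CommRing R] [Algebra k R] [CommRing R'] [Algebra k R'] (φ : R →ₐ[k] R')
    (z : R ⊗[k] A₁) :
    Wmap φ ((Algebra.TensorProduct.map (AlgHom.id R R) A₁.val : R ⊗[k] A₁ →ₐ[R] R ⊗[k] A) z) =
      (Algebra.TensorProduct.map (AlgHom.id R' R') A₁.val : R' ⊗[k] A₁ →ₐ[R'] R' ⊗[k] A) (Wmap φ z) := by
  induction z using TensorProduct.induction_on with
  | zero => simp
  | add a b ha hb => simp only [map_add, ha, hb]
  | tmul r x => simp

/-- The action on a stable subalgebra. -/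
def subAlgGMod : GMod G A₁ :=
  gmodOfAlgHom (fun R _ _ u => subAlgHom hρ A₁ hA₁ u)
    (fun R _ _ => AlgHom.ext fun z => val_baseChange_injective A₁ R (by
      rw [subAlgHom_spec, rhoAlg_one]; rfl))
    (fun R _ _ u v => AlgHom.ext fun z => val_baseChange_injective A₁ R (by
      rw [AlgHom.comp_apply, subAlgHom_spec, subAlgHom_spec, subAlgHom_spec, rhoAlg_mul]))
    (fun R R' _ _ _ _ φ u a => val_baseChange_injective A₁ R' (by
      rw [← Wmap_map_val, subAlgHom_spec, subAlgHom_spec, rhoAlg_apply, rhoAlg_apply, ρ.naturality,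
        Wmap_map_val, Wmap_tmul, map_one]))

theorem subAlgGMod_spec {R : Type u} [CommRing R] [Algebra k R] (u : pt k R ⟶ G) (z : R ⊗[k] A₁) :
    (Algebra.TensorProduct.map (AlgHom.id R R) A₁.val : R ⊗[k] A₁ →ₐ[R] R ⊗[k] A)
      ((subAlgGMod hρ A₁ hA₁).ρ R u z) =
      ρ.ρ R u ((Algebra.TensorProduct.map (AlgHom.id R R) A₁.val : R ⊗[k] A₁ →ₐ[R] R ⊗[k] A) z) :=
  subAlgHom_spec hρ A₁ hA₁ u z

theorem subAlgGMod_isMult : (subAlgGMod hρ A₁ hA₁).IsMult := gmodOfAlgHom_isMult

end SubGMod

end GrothLib.Induce27
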