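import Groth.Agent.Lib.Induce27.TensorAlg
import Groth.Agent.Lib.Induce27.InvAlg
import Groth.Agent.Lib.Induce27.Obs
import Groth.Agent.Lib.Induce27.Restrict

/-!
# The transfer principle
-/

set_option autoImplicit false

universe u

open CategoryTheory MonoidalCategory CartesianMonoidalCategory MonObj GrpObj AlgebraicGeometry VecGrp
open scoped TensorProduct

noncomputable section

namespace GrothLib.Induce27

open GrothLib.Repr Groth.Agent.S11191

variable {k : Type u} [Field k]

section Left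

variable {G : Over (Spec (CommRingCat.of k))} [GrpObj G]

variable (G) in
/-- left translation as an action. -/
def ltAct : AlgGrp.Action G G where
  act := fst G G * snd G G
  one_act := by
    have e1 : (η[G] ▷ G) ≫ fst (G : Over (Spec (CommRingCat.of k))) G = 1 := by
      rw [whiskerRight_fst, Hom.one_def]; congr 1
    rw [MonObj.comp_mul, e1, _root_.one_mul, whiskerRight_snd, leftUnitor_hom]
  mul_act := by
    apply GrothLib.GrpSchField.hom_ext_points₂
    intro T p y
    rw [← GrothLib.GrpSchField.lift_fst_snd_comp p]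
    generalize p ≫ fst G G = g
    generalize p ≫ snd G G = g'
    simp only [lift_lift_associator_hom_assoc, lift_whiskerRight_assoc, lift_whiskerLeft_assoc,
      ← Hom.mul_def, MonObj.comp_mul, lift_fst, lift_snd]
    simp only [_root_.mul_assoc]

theorem ev_ltm [IsAffine G.left] [QuasiCompact G.hom] [QuasiSeparated G.hom]
    {R B : Type u} [CommRing R] [Algebra k R] [CommRing B] [Algebra k B] (u : pt k R ⟶ G)
    (y : pt k B ⟶ G) (ψ : R →ₐ[k] B) (z : R ⊗[k] Fn G) :
    ev y ψ ((fnGMod (ltAct G)).ρ R u z) = ev ((ptMap ψ ≫ u)⁻¹ * y) ψ z := by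
  have h1 := valAt_theta (lift y (ptMap ψ)) ψ (lift_snd _ _) (phi (ltAct G) u⁻¹ z)
  rw [lift_fst] at h1
  show ev y ψ (phi (ltAct G) u⁻¹ z) = _
  rw [← h1, show theta R G (phi (ltAct G) u⁻¹ z) = fnMap (shift (ltAct G) u⁻¹) (theta R G z) from
    phi_apply (ltAct G) u⁻¹ z, ← valAt_comp]
  have e1 : (lift y (ptMap ψ) ≫ shift (ltAct G) u⁻¹) ≫ snd G (pt k R) = ptMap ψ := by
    rw [Category.assoc, shift_snd, lift_snd]
  have e2 : (lift y (ptMap ψ) ≫ shift (ltAct G) u⁻¹) ≫ fst G (pt k R) = (ptMap ψ ≫ u)⁻¹ * y := by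
    rw [Category.assoc, shift_fst]
    simp only [ltAct, MonObj.comp_mul, GrpObj.comp_inv, lift_fst, lift_snd,
      lift_fst_assoc, lift_snd_assoc]
  rw [valAt_theta _ ψ e1, e2]

theorem ltm_isMult [IsAffine G.left] [QuasiCompact G.hom] [QuasiSeparated G.hom] :
    (fnGMod (ltAct G)).IsMult := by
  intro B _ _ g
  refine ⟨fun x y => ext_ev fun C _ _ z ψ => ?_, ext_ev fun C _ _ z ψ => ?_⟩
  · rw [ev_ltm, map_mul, map_mul, ev_ltm, ev_ltm]
  · rw [ev_ltm, map_one, map_one]

variable {T : Over (Spec (CommRingCat.of k))}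

theorem valAt_of_mem_invAlg {g : T ⟶ G} {f : Fn G} (hf : f ∈ invAlg g) {R : Type u} [CommRing R] [Algebra k R]
    (y : pt k R ⟶ G) (t : pt k R ⟶ T) : valAt (y * (t ≫ g)) f = valAt y f := by
  have h := congrArg (valAt (lift y t)) (show fnMap ((G ◁ g) ≫ μ[G]) f = fnMap (fst G T) f from hf)
  rwa [← valAt_comp, ← valAt_comp, lift_fst, ← Category.assoc, lift_whiskerLeft, ← Hom.mul_def] at h

variable [IsAlgClosed k] [IsAffine G.left] [Smooth G.hom] [IsAffine T.left] [Smooth T.hom] {g : T ⟶ G}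

theorem stable_invAlg : Stable (fnGMod (ltAct G)) (Subalgebra.toSubmodule (invAlg g)) := by
  intro R _ _ u f hf
  refine inSub_of_contr fun ψ => ?_
  show contr ψ _ ∈ invAlg g
  rw [mem_invAlg_iff_valAt]
  intro x t
  let ev0 : ∀ (z : pt k k ⟶ G) (w : R ⊗[k] Fn G),
      cf (valAt z).toLinearMap w = ev (ptMap (Algebra.ofId k R) ≫ z) (AlgHom.id k R) w := fun z w => by
    induction w using TensorProduct.induction_on with
    | zero => simp
    | add a b ha hb => simp only [map_add, ha, hb]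
    | tmul r m =>
      rw [cf_tmul, ev_tmul, valAt_ptMap_comp, AlgHom.id_apply, AlgHom.toLinearMap_apply, Algebra.smul_def,
        mul_comm]
      rfl
  show (valAt (x * (t ≫ g))).toLinearMap (contr ψ _) = (valAt x).toLinearMap (contr ψ _)
  rw [← apply_cf, ← apply_cf, ev0, ev0, ev_ltm, ev_ltm, ev_tmul, ev_tmul, MonObj.comp_mul, ← _root_.mul_assoc,
    ← Category.assoc, valAt_of_mem_invAlg hf]

end Left

section Transfer

variable [IsAlgClosed k] {G H : Over (Spec (CommRingCat.of k))} [GrpObj G] [GrpObj H]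
  [IsAffine G.left] [Smooth G.hom] [IsAffine H.left] [Smooth H.hom] (i : H ⟶ G)
  {A : Type u} [CommRing A] [Algebra k A] {ρ : GMod G A} (hρ : ρ.IsMult)

/-- left translation on invariant functions. -/
def invGMod : GMod G (invAlg i) :=
  subAlgGMod (haveI : IsAffineHom G.hom := inferInstance; ltm_isMult) (invAlg i) stable_invAlg

theorem invGMod_isMult : (invGMod i).IsMult := subAlgGMod_isMult _ _ _

/-- the diagonal action. -/
def transGMod : GMod G (invAlg i ⊗[k] A) := tensorGMod (invGMod_isMult i) hρ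

/-- evaluation at a point. -/
def ev0 {C : Type u} [CommRing C] [Algebra k C] (y : pt k C ⟶ G) : invAlg i ⊗[k] A →ₐ[k] C ⊗[k] A :=
  Algebra.TensorProduct.map ((valAt y).comp (invAlg i).val) (AlgHom.id k A)

/-- evaluation at a point of the base change. -/
def evT {R C : Type u} [CommRing R] [Algebra k R] [CommRing C] [Algebra k C] (y : pt k C ⟶ G)
    (ψ : R →ₐ[k] C) : R ⊗[k] (invAlg i ⊗[k] A) →ₐ[k] C ⊗[k] A :=
  Algebra.TensorProduct.lift ((Algebra.TensorProduct.includeLeft (S := k)).comp ψ) (ev0 i y)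
    fun _ _ => Commute.all _ _

omit [IsAlgClosed k] [IsAffine G.left] [Smooth G.hom] [IsAffine H.left] [Smooth H.hom] [GrpObj H] in
theorem evT_tmul {R C : Type u} [CommRing R] [Algebra k R] [CommRing C] [Algebra k C] (y : pt k C ⟶ G)
    (ψ : R →ₐ[k] C) (r : R) (w : invAlg i ⊗[k] A) :
    evT i y ψ (r ⊗ₜ[k] w) = (ψ r ⊗ₜ[k] (1 : A)) * ev0 i y w :=
  Algebra.TensorProduct.lift_tmul _ _ _ _ _

theorem evT_rho {R C : Type u} [CommRing R] [Algebra k R] [CommRing C] [Algebra k C] (y : pt k C ⟶ G)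
    (ψ : R →ₐ[k] C) (u : pt k R ⟶ G) (z : R ⊗[k] (invAlg i ⊗[k] A)) :
    evT i y ψ ((transGMod i hρ).ρ R u z) =
      ρ.ρ C (ptMap ψ ≫ u) (evT i ((ptMap ψ ≫ u)⁻¹ * y) ψ z) := by
  haveI : IsAffineHom G.hom := inferInstance
  let F : R ⊗[k] (invAlg i ⊗[k] A) →ₐ[k] C ⊗[k] A :=
    (evT i y ψ).comp ((tensHom (invGMod_isMult i) hρ R u).restrictScalars k)
  let F' : R ⊗[k] (invAlg i ⊗[k] A) →ₐ[k] C ⊗[k] A :=
    ((rhoAlg hρ (ptMap ψ ≫ u)).restrictScalars k).comp (evT i ((ptMap ψ ≫ u)⁻¹ * y) ψ)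
  show F z = F' z
  induction z using TensorProduct.induction_on with
  | zero => simp
  | add a b ha hb => simp only [map_add, ha, hb]
  | tmul r w =>
    induction w using TensorProduct.induction_on with
    | zero => simp
    | add a b ha hb => simp only [TensorProduct.tmul_add, map_add, ha, hb]
    | tmul f a =>
      have e : r ⊗ₜ[k] (f ⊗ₜ[k] a) = (r ⊗ₜ[k] (1 : invAlg i ⊗[k] A)) *
          (inl (invAlg i) A R ((1 : R) ⊗ₜ[k] f) * inr (invAlg i) A R ((1 : R) ⊗ₜ[k] a)) := by
        simp [inl, inr, Algebra.TensorProduct.tmul_mul_tmul]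
      rw [e, map_mul F, map_mul F', map_mul F, map_mul F']
      congr 1
      · have hL : tensHom (invGMod_isMult i) hρ R u (r ⊗ₜ[k] (1 : invAlg i ⊗[k] A)) =
            r ⊗ₜ[k] (1 : invAlg i ⊗[k] A) := (tensHom (invGMod_isMult i) hρ R u).commutes r
        show evT i y ψ (tensHom (invGMod_isMult i) hρ R u (r ⊗ₜ[k] (1 : invAlg i ⊗[k] A))) =
          rhoAlg hρ _ (evT i _ ψ (r ⊗ₜ[k] (1 : invAlg i ⊗[k] A)))
        rw [hL, evT_tmul, evT_tmul, map_one, map_one, _root_.mul_one]
        exact ((rhoAlg hρ (ptMap ψ ≫ u)).commutes (ψ r)).symm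
      · congr 1
        · show evT i y ψ (tensHom (invGMod_isMult i) hρ R u (inl (invAlg i) A R ((1 : R) ⊗ₜ[k] f))) =
            rhoAlg hρ _ (evT i _ ψ (inl (invAlg i) A R ((1 : R) ⊗ₜ[k] f)))
          rw [tensHom_inl, rhoAlg_apply]
          have hinl : ∀ (y' : pt k C ⟶ G) (w : R ⊗[k] (invAlg i)),
              evT i y' ψ (inl (invAlg i) A R w) = ev y' ψ
                ((Algebra.TensorProduct.map (AlgHom.id R R) (invAlg i).val : R ⊗[k] (invAlg i) →ₐ[R] R ⊗[k] Fn G) w)
                ⊗ₜ[k] (1 : A) := fun y' w => by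
            induction w using TensorProduct.induction_on with
            | zero => simp
            | add a b ha hb => simp only [map_add, ha, hb, TensorProduct.add_tmul]
            | tmul s v =>
              simp [inl, evT_tmul, ev0, ev_tmul, Algebra.TensorProduct.tmul_mul_tmul]
          rw [hinl, hinl, invGMod, subAlgGMod_spec, ev_ltm]
          exact ((rhoAlg hρ (ptMap ψ ≫ u)).commutes _).symm
        · show evT i y ψ (tensHom (invGMod_isMult i) hρ R u (inr (invAlg i) A R ((1 : R) ⊗ₜ[k] a))) =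
            rhoAlg hρ _ (evT i _ ψ (inr (invAlg i) A R ((1 : R) ⊗ₜ[k] a)))
          rw [tensHom_inr]
          have hinr : ∀ (y' : pt k C ⟶ G) (w : R ⊗[k] A),
              evT i y' ψ (inr (invAlg i) A R w) = Wmap ψ w := fun y' w => by
            induction w using TensorProduct.induction_on with
            | zero => simp
            | add a b ha hb => simp only [map_add, ha, hb]
            | tmul s v =>
              simp [inr, evT_tmul, ev0, Algebra.TensorProduct.tmul_mul_tmul]
          rw [hinr, hinr, rhoAlg_apply, rhoAlg_apply, ρ.naturality, Wmap_tmul, map_one]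

omit [IsAlgClosed k] [Smooth G.hom] [IsAffine H.left] [Smooth H.hom] [GrpObj H] in
theorem evT_injective (R : Type u) [CommRing R] [Algebra k R] :
    Function.Injective (evT (A := A) i (ptMap (Algebra.TensorProduct.includeRight (R := k) (A := R) (B := Fn G)) ≫ (affIso G).inv)
      (Algebra.TensorProduct.includeLeft (S := k) : R →ₐ[k] R ⊗[k] Fn G)) := by
  let L : R ⊗[k] (invAlg i ⊗[k] A) →ₗ[k] (R ⊗[k] Fn G) ⊗[k] A :=
    (TensorProduct.assoc k R (Fn G) A).symm.toLinearMap ∘ₗ ((invAlg i).val.toLinearMap.rTensor A).lTensor R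
  have hL : Function.Injective L := (TensorProduct.assoc k R (Fn G) A).symm.injective.comp
    (Module.Flat.lTensor_preserves_injective_linearMap (M := R) _
      (Module.Flat.rTensor_preserves_injective_linearMap (M := A) _ Subtype.val_injective))
  have e : ∀ z, evT (A := A) i (ptMap (Algebra.TensorProduct.includeRight (R := k) (A := R) (B := Fn G)) ≫ (affIso G).inv)
      (Algebra.TensorProduct.includeLeft (S := k) : R →ₐ[k] R ⊗[k] Fn G) z = L z := by
    intro z
    induction z using TensorProduct.induction_on with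
    | zero => simp
    | add a b ha hb => simp only [map_add, ha, hb]
    | tmul r w =>
      induction w using TensorProduct.induction_on with
      | zero => simp
      | add a b ha hb => simp only [TensorProduct.tmul_add, map_add, ha, hb]
      | tmul f a =>
        rw [evT_tmul]
        simp [L, ev0, valAt_ptMap_comp, valAt_affIso_inv, Algebra.TensorProduct.tmul_mul_tmul]
  intro z z' h
  rw [e, e] at h
  exact hL h

omit [IsAlgClosed k] [Smooth G.hom] [IsAffine H.left] [Smooth H.hom] [GrpObj H] [IsAffine G.left] in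
theorem ev0_one {R : Type u} [CommRing R] [Algebra k R] (w : invAlg i ⊗[k] A) :
    ev0 i (1 : pt k R ⟶ G) w =
      (1 : R) ⊗ₜ[k] TensorProduct.lid k A (ev0 i (1 : pt k k ⟶ G) w) := by
  induction w using TensorProduct.induction_on with
  | zero => simp
  | add a b ha hb => simp only [map_add, ha, hb, TensorProduct.tmul_add]
  | tmul f a =>
    have e : valAt (1 : pt k R ⟶ G) (f : Fn G) = algebraMap k R (valAt (1 : pt k k ⟶ G) (f : Fn G)) := by
      rw [← Algebra.ofId_apply R, ← valAt_ptMap_comp, MonObj.comp_one]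
    simp [ev0, e, Algebra.algebraMap_eq_smul_one, TensorProduct.smul_tmul]

theorem fixed_image [IsMonHom i] {w : invAlg i ⊗[k] A}
    (hw : w ∈ (transGMod i hρ).fixedUnder (𝟙 G)) :
    TensorProduct.lid k A (ev0 i (1 : pt k k ⟶ G) w) ∈ ρ.fixedUnder i := by
  intro R _ _ t
  have h := congrArg (evT i (t ≫ i) (AlgHom.id k R)) (hw R (t ≫ i))
  rw [Category.comp_id, evT_rho, GrothLib.Repr.ptMap_id, Category.id_comp, inv_mul_cancel, evT_tmul, evT_tmul] at h
  have e1 : ∀ y : pt k R ⟶ G, ((AlgHom.id k R) (1 : R) ⊗ₜ[k] (1 : A)) * ev0 i y w = ev0 i y w := fun y => by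
    exact _root_.one_mul _
  rw [e1, e1] at h
  have e2 : ev0 i (t ≫ i) w = ev0 i (1 : pt k R ⟶ G) w := by
    clear h hw e1
    induction w using TensorProduct.induction_on with
    | zero => simp
    | add a b ha hb => simp only [map_add, ha, hb]
    | tmul f a =>
      simp only [ev0, Algebra.TensorProduct.map_tmul, AlgHom.comp_apply, Subalgebra.coe_val]
      congr 1
      rw [← valAt_of_mem_invAlg f.2 (1 : pt k R ⟶ G) t, _root_.one_mul]
  rw [e2, ev0_one] at h
  exact h

theorem exists_fixed_preimage [IsMonHom i] {a : A} (ha : a ∈ ρ.fixedUnder i) :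
    ∃ w ∈ (transGMod i hρ).fixedUnder (𝟙 G), TensorProduct.lid k A (ev0 i (1 : pt k k ⟶ G) w) = a := by
  classical
  let Φ : Fn G ⊗[k] A := ρ.ρ (Fn G) (affIso G).inv ((1 : Fn G) ⊗ₜ[k] a)
  let b := Module.Free.chooseBasis k A
  let c := TensorProduct.equivFinsuppOfBasisRight b Φ
  have hc : ∀ j, c j ∈ invAlg i := by
    intro j
    have e : ∀ (z : Fn G ⊗[k] A), TensorProduct.equivFinsuppOfBasisRight b z j = cf (b.coord j) z := by
      intro z
      induction z using TensorProduct.induction_on with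
      | zero => simp
      | tmul r m => rw [TensorProduct.equivFinsuppOfBasisRight_apply_tmul_apply, cf_tmul]; rfl
      | add x y hx hy => simp only [map_add, Finsupp.add_apply, hx, hy]
    rw [show c j = coeff ρ (b.coord j) a from e Φ, mem_invAlg_iff_valAt]
    intro x t
    rw [valAt_coeff, valAt_coeff, map_mul, LinearEquiv.mul_apply, ha k t]
  let w : invAlg i ⊗[k] A := c.support.sum fun j => (⟨c j, hc j⟩ : invAlg i) ⊗ₜ[k] b j
  have hΦ : Φ = c.support.sum fun j => c j ⊗ₜ[k] b j := by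
    have := TensorProduct.equivFinsuppOfBasisRight_symm_apply b c
    rw [LinearEquiv.symm_apply_apply] at this
    exact this
  have hev : ∀ (C : Type u) [CommRing C] [Algebra k C] (y : pt k C ⟶ G),
      ev0 i y w = ρ.ρ C y ((1 : C) ⊗ₜ[k] a) := by
    intro C _ _ y
    have e : ρ.ρ C y ((1 : C) ⊗ₜ[k] a) = Wmap (valAt y) Φ := by
      rw [ρ.naturality, Wmap_tmul, map_one, ← eq_of_affine]
    rw [e, hΦ, map_sum, map_sum]
    refine Finset.sum_congr rfl fun j _ => ?_
    simp [ev0]
  refine ⟨w, fun R _ _ u => ?_, ?_⟩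
  · rw [Category.comp_id]
    refine evT_injective i R ?_
    rw [evT_rho, evT_tmul, evT_tmul, hev, hev, map_one]
    show ρ.ρ _ _ (((1 : R ⊗[k] Fn G ⊗[k] A)) * _) = (1 : R ⊗[k] Fn G ⊗[k] A) * _
    rw [_root_.one_mul, _root_.one_mul, ← LinearEquiv.mul_apply, ← map_mul, mul_inv_cancel_left]
  · rw [hev, map_one]
    simp

theorem finiteType_fixed [IsMonHom i] [Algebra.FiniteType k A] (hfg : (invAlg i).FG)
    (hG : VecGrp.IsReductiveGrp k G) (thmA : VecGrp.ReductiveInvariantsFG k) :
    Algebra.FiniteType k (ρ.fixedSubalgebra hρ i) := by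
  haveI : Algebra.FiniteType k (invAlg i) := (Subalgebra.fg_iff_finiteType _).1 hfg
  haveI : Algebra.FiniteType k (invAlg i ⊗[k] A) :=
    Algebra.FiniteType.trans (S := invAlg i) inferInstance inferInstance
  obtain ⟨s, hs, hle⟩ := thmA G hG _ (transGMod i hρ) (tensorGMod_isMult _ _) inferInstance
  classical
  let e1 : invAlg i ⊗[k] A →ₐ[k] A :=
    (Algebra.TensorProduct.lid k A).toAlgHom.comp (ev0 i (1 : pt k k ⟶ G))
  have he1 : ∀ w, e1 w = TensorProduct.lid k A (ev0 i (1 : pt k k ⟶ G) w) := fun w => rfl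
  refine (Subalgebra.fg_iff_finiteType _).1 ⟨s.image e1, le_antisymm (Algebra.adjoin_le ?_) ?_⟩
  · intro f hf
    obtain ⟨w, hw, rfl⟩ := Finset.mem_image.1 hf
    rw [he1]
    exact fixed_image i hρ (hs hw)
  · intro a ha
    obtain ⟨w, hw, rfl⟩ := exists_fixed_preimage i hρ (show a ∈ ρ.fixedUnder i from ha)
    rw [Finset.coe_image, ← AlgHom.map_adjoin, ← he1]
    exact ⟨w, hle hw, rfl⟩

end Transfer

end GrothLib.Induce27
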